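import Cfsg.Agent.F24U.Quo
import Cfsg.Agent.Fischer.AutE
import Cfsg.Agent.S2079

/-! A class that is locally the transvection class of `U₆(2)`, in a group that may be `Aut(Fi22)` (helper8). -/

set_option autoImplicit false

namespace Cfsg.Agent.F24U
open Cfsg.Agent.Fischer Subgroup

variable {G Γ : Type*} [Group G] [Group Γ]

theorem KU_fixP {S : Set G} (h : KU S) : FixP S := by
  obtain ⟨_, u⟩ := h
  obtain ⟨_, u'⟩ := F22.uk_dd _ F22.a_mem
  obtain ⟨f, k, -⟩ := u'.kmap u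
  refine fix_of_odd ?_
  rw [k.ncard, ← Dl_one, F22.ncL1 [_] (cl_cons.2 ⟨F22.a_mem, cl_nil _⟩) rfl]; decide

theorem loc22' [Finite G] {d d' : G} (hd : d * d = 1) (k : KU (Dd (conjugatesOf d) d))
    (zen : ∀ c, Commute c d → (∀ y ∈ Dd (conjugatesOf d) d, Commute c y) → c = 1 ∨ c = d)
    (hd' : d' ∈ Dd (conjugatesOf d) d) (un : ∀ c, Commute c (d * d') → Commute (c * d * c⁻¹) d) :
    ∃ S : Set (closure (conjugatesOf d)), B22 S ∧ ∀ y, y ∈ S ↔ y.1 ∈ conjugatesOf d := by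
  set D := conjugatesOf d
  have hx : d ∈ D := mem_conjugatesOf_self
  have hc : ∀ g, ∀ x ∈ D, g * x * g⁻¹ ∈ D := fun g _ => CM.conj_mem g
  have tr : ∀ x ∈ D, ∀ y ∈ D, ∃ g, g * x * g⁻¹ = y := fun x hx y hy => isConj_iff.1 (IsConj.trans (IsConj.symm hx) hy)
  obtain ⟨lam, u⟩ := id k
  have p : ∀ x ∈ D, KU (Dd D x) := fun x hx => by
    obtain ⟨g, rfl⟩ := isConj_iff.1 hx
    exact k.map (kmap_dd_conj hc u.wt g)
  have h : LW D := by
    refine ⟨fun x hx => ?_, hc, tr, fun x hx => (p x hx).elim fun _ u => u.wt, fun x hx => (p x hx).elim fun _ u => u.tr1,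
      fun x hx => (p x hx).elim fun _ u => u.noC, fun x hx => ?_, fun x hx => ?_, fun x hx y hy w hw v hv a b => ?_⟩
    · obtain ⟨g, rfl⟩ := isConj_iff.1 hx
      rw [conj_mul, hd, mul_one, mul_inv_cancel]
    · obtain ⟨_, u⟩ := p x hx
      exact ⟨_, _, u.cl_codes (L := [3, 12]) (by decide) (by decide)⟩
    · obtain ⟨g, rfl⟩ := isConj_iff.1 hx
      exact zen_conj hc u.wt zen g
    obtain ⟨q, hq, c⟩ := (p y hy).dom (X := Dd D y ∩ {u | Commute u x}) ⟨Set.inter_subset_left, by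
      obtain ⟨_, u⟩ := p y hy
      exact (u.wt.inter_commute x).conj, fun t ht q hq => by
        rw [dd_comm] at hq ⊢
        obtain ⟨_, u⟩ := p t ht.1.1
        obtain ⟨q, ⟨h1, h2⟩, h3⟩ := u.lr y (Dd_symm hy ht.1) x
          ⟨hx, fun e => a (e ▸ ht.1.2.2.symm), ht.2⟩ (fun c => a c.symm) q hq
        exact ⟨q, ⟨h1, ⟨h1.1.1.1, h1.1.2⟩, h2⟩, fun q' hq' => h3 q' ⟨hq'.1, hq'.2.2⟩⟩⟩ ⟨w, hw, b⟩ hv
    exact ⟨q, hq.1.1, hq.2, c⟩
  have e := h.dd_cp hx (LD.self hx)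
  obtain ⟨S, a, k1, k2, k3, k4, k5, k6⟩ := h.comp hx (Sep.of_dd (LD.self hx) (e ▸ k.sep))
  obtain ⟨f, k7, -⟩ := (k1.dd k2).symm
  rw [show (closure (Cp D d)).subtype a = d from k3, e] at k7
  have b := b22_of_ku k4 k5 k6 k2 (KU.map k7 k)
  obtain ⟨ψ, -⟩ := b.iso
  have sim : IsSimpleGroup Cfsg.Spor.Fi22 := by
    have := F22.b.k.simple
    exact (F22.b.k.quot.some).symm.isSimpleGroup
  have E := h.uniq hx (k1.fixP b.k.fixP) ψ.symm.isSimpleGroup hd' fun c c1 =>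
    h.nm hx (LD.self hx) (h.step hx (LD.self hx) (hc c _ hx) (un c c1).symm)
  have : ∀ T : Set G, T = D → ∀ S : Set (closure T), KMap (closure T).subtype S T → B22 S →
      ∃ S : Set (closure D), B22 S ∧ ∀ y, y ∈ S ↔ y.1 ∈ D := by
    rintro _ rfl S k b
    exact ⟨S, b, fun y => ⟨k.mem, fun m => let ⟨y', h1, h2⟩ := k.surj m; Subtype.ext h2 ▸ h1⟩⟩
  exact this _ E S k1 b

/-- An automorphism of `C` that respects `π` and `L` is inner on `L` modulo the kernel. -/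
theorem aut_inner {C P : Type*} [Group C] [Group P] (π : C →* Γ) (hs : Function.Surjective π) (L : Subgroup Γ) [L.Normal]
    (e : L ≃* P) (hb : Function.Surjective (conjE L e)) (φ : C ≃* C) (hk : π.ker.map (φ : C →* C) = π.ker)
    (hL : ∀ g, π (φ g) ∈ L ↔ π g ∈ L) : ∃ c : C, ∀ g, π g ∈ L → π (φ g) = π (c * g * c⁻¹) := by
  let q := QuotientGroup.quotientKerEquivOfSurjective π hs
  let ψ : Γ ≃* Γ := q.symm.trans ((QuotientGroup.congr _ _ φ hk).trans q)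
  have hψ : ∀ g, ψ (π g) = π (φ g) := fun g => by
    have : q.symm (π g) = (g : C ⧸ π.ker) := q.symm_apply_eq.2 rfl
    simp only [ψ, MulEquiv.trans_apply, this]; rfl
  have m : L.map (ψ : Γ →* Γ) = L := by
    ext y
    obtain ⟨y, rfl⟩ := ψ.surjective y
    obtain ⟨y, rfl⟩ := hs y
    rw [show ψ (π y) = (ψ : Γ →* Γ) (π y) from rfl, mem_map_iff_mem ψ.injective, ← hL]; exact (hψ y ▸ Iff.rfl)
  obtain ⟨c, hc⟩ := hb (MulAut.congr e ((ψ.subgroupMap L).trans (MulEquiv.subgroupCongr m)))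
  obtain ⟨c, rfl⟩ := hs c
  refine ⟨c, fun g hg => ?_⟩
  have := conjE_apply L e (π c) ⟨π g, hg⟩
  rw [hc] at this
  simp only [MulAut.congr_apply, MulEquiv.trans_apply, MulEquiv.symm_apply_apply] at this
  rw [← hψ, map_mul, map_mul, map_inv]
  exact congrArg Subtype.val (e.injective this)

theorem card_aut22 : Nat.card (MulAut Cfsg.Spor.Fi22) = 2 * Nat.card Cfsg.Spor.Fi22 := by
  rw [card_aut_eq F22.fl.z, Cfsg.Agent.S2079.result]

end Cfsg.Agent.F24U
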