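import Cfsg.Agent.F24U.Main
import Cfsg.Agent.F24U.L22

/-! Involutions of `YY ν`, and the elements that commute with `nu ν 59` modulo `nu ν 2` (helper8). -/

set_option autoImplicit false
set_option synthInstance.maxSize 4096

namespace Cfsg.Agent.F24U
open Cfsg.Agent.Comp Cfsg.Agent.Fischer Subgroup J4T F24T MulAction

variable {G : Type*} [Group G] {z p : G} {θ : ℕ → G} {μ : centralizer ({z} : Set G) →* MulAut (XV 12)}
  {x : ℕ → G} {ν : XV 11 →* G}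

theorem ck_pat : ∀ v < 2048, mD.testBit v = true → mD.testBit (v ^^^ 2) = true →
    v = 59 ∨ v = 57 ∨ v ^^^ 59 ∈ 64 :: L20 ∨ v ^^^ 57 ∈ 64 :: L20 := by decide +kernel
theorem ck_RW : ∀ m < 16, mulM (F24T.rcode m) cW = mulM cW (F24T.rcode m) := by decide +kernel
theorem e23 : nu ν 59 * nu ν 2 = nu ν 57 := nu_xor (by norm_num) (by norm_num)
theorem exV {g : G} (h : g ∈ ν.range) : ∃ v < 2048, nu ν v = g := by
  obtain ⟨w, rfl⟩ := h; exact ⟨w.val, w.lt, by rw [nu, XV.mk'_self]⟩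
theorem conj_iff_of {a b k : G} : IsConj a (k * b * k⁻¹) ↔ IsConj a b :=
  ⟨fun c => c.trans (isConj_iff.2 ⟨k, rfl⟩).symm, fun c => c.trans (isConj_iff.2 ⟨k, rfl⟩)⟩
theorem conj_E {k y e : G} (hk : k ∈ YY ν) (he : e ∈ EE ν) : k * (y * e) * k⁻¹ = k * y * k⁻¹ * e := by
  rw [mul_assoc (k * y), ← (EE_comm he hk).inv_right.eq]; group

namespace Hy
variable [Finite G] (B : Hy z p θ μ x ν)
include B

theorem exw (w : List ℕ) : ∃ n, ∀ v < 2048, n * nu ν v * n⁻¹ = nu ν (app (evalW mulM (invN 11) one11 LM4 w) v) := by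
  obtain ⟨a, ha, h1⟩ := isGrp11.evalW_mem B.codesM w
  obtain ⟨n, hn⟩ := B.toBt.real B.hy ha
  exact ⟨n, fun v hv => by rw [hn, h1.mk'_eq hv]⟩
theorem exs : ∃ s, s * nu ν 2 * s⁻¹ = nu ν 2 ∧ s * nu ν 59 * s⁻¹ = nu ν 57 :=
  let ⟨n, h⟩ := B.exw [0, 2]
  ⟨n, (h 2 (by norm_num)).trans (congrArg _ (by decide +kernel)), (h 59 (by norm_num)).trans (congrArg _ (by decide +kernel))⟩
theorem exa : ∃ s, s * nu ν 2 * s⁻¹ = nu ν 59 ∧ s * nu ν 59 * s⁻¹ = nu ν 2 :=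
  let ⟨n, h⟩ := B.exw [4, 0, 2]
  ⟨n, (h 2 (by norm_num)).trans (congrArg _ (by decide +kernel)), (h 59 (by norm_num)).trans (congrArg _ (by decide +kernel))⟩
theorem exq : ∃ s, s * nu ν 2 * s⁻¹ = nu ν 2 ∧ s * nu ν 59 * s⁻¹ = z * nu ν 59 :=
  have h := B.toBt.VR_E (e := 512) (by norm_num)
  ⟨_, (h.act (by norm_num)).trans (congrArg (nu ν) (by decide +kernel)), (h.act (by norm_num)).trans (by
    rw [← B.nz, nu_xor (by norm_num) (by norm_num)]; exact congrArg (nu ν) (by decide +kernel))⟩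

theorem L21 {v : ℕ} (hv : v ∈ 64 :: L20) : nu ν v ∈ DD z ν := by
  rcases List.mem_cons.1 hv with rfl | hv
  exacts [B.nz ▸ B.zD, (B.L20_mem hv).1]

theorem zenD {g : G} (h : ∀ y ∈ DD z ν, Commute g y) : g ∈ EE ν := by
  refine (B.zen fun y hy => h y hy.1).resolve_right fun m => ?_
  obtain ⟨_, u⟩ := B.ku
  obtain ⟨e, he, n⟩ := u.noC z B.zD
  have := (h e he).inv_left.mul_left (EE_comm m (B.DD_Y he))
  exact n (by simpa using this.symm)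

theorem cl_V {X : Set G} (hX : X ⊆ DD z ν) (hc : ∀ x ∈ X, ∀ y ∈ X, Commute x y) :
    ∃ k ∈ YY ν, ∀ x ∈ X, k * x * k⁻¹ ∈ ν.range := by
  obtain ⟨lam, u⟩ := B.ku
  obtain ⟨k1, h1, e1⟩ := u.base hX hc
  obtain ⟨k0, h0, e0⟩ := u.base (X := {y | ∃ v ∈ L20, nu ν v = y}) (by rintro _ ⟨v, hv, rfl⟩; exact (B.L20_mem hv).1)
    (by rintro _ ⟨v, -, rfl⟩ _ ⟨w, -, rfl⟩; exact nu_comm v w)
  rw [B.clD] at h0 h1
  refine ⟨k0 * k1⁻¹, mul_mem h0 (inv_mem h1), fun y hy => ?_⟩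
  obtain ⟨w, hw, rfl⟩ := e1 y hy
  rw [show ∀ a, k0 * k1⁻¹ * (k1 * a * k1⁻¹) * (k0 * k1⁻¹)⁻¹ = k0 * a * k0⁻¹ from fun a => by group]
  refine B.toBt.cent_V fun v => (mem_centralizer_singleton_iff.1 (B.V_le (K := centralizer {_}) (fun v hv => ?_) ⟨v, rfl⟩)).symm
  obtain ⟨w', hw', e⟩ := e0 _ ⟨v, hv, rfl⟩
  rw [e]
  exact mem_centralizer_singleton_iff.2 ((commute_conj_iff k0).2 ((u.cl_codes (L := B21) (by decide) fun _ h => h).2.2 _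
    (List.mem_map_of_mem hw') _ (List.mem_map_of_mem hw)))

theorem inv_V {y : G} (hy : y ∈ YY ν) (h : y * y = 1) : ∃ k ∈ YY ν, ∃ v < 2048, nu ν v = k * y * k⁻¹ := by
  obtain ⟨lam, u⟩ := B.ku
  obtain ⟨l, h1, -, h2⟩ := u.invP y (B.clD ▸ hy) fun a _ => h ▸ Commute.one_left a
  obtain ⟨k, hk, e⟩ := B.cl_V (X := {a | a ∈ l}) h1.2.1 h1.2.2
  refine ⟨k, hk, exV ?_⟩
  have h3 : l.prod ∈ ν.range.comap (MulAut.conj k).toMonoidHom := list_prod_mem e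
  have h4 := EE_V (B.zenD h2)
  rw [← mul_inv_eq_iff_eq_mul.2 (EE_comm (B.zenD h2) hk).symm.eq] at h4
  have := mul_mem h4 (inv_mem h3)
  simpa [mul_assoc] using this

theorem DD_of {y : G} (hy : y ∈ YY ν) (c : IsConj z y) (h : ∀ e ∈ [2, 59, 57], ¬ IsConj z (y * nu ν e)) : y ∈ DD z ν := by
  obtain ⟨k, hk, v, hv, e⟩ := B.inv_V hy (by
    obtain ⟨g, rfl⟩ := isConj_iff.1 c; rw [conj_mul, B.toFr.zz, mul_one, mul_inv_cancel])
  rw [← conj_iff_of (k := k), ← e] at c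
  have := DD_conj (inv_mem hk) (B.L21 (v := v) (List.mem_cons.2 (ck_L21 v hv (by_contra fun h => B.nconj (by simpa using h) c)
    (fun e => B.toFr.z1 (by rw [e] at c; exact isConj_one_left.1 (nu_zero (ν := ν) ▸ c)))
      fun a ha => or_iff_not_imp_left.2 fun n => ?_)))
  · rwa [e, show k⁻¹ * (k * y * k⁻¹) * k⁻¹⁻¹ = y by group] at this
  have l : a < 2048 := by simp at ha; omega
  refine B.conj_nu (Nat.xor_lt_two_pow (n := 11) hv l) (mt Nat.eq_of_xor_eq_zero n) ?_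
  rw [← nu_xor hv l, e, ← conj_E hk ⟨a, List.mem_cons_of_mem _ ha, rfl⟩, conj_iff_of]
  exact h a ha

theorem patV {y : G} (hy : y ∈ YY ν) (h : y * y = 1) (h1 : y ≠ 1) (h2 : y ≠ nu ν 2) (c1 : ¬ IsConj z y)
    (c2 : ¬ IsConj z (y * nu ν 2)) : y = nu ν 59 ∨ y = nu ν 57 ∨ ∃ a ∈ DD z ν, y = a * nu ν 59 ∨ y = a * nu ν 57 := by
  obtain ⟨k, hk, v, hv, e⟩ := B.inv_V hy h
  have k1 : ∀ a ∈ [0, 2, 59, 57], v = a → y = nu ν a := fun a ha e' => (conj_inj k).1 (by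
    rw [← e, e', mul_inv_eq_iff_eq_mul.2 (EE_comm ⟨a, ha, rfl⟩ hk).symm.eq])
  have k2 : ∀ a ∈ [0, 2, 59, 57], v ^^^ a ∈ 64 :: L20 → ∃ b ∈ DD z ν, y = b * nu ν a := fun a ha m => by
    refine ⟨_, DD_conj (inv_mem hk) (B.L21 m), ?_⟩
    rw [← nu_xor hv (by simp at ha; omega), e, ← conj_E hk ⟨a, ha, rfl⟩, show ∀ b, k⁻¹ * (k * b * k⁻¹) * k⁻¹⁻¹ = b from
      fun b => by group, mul_assoc, nu_sq, mul_one]
  rcases ck_pat v hv (B.conj_nu hv (fun e => h1 ((k1 0 (by simp) e).trans nu_zero)) (by rwa [e, conj_iff_of]))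
    (B.conj_nu (Nat.xor_lt_two_pow (n := 11) hv (by norm_num)) (fun e => h2 (k1 2 (by simp) (Nat.eq_of_xor_eq_zero e))) (by
      rwa [← nu_xor hv (by norm_num), e, ← conj_E hk ⟨2, by simp, rfl⟩, conj_iff_of])) with m | m | m | m
  exacts [.inl (k1 _ (by simp) m), .inr (.inl (k1 _ (by simp) m)), .inr (.inr ((k2 _ (by simp) m).imp fun _ m => ⟨m.1, .inl m.2⟩)),
    .inr (.inr ((k2 _ (by simp) m).imp fun _ m => ⟨m.1, .inr m.2⟩))]

omit B [Finite G] in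
theorem Y_norm {g y : G} (c : Commute g (nu ν 2)) (h : g * nu ν 59 * g⁻¹ = nu ν 59 ∨ g * nu ν 59 * g⁻¹ = nu ν 57)
    (hy : y ∈ YY ν) : g⁻¹ * y * g ∈ YY ν := by
  have c' := mul_inv_eq_iff_eq_mul.2 c.eq
  refine mem_YY.2 ⟨(commute_conj_iff g).1 ?_, (commute_conj_iff g).1 ?_⟩ <;>
    rw [show g * (g⁻¹ * y * g) * g⁻¹ = y by group]
  · rw [c']; exact (mem_YY.1 hy).1
  · rcases h with h | h <;> rw [h]
    exacts [(mem_YY.1 hy).2, (EE_comm ⟨57, by simp, rfl⟩ hy).symm]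

theorem DD_norm {g y : G} (c : Commute g (nu ν 2)) (h : g * nu ν 59 * g⁻¹ = nu ν 59 ∨ g * nu ν 59 * g⁻¹ = nu ν 57)
    (hy : y ∈ DD z ν) : g⁻¹ * y * g ∈ DD z ν := by
  have c' := mul_inv_eq_iff_eq_mul.2 c.eq
  obtain ⟨h1, h2⟩ := B.pat hy
  refine B.DD_of (Y_norm c h (B.DD_Y hy)) (by simpa using (conj_iff_of (k := g⁻¹)).2 h1) fun e he => ?_
  rw [← conj_iff_of (k := g), ← conj_mul, show g * (g⁻¹ * y * g) * g⁻¹ = y by group]
  have h3 : g * nu ν 57 * g⁻¹ = nu ν 57 ∨ g * nu ν 57 * g⁻¹ = nu ν 59 := by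
    rw [← e23, ← conj_mul, c']
    refine h.imp (fun h => by rw [h]) fun h => ?_
    rw [h, ← e23, mul_assoc, nu_sq, mul_one]
  simp only [List.mem_cons, List.not_mem_nil, or_false] at he
  rcases he with rfl | rfl | rfl
  · rw [c']; exact h2 _ (by simp)
  · rcases h with h | h <;> rw [h] <;> exact h2 _ (by simp)
  · rcases h3 with h | h <;> rw [h] <;> exact h2 _ (by simp)

theorem μW (g : centralizer ({z} : Set G)) : μ g * wA * (μ g)⁻¹ ∈ zpowers wA := by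
  obtain ⟨k, hk, e⟩ := B.frat _ (B.toSt.μ_mem g)
  obtain ⟨n, hn⟩ := (mem_normalizer_iff.1 hk p).1 (mem_zpowers p)
  refine ⟨n, ?_⟩
  rw [← e, ← B.toSt.μp, ← map_inv, ← map_mul, ← map_mul]
  exact (map_zpow μ _ n).symm.trans (congrArg μ (Subtype.ext hn))

theorem act_eq (g : centralizer ({z} : Set G)) {a b : ℕ} (ha : a < 4096) (hb : b < 4096) :
    (g * θ a * (g : G)⁻¹ = θ b → μ g (XV.mk' 12 a) = XV.mk' 12 b) ∧
      (μ g (XV.mk' 12 a) = XV.mk' 12 b → g * θ a * (g : G)⁻¹ = θ b ∨ g * θ a * (g : G)⁻¹ = θ b * z) := by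
  obtain ⟨c, hc⟩ := B.toSt.exists_IR g
  have l := app_lt c a
  have k : (g : G) * θ a * (g : G)⁻¹ = _ ∨ (g : G) * θ a * (g : G)⁻¹ = _ := B.act g c hc.1 a (by omega)
  rw [hc.1.mk'_eq ha]
  refine ⟨fun e => ?_, fun e => ?_⟩
  · rw [e] at k
    rcases k with k | k
    · rw [B.inj _ (by omega) _ (by omega) k]
    · have := B.inj _ (by omega) _ (Nat.xor_lt_two_pow (n := 13) (by omega) (by norm_num)) k
      have t := congrArg (·.testBit 12) this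
      simp only [Nat.testBit_xor, Nat.testBit_lt_two_pow (show b < 2 ^ 12 from hb),
        Nat.testBit_lt_two_pow (show app c a < 2 ^ 12 from l)] at t
      exact absurd t (by decide)
  · have := congrArg XV.val e
    rw [XV.mk'_val l, XV.mk'_val hb] at this
    rwa [this, B.toFr.θz (x := b) (by omega)] at k

theorem wA0 : wA (XV.mk' 12 3584) = XV.mk' 12 1792 := (IR_wA.1.mk'_eq (by norm_num)).trans (congrArg _ (by decide +kernel))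
theorem wA1 : wA (XV.mk' 12 1792) = XV.mk' 12 2304 := (IR_wA.1.mk'_eq (by norm_num)).trans (congrArg _ (by decide +kernel))
theorem e3 : nu ν 57 = θ 2304 := by rw [nu, B.toBt.νU (by norm_num), show F24T.ut 57 = 2304 by decide +kernel]

theorem unV {c : G} (h1 : Commute c z) (h2 : Commute c (nu ν 2)) : c * nu ν 59 * c⁻¹ ∈ ν.range := by
  have hH := mem_centralizer_singleton_iff.2 h1.eq
  have f := (B.act_eq ⟨c, hH⟩ (a := 3584) (b := 3584) (by norm_num) (by norm_num)).1 (B.e1 ▸ mul_inv_eq_iff_eq_mul.2 h2.eq)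
  have e : μ ⟨c, hH⟩ (XV.mk' 12 1792) = (μ ⟨c, hH⟩ * wA * (μ ⟨c, hH⟩)⁻¹) (XV.mk' 12 3584) := by
    rw [MulAut.mul_apply, MulAut.mul_apply, show (μ ⟨c, hH⟩)⁻¹ (XV.mk' 12 3584) = XV.mk' 12 3584 from
      (μ ⟨c, hH⟩).symm_apply_eq.2 f.symm, B.wA0]
  have k : ∀ b < 4096, θ b ∈ ν.range → μ ⟨c, hH⟩ (XV.mk' 12 1792) = XV.mk' 12 b → c * nu ν 59 * c⁻¹ ∈ ν.range :=
    fun b hb m e => by
      rw [B.e2]
      rcases (B.act_eq ⟨c, hH⟩ (by norm_num) hb).2 e with e | e <;> rw [e]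
      exacts [m, mul_mem m B.zV]
  rcases mem_W.1 (B.μW ⟨c, hH⟩) with h | h | h <;> rw [h] at e
  · exact k _ (by norm_num) ⟨_, B.e1⟩ e
  · exact k _ (by norm_num) ⟨_, B.e2⟩ (e.trans B.wA0)
  · exact k _ (by norm_num) ⟨_, B.e3⟩ (by rw [e, MulAut.mul_apply, B.wA0, B.wA1])

theorem noswap {g : G} (hg : Commute g (nu ν 2)) : g * nu ν 59 * g⁻¹ * nu ν 59 * (g * nu ν 59 * g⁻¹)⁻¹ ≠ nu ν 57 := by
  intro h
  have c : ∀ g, Commute g (nu ν 2) → Commute (g * nu ν 59 * g⁻¹) (nu ν 2) := fun g hg =>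
    (hg.mul_left (nu_comm _ _)).mul_left hg.inv_left
  have s : g * nu ν 59 * g⁻¹ * (g * nu ν 59 * g⁻¹) = 1 := by rw [conj_mul, nu_sq, mul_one, mul_inv_cancel]
  obtain ⟨lam, u⟩ := B.ku
  have n : ∀ a ∈ DD z ν, g * nu ν 59 * g⁻¹ * a * (g * nu ν 59 * g⁻¹)⁻¹ ∈ DD z ν := fun a ha => by
    have := B.DD_norm (c g hg) (.inr h) ha
    rwa [inv_eq_of_sq s] at this ⊢
  obtain ⟨_, ⟨k, hk, rfl⟩, e⟩ := KU_fixP B.ku _ (KMap.conj u.wt (mem_cstab.1 (mem_cstab_of_finite n))) fun a _ => by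
    rw [inv_eq_of_sq s]; simp only [← mul_assoc _ _ a, ← mul_assoc _ (_ * a), s, one_mul]; rw [mul_assoc, s, mul_one]
  have h' : k⁻¹ * g * nu ν 59 * (k⁻¹ * g)⁻¹ * nu ν 59 * (k⁻¹ * g * nu ν 59 * (k⁻¹ * g)⁻¹)⁻¹ = nu ν 57 := by
    refine (conj_inj k).1 ?_
    rw [mul_inv_eq_iff_eq_mul.2 (EE_comm ⟨57, by simp, rfl⟩ hk).symm.eq, ← h]
    nth_rw 5 [← mul_inv_eq_iff_eq_mul.2 (mem_YY.1 hk).2.eq]; group
  have cz : Commute (k⁻¹ * g * nu ν 59 * (k⁻¹ * g)⁻¹) z := (commute_conj_iff k).1 (by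
    rw [show k * (k⁻¹ * g * nu ν 59 * (k⁻¹ * g)⁻¹) * k⁻¹ = g * nu ν 59 * g⁻¹ by group]; exact mul_inv_eq_iff_eq_mul.1 e)
  replace hg := (mem_YY.1 hk).1.inv_left.mul_left hg
  generalize k⁻¹ * g = g at h' cz hg
  obtain ⟨k, hk, v, hv, e⟩ := B.inv_V (y := g⁻¹ * z * g) (mem_YY.2 ⟨(hg.inv_left.mul_left (comm_V B.zV ⟨_, rfl⟩)).mul_left hg,
    (commute_conj_iff g).1 (by rw [show g * (g⁻¹ * z * g) * g⁻¹ = z by group]; exact cz.symm)⟩)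
    (by rw [show g⁻¹ * z * g * (g⁻¹ * z * g) = g⁻¹ * (z * z) * g by group, B.toFr.zz]; simp)
  have cv : IsConj z (nu ν v) := isConj_iff.2 ⟨k * g⁻¹, by rw [e]; group⟩
  obtain ⟨n, ⟨a, -, hn⟩, e' | e'⟩ := B.toBt.orbN B.hy (v := XV.mk' 11 v) fun e => B.toFr.z1 (by
    rw [nu, e, map_one] at cv; exact isConj_one_left.1 cv)
  swap
  · exact B.nconj (XV.mk'_val (n := 11) hv ▸ e'.2) cv
  have hH : n⁻¹ * k * g⁻¹ ∈ centralizer {z} := mem_centralizer_singleton_iff.2 (mul_inv_eq_iff_eq_mul.1 ((conj_inj n).1 (by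
    rw [e']; refine Eq.trans ?_ e.symm; group)))
  have yH := mem_centralizer_singleton_iff.2 cz.eq
  obtain ⟨w, hw, e''⟩ := exV (ν := ν) ⟨a⁻¹ (XV.mk' 11 59), rfl⟩
  obtain ⟨wH, r⟩ := B.HR_nu hw
  have e1 : (⟨_, wH⟩ : centralizer {z}) = ⟨_, hH⟩ * ⟨_, yH⟩ * ⟨_, hH⟩⁻¹ := Subtype.ext ((conj_inj n).1 (by
    change n * nu ν w * n⁻¹ = n * (n⁻¹ * k * g⁻¹ * (g * nu ν 59 * g⁻¹) * (n⁻¹ * k * g⁻¹)⁻¹) * n⁻¹
    rw [e'', hn, MulAut.apply_inv_self, show ν (XV.mk' 11 59) = k * nu ν 59 * k⁻¹ from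
      (mul_inv_eq_iff_eq_mul.2 (mem_YY.1 hk).2.eq).symm]; group))
  have c1 : Commute (μ ⟨_, wH⟩) wA := isCanon_IR.func (isGrp_IR.mul r IR_wA)
    (ck_RW (w / 128) (by omega) ▸ isGrp_IR.mul IR_wA r)
  obtain ⟨m, hm⟩ := B.μW ⟨_, hH⟩
  have c2 := c1.zpow_right m
  rw [show wA ^ m = _ from hm, e1, map_mul, map_mul, map_inv, commute_conj_iff] at c2
  have f := (B.act_eq ⟨_, yH⟩ (a := 3584) (b := 3584) (by norm_num) (by norm_num)).1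
    (B.e1 ▸ mul_inv_eq_iff_eq_mul.2 (c g hg).eq)
  have f' := (B.act_eq ⟨_, yH⟩ (a := 1792) (b := 2304) (by norm_num) (by norm_num)).1 (B.e2 ▸ B.e3 ▸ h')
  rw [← B.wA0, ← MulAut.mul_apply, c2.eq, MulAut.mul_apply, f, B.wA0] at f'
  exact absurd (congrArg XV.val f') (by decide)

end Hy
end Cfsg.Agent.F24U
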