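import Cfsg.Agent.F24U.B22
import Cfsg.Agent.F24T.Main
import Cfsg.Agent.Fischer.Loc

/-! Groups of type `Aut(Fi24')`: an outer involution whose centraliser in `G₀` is `Fi23` (helper8). -/

set_option autoImplicit false

namespace Cfsg.Agent.F24U
open Cfsg.Agent.Comp Cfsg.Agent.Fischer Subgroup J4T F24T MulAction
open scoped Pointwise

theorem prim_image {G G' : Type*} [Group G] [Group G'] {D : Set G} (h : IsPrimitiveUnderConj D) (φ : G ≃* G') :
    IsPrimitiveUnderConj (φ '' D) := by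
  refine ⟨?_, ?_, fun B hB hb => ?_⟩
  · rintro _ ⟨a, ha, rfl⟩ _ ⟨b, hb, rfl⟩
    obtain ⟨g, rfl⟩ := h.1 a ha b hb
    exact ⟨φ g, by simp⟩
  · obtain ⟨a, ha, b, hb, n⟩ := h.2.1
    exact ⟨_, ⟨a, ha, rfl⟩, _, ⟨b, hb, rfl⟩, φ.injective.ne n⟩
  obtain ⟨B, rfl⟩ := φ.surjective.image_surjective B
  refine (h.2.2 B ((Set.image_subset_image_iff φ.injective).1 hB) fun g => ?_).imp (fun s => s.image φ) (congrArg _)
  have := hb (φ g)
  rwa [show (fun x => φ g * x * (φ g)⁻¹) '' (φ '' B) = φ '' ((fun x => g * x * g⁻¹) '' B) by simp [Set.image_image],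
    φ.injective.image_injective.eq_iff, Set.disjoint_image_iff φ.injective] at this

theorem b22_of_iso {Γ : Type*} [Group Γ] [Finite Γ] (ψ : Cfsg.Spor.Fi22 ≃* Γ) : B22 (ψ '' F22.D22) :=
  b22 (TC.group (TC.image F22.cls ψ)) (prim_image F22.prim ψ)
    (K22.ty ⟨_, KMap.of_equiv F22.wt ψ rfl⟩ (center_eq_bot_of_equiv ψ.symm F22.fl.z))

theorem quot_of_hom {K P : Type*} [Group K] [Group P] {t : K} (ht : t * t = 1) (ρ : centralizer ({t} : Set K) →* P)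
    (h1 : Function.Surjective ρ) (h2 : ∀ g, ρ g = 1 ↔ g.1 = 1 ∨ g.1 = t) :
    ∃ _ : ((zpowers t).subgroupOf (centralizer {t})).Normal,
      Nonempty (centralizer {t} ⧸ (zpowers t).subgroupOf (centralizer {t}) ≃* P) := by
  have : (zpowers t).subgroupOf (centralizer {t}) = ρ.ker := by
    ext g
    rw [MonoidHom.mem_ker, h2, mem_subgroupOf]
    refine ⟨mem_zpowers_invol ht, ?_⟩
    rintro (e | e) <;> rw [e]
    exacts [one_mem _, mem_zpowers _]
  rw [this]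
  exact ⟨inferInstance, ⟨QuotientGroup.quotientKerEquivOfSurjective ρ h1⟩⟩

variable {X : Type*} [Group X] [Finite X] {G₀ : Subgroup X} {z p : G₀} {θ : ℕ → G₀}
  {μ : centralizer ({z} : Set G₀) →* MulAut (XV 12)} {x : ℕ → G₀} {ν : XV 11 →* G₀}

namespace Hy
variable (B : Hy z p θ μ x ν) (hidx : G₀.index = 2)
include B hidx

theorem exx0 (hc : ∃ P : Sylow 2 G₀, z ∈ (P : Subgroup G₀) ∧ ∀ x ∈ (P : Subgroup G₀), Commute x z) :
    ∃ y ∉ G₀, Commute y (z : X) := by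
  have := normal_of_index_eq_two hidx
  have := Fact.mk Nat.prime_two
  obtain ⟨P, -, hP⟩ := hc
  obtain ⟨y, hy⟩ : ∃ y, y ∉ G₀ := by
    by_contra! h
    rw [(eq_top_iff (a := G₀)).2 fun y _ => h y, index_top] at hidx; omega
  obtain ⟨g, hg⟩ := exists_smul_eq G₀ ((MulAut.conjNormal y : MulAut G₀) • P) P
  have hQ : twoCoreOfCentralizer z ≤ P := le_sup_right.trans (P.is_maximal' (P.isPGroup'.to_sup_of_normal_right'
    (IsPGroup.of_card (n := 13) B.toSt.card_E) fun a ha => mem_normalizer_fintype fun q hq =>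
      B.toSt.le.conj_mem (hP a ha) hq) le_sup_left).le
  have := B.toSt.eq_of_cent (g := g * MulAut.conjNormal y z * g⁻¹) fun b hb => by
    have m := hQ (B.toSt.θE hb)
    rw [← hg, Sylow.smul_def, Sylow.pointwise_smul_def, Sylow.pointwise_smul_def] at m
    obtain ⟨_, ⟨a, ha, rfl⟩, e⟩ := m
    rw [← e]
    exact mul_inv_eq_iff_eq_mul.2 ((commute_conj_iff g).2 ((hP a ha).symm.map (MulAut.conjNormal y : MulAut G₀))).eq
  rcases this with e | e
  · exact absurd ((map_eq_one_iff _ (MulAut.conjNormal y : MulAut G₀).injective).1 (conj_eq_one_iff.1 e)) B.toFr.z1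
  refine ⟨g * y, fun m => hy (by simpa using mul_mem (inv_mem g.2) m), mul_inv_eq_iff_eq_mul.1 ?_⟩
  simpa [mul_assoc] using congrArg Subtype.val e

variable (hFX : (generalizedFittingSubgroup (centralizer ({(z : X)} : Set X))).map (Subgroup.subtype _) =
  (twoCoreOfCentralizer z).map G₀.subtype)
include hFX

omit hidx in
theorem centQ {y : X} (h : ∀ q ∈ twoCoreOfCentralizer z, Commute y q) : y ∈ G₀ := by
  have hy := mem_centralizer_singleton_iff.2 (h z B.toSt.es.zQ).eq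
  have := Sig.centralizer_fstar_le (show (⟨y, hy⟩ : centralizer {(z : X)}) ∈ _ from fun a ha => by
    obtain ⟨q, hq, e⟩ := hFX.le ⟨a, ha, rfl⟩
    exact Subtype.ext (show a.1 * y = y * a.1 from ((show q.1 = a.1 from e) ▸ h q hq).symm.eq))
  exact map_subtype_le _ (hFX.le ⟨_, this, rfl⟩)

theorem exx (hc : ∃ P : Sylow 2 G₀, z ∈ (P : Subgroup G₀) ∧ ∀ x ∈ (P : Subgroup G₀), Commute x z) :
    ∃ y ∉ G₀, Commute y ((nu ν 2 : G₀) : X) := by
  have := normal_of_index_eq_two hidx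
  obtain ⟨y, hy, c⟩ := B.exx0 hidx hc
  have e : (MulAut.conjNormal y : MulAut G₀) z = z := Subtype.ext (mul_inv_eq_iff_eq_mul.2 c.eq)
  obtain ⟨a, ha, e'⟩ := hFX.ge ⟨_, B.EE_Q ⟨2, by simp, rfl⟩, rfl⟩
  obtain ⟨q, hq, e''⟩ := hFX.le ⟨_, (inferInstance : (generalizedFittingSubgroup _).Normal).conj_mem a ha
    ⟨y, mem_centralizer_singleton_iff.2 c.eq⟩, rfl⟩
  obtain rfl : (MulAut.conjNormal y : MulAut G₀) (nu ν 2) = q := Subtype.ext (by
    rw [show q.1 = _ from e'', MulAut.conjNormal_apply, ← show a.1 = nu ν 2 from e']; rfl)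
  obtain ⟨k, -, hk⟩ := B.conj_t hq (by
      rw [MulEquiv.orderOf_eq]
      exact orderOf_of_sq (nu_sq 2) fun e => absurd (B.nu_inj (by norm_num) (by norm_num) (e.trans nu_zero.symm)) (by norm_num))
    fun h => B.nconj (v := 2) (by decide +kernel) (by
      have := (MulAut.conjNormal y : MulAut G₀).symm.toMonoidHom.map_isConj (e ▸ h)
      simpa using this)
  refine ⟨(k : X)⁻¹ * y, fun m => hy (by simpa using mul_mem k.2 m), mul_inv_eq_iff_eq_mul.1 ?_⟩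
  have := congrArg Subtype.val hk
  simp only [coe_mul, coe_inv, MulAut.conjNormal_apply] at this
  rw [show (k : X)⁻¹ * y * nu ν 2 * ((k : X)⁻¹ * y)⁻¹ = (k : X)⁻¹ * (y * nu ν 2 * y⁻¹) * k by group, ← this]; group

theorem exd (hc : ∃ P : Sylow 2 G₀, z ∈ (P : Subgroup G₀) ∧ ∀ x ∈ (P : Subgroup G₀), Commute x z)
    {L : Subgroup (CT ν)} (R : R22 (nC ν 2) L) (hY : ∀ g : CT ν, g.1 ∈ YY ν → g ∈ L) :
    ∃ d ∉ G₀, d * d = 1 ∧ (∀ l ∈ L, Commute d l) ∧ (∀ s ∉ L, s * d * (s : X)⁻¹ = d * nu ν 2) ∧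
      ∃ a : G₀, Commute d a ∧ a * nu ν 2 * a⁻¹ = nu ν 59 := by
  have := normal_of_index_eq_two hidx
  have hL := normal_of_index_eq_two R.index
  have one : ∀ g ∈ G₀, (∀ l ∈ L, Commute g l) → g = 1 ∨ g = nu ν 2 := fun g hg h =>
    (R.cent ⟨⟨g, hg⟩, mem_CT.2 (Subtype.ext (h _ R.mem))⟩ fun l hl => Subtype.ext (Subtype.ext (h l hl))).imp
      (congrArg fun a : CT ν => a.1.1) (congrArg fun a : CT ν => a.1.1)
  have m2 : ∀ {d d'}, d ∉ G₀ → d' ∉ G₀ → d⁻¹ * d' ∈ G₀ := fun h h' => by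
    rw [mul_mem_iff_of_index_two hidx, inv_mem_iff]; exact iff_of_false h h'
  have mc : ∀ {d} (g : G₀), d ∉ G₀ → g * d * (g : X)⁻¹ ∉ G₀ := fun g h m => h (by
    simpa [mul_assoc] using mul_mem (mul_mem (inv_mem g.2) m) g.2)
  obtain ⟨a, a1, a2⟩ := B.exa
  have n : ∀ v < 2048, ∀ w < 2048, nu ν v = nu ν w → v = w := fun v hv w hw => B.nu_inj hv hw
  have key : ∀ d ∉ G₀, (∀ l ∈ L, Commute d l) → d * d = 1 ∧ (Commute d a ∨ Commute (d * nu ν 2) a) := fun d hd h => by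
    have hY' : ∀ y ∈ YY ν, Commute d y := fun y hy => h ⟨y, Y_CT hy⟩ (hY _ hy)
    obtain ⟨v, hv, e⟩ := B.zenD (g := ⟨_, m2 hd (mc a hd)⟩) fun y hy => Subtype.ext ((hY' y (B.DD_Y hy)).inv_left.mul_left (by
      rw [show y.1 = a * (a⁻¹ * y * a : G₀) * (a : X)⁻¹ by simp [mul_assoc], commute_conj_iff]
      refine hY' _ (mem_YY.2 ⟨(commute_conj_iff a).1 ?_, (commute_conj_iff a).1 ?_⟩) <;>
        rw [show a * (a⁻¹ * y * a) * a⁻¹ = y by group]
      exacts [a1 ▸ (mem_YY.1 (B.DD_Y hy)).2, a2 ▸ (mem_YY.1 (B.DD_Y hy)).1])).eq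
    replace e : a * d * (a : X)⁻¹ = d * nu ν v := by rw [congrArg Subtype.val e]; simp
    have cv : ∀ v, Commute d ((nu ν v : G₀) : X) := fun v => hY' _ (V_YY ⟨_, rfl⟩)
    have ca : ∀ v w, a * nu ν v * a⁻¹ = nu ν w → a * ((nu ν v : G₀) : X) * (a : X)⁻¹ = nu ν w := fun v w e => congrArg Subtype.val e
    have a3 : a * nu ν 57 * a⁻¹ = nu ν 57 := by rw [← e23, ← conj_mul, a1, a2, (nu_comm 2 59).eq]
    refine ⟨(one _ ((mul_mem_iff_of_index_two hidx).2 Iff.rfl) fun l hl => (h l hl).mul_left (h l hl)).resolve_right fun s => ?_, ?_⟩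
    · have : a * d * (a : X)⁻¹ * (a * d * (a : X)⁻¹) = a * (d * d) * (a : X)⁻¹ := conj_mul
      rw [e, (cv v).symm.mul_mul_mul_comm, ← coe_mul, nu_sq, s, ca _ _ a1] at this
      exact absurd (n 2 (by norm_num) 59 (by norm_num) (Subtype.ext (by simpa using this))) (by norm_num)
    have : a * a ∈ YY ν := mem_YY.2 ⟨mul_inv_eq_iff_eq_mul.1 (by nth_rw 2 [← a2]; rw [← a1]; group),
      mul_inv_eq_iff_eq_mul.1 (by nth_rw 2 [← a1]; rw [← a2]; group)⟩
    have e2 : nu ν v * (a * nu ν v * a⁻¹) = 1 := Subtype.ext (mul_left_cancel (a := d) (by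
      have := mul_inv_eq_iff_eq_mul.2 (hY' _ this).symm.eq
      rw [show ((a * a : G₀) : X) * d * ((a * a : G₀) : X)⁻¹ = a * (a * d * (a : X)⁻¹) * (a : X)⁻¹ by simp [mul_assoc], e,
        ← conj_mul, e] at this
      simpa [mul_assoc] using this))
    simp only [List.mem_cons, List.not_mem_nil, or_false] at hv
    rcases hv with rfl | rfl | rfl | rfl
    · exact .inl (mul_inv_eq_iff_eq_mul.1 (by simpa [nu_zero] using e)).symm
    · rw [a1, nu_xor (by norm_num) (by norm_num), ← nu_zero] at e2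
      exact absurd (n _ (by decide) _ (by norm_num) e2) (by decide)
    · rw [a2, nu_xor (by norm_num) (by norm_num), ← nu_zero] at e2
      exact absurd (n _ (by decide) _ (by norm_num) e2) (by decide)
    · refine .inr (Commute.symm (mul_inv_eq_iff_eq_mul.1 ?_))
      rw [← conj_mul, e, ca _ _ a1, mul_assoc, ← coe_mul, nu_xor (by norm_num) (by norm_num)]; rfl
  obtain ⟨d, hd, h, ca⟩ : ∃ d ∉ G₀, (∀ l ∈ L, Commute d l) ∧ Commute d a := by
    obtain ⟨y, hy, c⟩ := B.exx hidx hFX hc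
    obtain ⟨e, he⟩ := cent_equiv (MulAut.conjNormal y : MulAut G₀) (a := nu ν 2) (b := nu ν 2)
      (Subtype.ext (mul_inv_eq_iff_eq_mul.2 c.eq))
    obtain ⟨c, hc⟩ := R.inn e (Subtype.ext ((he _).trans (Subtype.ext (mul_inv_eq_iff_eq_mul.2 c.eq))))
    have h1 : (c : X)⁻¹ * y ∉ G₀ := fun m => hy (by simpa using mul_mem c.1.2 m)
    have h2 : ∀ l ∈ L, Commute ((c : X)⁻¹ * y) l := fun l hl => mul_inv_eq_iff_eq_mul.1 (by
      have := congrArg Subtype.val ((he l).symm.trans (congrArg Subtype.val (hc l hl)))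
      simp only [coe_mul, coe_inv, MulAut.conjNormal_apply] at this
      rw [show (c : X)⁻¹ * y * l * ((c : X)⁻¹ * y)⁻¹ = (c : X)⁻¹ * (y * l * y⁻¹) * c by group, this]; group)
    rcases (key _ h1 h2).2 with k | k
    · exact ⟨_, h1, h2, k⟩
    · exact ⟨_, fun m => h1 (by simpa using mul_mem m (inv_mem (nu ν 2).2)), fun l hl => (h2 l hl).mul_left
        ((mem_CT.1 l.2).symm.map G₀.subtype), k⟩
  refine ⟨d, hd, (key d hd h).1, h, fun s hs => ?_, a, ca, a1⟩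
  rcases one _ (m2 hd (mc s hd)) fun l hl => (h l hl).inv_left.mul_left (by
    rw [show (l : X) = s * (s⁻¹ * l * s : CT ν) * (s : X)⁻¹ by simp [mul_assoc], commute_conj_iff]
    exact h _ (by simpa using hL.conj_mem l hl s⁻¹)) with e | e
  swap
  · rw [← e]; simp
  have k1 : ∀ g : G₀, Commute g (nu ν 2) → Commute d g := fun g hg => by
    by_cases m : (⟨g, mem_CT.2 hg⟩ : CT ν) ∈ L
    · exact h _ m
    have := (show Commute d (s : X) from (mul_inv_eq_iff_eq_mul.1 (inv_mul_eq_one.1 e).symm).symm).mul_right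
      (h (s⁻¹ * ⟨g, mem_CT.2 hg⟩) (by rw [mul_mem_iff_of_index_two R.index, inv_mem_iff]; exact iff_of_false hs m))
    simpa using this
  have V := B.toBt.VR_E (e := 768) (by norm_num)
  have q1 : θ 768 * nu ν 2 * (θ 768)⁻¹ = nu ν 2 * z := (V.act (by norm_num)).trans (by
    rw [← B.nz, nu_xor (by norm_num) (by norm_num)]; exact congrArg (nu ν) (by decide +kernel))
  have q2 : Commute d (θ 768) := by
    have := k1 (a⁻¹ * θ 768 * a) ((commute_conj_iff a).1 (by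
      rw [a1, show a * (a⁻¹ * θ 768 * a) * a⁻¹ = θ 768 by group]
      exact mul_inv_eq_iff_eq_mul.1 ((V.act (by norm_num)).trans (congrArg (nu ν) (by decide +kernel)))))
    simpa [mul_assoc] using (ca.mul_right this).mul_right ca.inv_right
  refine absurd (B.centQ hFX fun q hq => ?_) hd
  rcases B.toSt.es.comm q hq _ (B.EE_Q ⟨2, by simp, rfl⟩) with e | e
  · exact k1 q (mul_inv_eq_iff_eq_mul.1 e)
  · have := q2.mul_right (k1 ((θ 768)⁻¹ * q) (mul_inv_eq_iff_eq_mul.1 (by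
      rw [show ∀ b, (θ 768)⁻¹ * q * b * ((θ 768)⁻¹ * q)⁻¹ = (θ 768)⁻¹ * (q * b * q⁻¹) * θ 768 from fun b => by group, e, ← q1]
      group)))
    simpa using this

theorem aut (hc : ∃ P : Sylow 2 G₀, z ∈ (P : Subgroup G₀) ∧ ∀ x ∈ (P : Subgroup G₀), Commute x z) :
    ∃ d : X, d * d = 1 ∧ d ∉ G₀ ∧ Commute d (z : X) ∧ ∃ t : ↥(G₀ ⊓ centralizer {d}), (B23 (conjugatesOf t) ∧
      (∀ c : X, Commute c (t : X) → c * d * c⁻¹ = d ∨ c * d * c⁻¹ = d * t) ∧ ∃ s ∈ G₀, Commute s (t : X) ∧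
        s * d * s⁻¹ = d * t ∧ ∃ u ∈ Dd (conjugatesOf t) t, s * u * s⁻¹ = (t : X) * u) ∧
      ∃ _ : ((zpowers t).subgroupOf (centralizer {t})).Normal,
        Nonempty (centralizer {t} ⧸ (zpowers t).subgroupOf (centralizer {t}) ≃* Cfsg.Spor.Fi22) := by
  obtain ⟨L, R, hY, hs⟩ := B.r22
  obtain ⟨d, hd, d2, h, h', a, ca, a1⟩ := B.exd hidx hFX hc R hY
  have n : ∀ v < 2048, ∀ w < 2048, nu ν v = nu ν w → v = w := fun v hv w hw => B.nu_inj hv hw
  have t1 : nu ν 2 ≠ 1 := fun e => absurd (n _ (by norm_num) _ (by norm_num) (e.trans nu_zero.symm)) (by norm_num)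
  have mk : ∀ {g : G₀}, Commute d g → g.1 ∈ G₀ ⊓ centralizer {d} := fun {g} c =>
    ⟨g.2, mem_centralizer_singleton_iff.2 c.symm⟩
  have cv : ∀ v, Commute d (nu ν v : G₀) := fun v => h (nC ν v) (hY _ (V_YY ⟨_, rfl⟩))
  let t : ↥(G₀ ⊓ centralizer {d}) := ⟨_, mk (cv 2)⟩
  have t2 : t * t = 1 := Subtype.ext (congrArg Subtype.val (nu_sq (ν := ν) 2) :)
  have ot : orderOf t = 2 := orderOf_of_sq t2 fun e => t1 (Subtype.ext (congrArg Subtype.val e :))
  let j : L →* centralizer ({t} : Set ↥(G₀ ⊓ centralizer {d})) := MonoidHom.mk' (fun l => ⟨⟨_, mk (h l l.2)⟩,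
    mem_centralizer_singleton_iff.2 (Subtype.ext (congrArg Subtype.val (mem_CT.1 l.1.2).eq :))⟩) fun _ _ => rfl
  have jb : Function.Bijective j := ⟨fun a b e => Subtype.ext (Subtype.ext (Subtype.ext (congrArg (·.1.1) e))), fun g => by
    let g' : CT ν := ⟨⟨g.1.1, g.1.2.1⟩, mem_CT.2 (Subtype.ext (congrArg Subtype.val (mem_centralizer_singleton_iff.1 g.2) :))⟩
    refine ⟨⟨g', by_contra fun m => t1 (Subtype.ext ?_)⟩, rfl⟩
    have := h' g' m
    rw [mul_inv_eq_iff_eq_mul.2 (show (g' : X) * d = d * g' from mem_centralizer_singleton_iff.1 g.1.2.2)] at this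
    simpa using this⟩
  obtain ⟨ρ, ρ1, ρ2⟩ := R.rho
  obtain ⟨hn, ⟨e⟩⟩ := quot_of_hom t2 (ρ.comp (MulEquiv.ofBijective j jb).symm) (ρ1.comp (MulEquiv.ofBijective j jb).symm.surjective)
    fun g => by
      obtain ⟨g, rfl⟩ := (MulEquiv.ofBijective j jb).surjective g
      rw [MonoidHom.comp_apply, MonoidHom.coe_coe, MulEquiv.symm_apply_apply, ρ2]
      simp only [Subtype.ext_iff]; rfl
  have ea : (⟨_, mk ca⟩ : ↥(G₀ ⊓ centralizer {d})) * t * (⟨_, mk ca⟩ : ↥(G₀ ⊓ centralizer {d}))⁻¹ = ⟨_, mk (cv 59)⟩ :=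
    Subtype.ext (congrArg Subtype.val a1 :)
  have mu : (⟨_, mk (cv 59)⟩ : ↥(G₀ ⊓ centralizer {d})) ∈ Dd (conjugatesOf t) t := ⟨isConj_iff.2 ⟨_, ea⟩,
    fun e => absurd (n 59 (by norm_num) 2 (by norm_num) (Subtype.ext (congrArg Subtype.val e :))) (by norm_num),
    Subtype.ext (congrArg Subtype.val (nu_comm (ν := ν) 2 59).eq :)⟩
  obtain ⟨s, s1, s2⟩ := B.exs
  have sc := mem_CT.2 (mul_inv_eq_iff_eq_mul.1 s1)
  have k : ∀ c ∈ G₀, Commute c (t : X) → c * d * c⁻¹ = d ∨ c * d * c⁻¹ = d * t := fun c hc e => by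
    by_cases m : (⟨⟨c, hc⟩, mem_CT.2 (Subtype.ext e)⟩ : CT ν) ∈ L
    exacts [.inl (mul_inv_eq_iff_eq_mul.2 (h _ m).symm), .inr (h' _ m)]
  refine ⟨d, d2, hd, B.nz ▸ cv 64, t, ⟨main23 ot (Sig.qs_of_mulEquiv R.qs (MulEquiv.ofBijective j jb)) e
    ⟨_, ea ▸ mem_centralizer_singleton_iff.2 mu.2.2.symm, ea ▸ mu.2.1⟩, fun c e => ?_, s, s.2, congrArg Subtype.val (mem_CT.1 sc).eq,
      h' ⟨s, sc⟩ (hs _ s2), _, mu, congrArg Subtype.val (s2.trans (e23.symm.trans (nu_comm 59 2).eq))⟩, hn, ⟨e⟩⟩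
  by_cases m : c ∈ G₀
  · exact k c m e
  · simpa [mul_assoc] using k (c * d) ((mul_mem_iff_of_index_two hidx).2 (iff_of_false m hd)) (e.mul_left (cv 2))

end Hy

theorem aut' (G₀ : Subgroup X) (hidx : G₀.index = 2) (z : G₀) (Q : Subgroup (centralizer ({z} : Set G₀))) [Q.Normal]
    (hF : IsOfLargeFischerTypeAt z Q)
    (hcentral : ∃ P : Sylow 2 G₀, z ∈ (P : Subgroup G₀) ∧ ∀ x ∈ (P : Subgroup G₀), Commute x z)
    (hFX : (generalizedFittingSubgroup (centralizer ({(z : X)} : Set X))).map (Subgroup.subtype _) =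
      (Q.map (Subgroup.subtype _)).map G₀.subtype) :
    ∃ d : X, d * d = 1 ∧ d ∉ G₀ ∧ Commute d (z : X) ∧ ∃ t : ↥(G₀ ⊓ centralizer {d}), (B23 (conjugatesOf t) ∧
      (∀ c : X, Commute c (t : X) → c * d * c⁻¹ = d ∨ c * d * c⁻¹ = d * t) ∧ ∃ s ∈ G₀, Commute s (t : X) ∧
        s * d * s⁻¹ = d * t ∧ ∃ u ∈ Dd (conjugatesOf t) t, s * u * s⁻¹ = (t : X) * u) ∧
      ∃ _ : ((zpowers t).subgroupOf (centralizer {t})).Normal,
        Nonempty (centralizer {t} ⧸ (zpowers t).subgroupOf (centralizer {t}) ≃* Cfsg.Spor.Fi22) := by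
  obtain ⟨hQ, p, θ, μ, x, ν, g, B, hg, hy⟩ := F24T.main hF
  exact (⟨B, hy, isConj_iff.2 ⟨g, hg⟩⟩ : Hy z p θ μ x ν).aut hidx (hQ ▸ hFX) hcentral

theorem aut23 (G₀ : Subgroup X) (hidx : G₀.index = 2) (z : G₀) (Q : Subgroup (centralizer ({z} : Set G₀))) [Q.Normal]
    (hF : IsOfLargeFischerTypeAt z Q)
    (hcentral : ∃ P : Sylow 2 G₀, z ∈ (P : Subgroup G₀) ∧ ∀ x ∈ (P : Subgroup G₀), Commute x z)
    (hFX : (generalizedFittingSubgroup (centralizer ({(z : X)} : Set X))).map (Subgroup.subtype _) =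
      (Q.map (Subgroup.subtype _)).map G₀.subtype) :
    ∃ d : X, d * d = 1 ∧ d ∉ G₀ ∧ Commute d (z : X) ∧ ∃ t : ↥(G₀ ⊓ centralizer {d}), B23 (conjugatesOf t) ∧
      (∀ c : X, Commute c (t : X) → c * d * c⁻¹ = d ∨ c * d * c⁻¹ = d * t) ∧ ∃ s ∈ G₀, Commute s (t : X) ∧
        s * d * s⁻¹ = d * t ∧ ∃ u ∈ Dd (conjugatesOf t) t, s * u * s⁻¹ = (t : X) * u :=
  let ⟨d, h1, h2, h3, t, h4, _⟩ := aut' G₀ hidx z Q hF hcentral hFX; ⟨d, h1, h2, h3, t, h4⟩

end Cfsg.Agent.F24U
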