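import Cfsg.Agent.F24U.A22

/-! The centraliser of `t = nu ν 2` modulo `t` is `Aut(Fi22)` (helper8). -/

set_option autoImplicit false

namespace Cfsg.Agent.F24U
open Cfsg.Agent.Comp Cfsg.Agent.Fischer Subgroup J4T F24T MulAction
open scoped commutatorElement

variable {G : Type*} [Group G] {z p : G} {θ : ℕ → G} {μ : centralizer ({z} : Set G) →* MulAut (XV 12)}
  {x : ℕ → G} {ν : XV 11 →* G}

theorem kmap_pext {Γ : Type*} [Group Γ] {H : Subgroup G} {π : H →* Γ} {T : Set G} (w : WT T) (h1 : T ⊆ H)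
    (inj : ∀ y y' : H, y.1 ∈ T → y'.1 ∈ T → π y = π y' → y = y') : KMap (pext π) T (π '' {x : H | (x : G) ∈ T}) := by
  refine ⟨w, (w.subtype H).image π, ⟨fun y hy => ⟨⟨y, h1 hy⟩, hy, (pext_mk _).symm⟩, fun y hy y' hy' e => ?_, ?_⟩,
    fun a ha b hb => ?_⟩
  · rw [pext_mk (h1 hy), pext_mk (h1 hy')] at e
    exact congrArg Subtype.val (inj _ _ hy hy' e)
  · rintro _ ⟨y, hy, rfl⟩; exact ⟨y, hy, pext_coe y⟩
  · rw [pext_mk (h1 ha), pext_mk (h1 hb), pext_mk (h1 (w.conj a ha b hb)), ← map_mul, ← map_mul]; rfl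

theorem comm_cen {A B e f : G} (he : ∀ g, g * e = e * g) (hf : ∀ g, g * f = f * g) :
    A * e * (B * f) * (A * e)⁻¹ * (B * f)⁻¹ = A * B * A⁻¹ * B⁻¹ :=
  calc _ = A * (e * (B * f) * e⁻¹) * A⁻¹ * (B * f)⁻¹ := by group
    _ = A * B * (f * A⁻¹ * f⁻¹) * B⁻¹ := by rw [← he, mul_inv_cancel_right]; group
    _ = _ := by rw [← hf, mul_inv_cancel_right]

abbrev CT (ν : XV 11 →* G) : Subgroup G := centralizer {nu ν 2}
theorem mem_CT {g : G} : g ∈ CT ν ↔ Commute g (nu ν 2) := mem_centralizer_singleton_iff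
theorem Y_CT : YY ν ≤ CT ν := fun _ h => mem_CT.2 (mem_YY.1 h).1
abbrev nC (ν : XV 11 →* G) (v : ℕ) : CT ν := ⟨nu ν v, mem_CT.2 (nu_comm _ _)⟩

/-- The structure of the centraliser `K` of an involution `τ` of type `2A`. -/
structure R22 {K : Type*} [Group K] (τ : K) (L : Subgroup K) : Prop where
  index : L.index = 2
  qs : IsQuasisimple L
  mem : τ ∈ L
  cent : ∀ c, (∀ l ∈ L, Commute c l) → c = 1 ∨ c = τ
  rho : ∃ ρ : L →* Cfsg.Spor.Fi22, Function.Surjective ρ ∧ ∀ g, ρ g = 1 ↔ g.1 = 1 ∨ g.1 = τ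
  aut : ∃ π : K →* MulAut Cfsg.Spor.Fi22, Function.Surjective π ∧ ∀ g, π g = 1 ↔ g = 1 ∨ g = τ
  inn : ∀ φ : K ≃* K, φ τ = τ → ∃ c, ∀ l ∈ L, φ l = c * l * c⁻¹

theorem R22.map {K K' : Type*} [Group K] [Group K'] {τ : K} {τ' : K'} {L : Subgroup K} (h : R22 τ L) (e : K ≃* K')
    (he : e τ = τ') : R22 τ' (L.map (e : K →* K')) := by
  subst he
  have m : ∀ g, e g ∈ L.map (e : K →* K') ↔ g ∈ L := fun g => mem_map_iff_mem (f := (e : K →* K')) e.injective
  obtain ⟨ρ, ρ1, ρ2⟩ := h.rho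
  obtain ⟨π, π1, π2⟩ := h.aut
  refine ⟨(index_map_of_bijective e.bijective L).trans h.index, Sig.qs_of_mulEquiv h.qs (e.subgroupMap L), (m _).2 h.mem,
    fun c hc => ?_, ⟨ρ.comp (e.subgroupMap L).symm, ρ1.comp (e.subgroupMap L).symm.surjective, fun g => ?_⟩,
    ⟨π.comp e.symm, π1.comp e.symm.surjective, fun g => ?_⟩, fun φ hφ => ?_⟩
  · obtain ⟨c, rfl⟩ := e.surjective c
    simpa using h.cent c fun l hl => e.injective (by simpa using (hc _ ((m l).2 hl)).eq)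
  · obtain ⟨g, rfl⟩ := (e.subgroupMap L).surjective g
    simpa using ρ2 g
  · obtain ⟨g, rfl⟩ := e.surjective g
    simpa using π2 g
  · obtain ⟨c, hc⟩ := h.inn ((e.trans φ).trans e.symm) (by simp [hφ])
    refine ⟨e c, ?_⟩
    rintro _ ⟨l, hl, rfl⟩
    simpa using congrArg e (hc l hl)

theorem R22.fstar {K : Type*} [Group K] [Finite K] {τ : K} {L : Subgroup K} (h : R22 τ L) :
    generalizedFittingSubgroup K = L := by
  have := normal_of_index_eq_two h.index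
  rw [← Sig.fstarIn_top]
  refine fstarIn_eq_of_qs le_top inferInstance h.qs fun c _ hc => ?_
  rcases h.cent c hc with rfl | rfl
  exacts [one_mem _, h.mem]

theorem cent_equiv {G' : Type*} [Group G'] (φ : G ≃* G') {a : G} {b : G'} (h : φ a = b) :
    ∃ e : centralizer ({a} : Set G) ≃* centralizer ({b} : Set G'), ∀ g, (e g).1 = φ g := by
  refine ⟨(φ.subgroupMap _).trans (MulEquiv.subgroupCongr ?_), fun g => rfl⟩
  ext g
  obtain ⟨g, rfl⟩ := φ.surjective g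
  rw [show φ g = (φ : G →* G') g from rfl, mem_map_iff_mem φ.injective, ← h, mem_centralizer_singleton_iff,
    mem_centralizer_singleton_iff]
  simp only [MonoidHom.coe_coe, ← map_mul, φ.injective.eq_iff]

namespace Hy
variable [Finite G] (B : Hy z p θ μ x ν)
include B

theorem conj_t {t : G} (hQ : t ∈ twoCoreOfCentralizer z) (h2 : orderOf t = 2) (h : ¬ IsConj z t) :
    ∃ k, Commute k z ∧ k * nu ν 2 * k⁻¹ = t := by
  obtain ⟨b, hb, rfl⟩ := (B.core _).1 hQ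
  obtain ⟨k, hk, e | e⟩ := B.toSt.inv_E X0_le hb (by rintro rfl; rw [B.toFr.θ0] at h2; simp at h2)
    (by rintro rfl; exact h (B.hz ▸ IsConj.refl _)) (by
      have e := sq_of_orderOf h2
      have l := bt_lt b b
      rw [B.toFr.sq hb] at e
      interval_cases bt b b
      exacts [rfl, absurd ((pow_one z).symm.trans e) B.toFr.z1])
  · exact absurd (B.hs.trans (isConj_iff.2 ⟨k, e⟩).symm) h
  · exact ⟨k⁻¹, (mem_centralizer_singleton_iff.1 (inv_mem hk)), by rw [B.e1, show θ 3584 = _ from e.symm]; group⟩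

section
variable {Γ : Type*} [Group Γ] {π : CT ν →* Γ} (hs : Function.Surjective π) (hk : ∀ g, π g = 1 ↔ g.1 = 1 ∨ g.1 = nu ν 2)
include hk

omit B [Finite G] in
theorem pi2 {a b : CT ν} (h : π a = π b) : a.1 = b ∨ a.1 = b * nu ν 2 :=
  ((hk (b⁻¹ * a)).1 (by rw [map_mul, map_inv, h, inv_mul_cancel])).imp (fun e => (inv_mul_eq_one.1 e).symm) fun e => by
    rw [← e]; simp
omit B [Finite G] in
theorem pi2' {a b : CT ν} (h : a.1 = b * nu ν 2) : π a = π b := by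
  rw [show a = b * nC ν 2 from Subtype.ext h, map_mul, (hk (nC ν 2)).2 (.inr rfl), mul_one]
omit B [Finite G] in
theorem swap {c : CT ν} (h : Commute (π c) (π (nC ν 59))) : c * nu ν 59 * (c : G)⁻¹ = nu ν 59 ∨ c * nu ν 59 * (c : G)⁻¹ = nu ν 57 :=
  e23 (ν := ν) ▸ pi2 hk (a := c * nC ν 59 * c⁻¹) (b := nC ν 59) (by rw [map_mul, map_mul, h.eq, map_inv, mul_inv_cancel_right])

omit hk in
theorem sep2 {a b : G} (ha : a ∈ DD z ν) (hb : b ∈ DD z ν) (h : a = b ∨ a = b * nu ν 2) : a = b :=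
  h.resolve_right fun e => (B.pat hb).2 2 (by simp) (e ▸ (B.pat ha).1)

include hs
theorem ddC : π '' {y : CT ν | y.1 ∈ (· * nu ν 59) '' DD z ν} = Dd (conjugatesOf (π (nC ν 59))) (π (nC ν 59)) := by
  ext y
  constructor
  · rintro ⟨⟨_, hy⟩, ⟨_, ⟨k, hk', rfl⟩, rfl⟩, rfl⟩
    obtain ⟨q, h1, h2⟩ := B.exq
    refine ⟨isConj_iff.2 ⟨π (⟨k, Y_CT hk'⟩ * ⟨q, mem_CT.2 (mul_inv_eq_iff_eq_mul.1 h1)⟩), ?_⟩, fun e => ?_,
      (show Commute (nC ν 59) _ from Subtype.ext ?_).map π⟩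
    · rw [← map_inv, ← map_mul, ← map_mul]
      refine congrArg π (Subtype.ext ?_)
      change k * q * nu ν 59 * (k * q)⁻¹ = k * z * k⁻¹ * nu ν 59
      rw [← conj_E hk' ⟨59, by simp, rfl⟩, ← h2]; group
    · have c := (B.pat ⟨k, hk', rfl⟩).1
      rcases pi2 hk e with e | e
      · exact B.toFr.z1 (isConj_one_left.1 (mul_eq_right.1 e ▸ c))
      · rw [(nu_comm 59 2).eq] at e
        exact B.nconj (v := 2) (by decide +kernel) (mul_right_cancel e ▸ c)
    · exact ((EE_comm ⟨59, by simp, rfl⟩ (B.DD_Y ⟨k, hk', rfl⟩)).mul_right (.refl _)).eq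
  · rintro ⟨h1, h2, h3⟩
    obtain ⟨g, rfl⟩ := isConj_iff.1 h1
    obtain ⟨g, rfl⟩ := hs g
    rw [← map_inv, ← map_mul, ← map_mul] at h2 h3 ⊢
    have hg := mem_CT.1 g.2
    have hy := mem_YY.2 ⟨mem_CT.1 (g * nC ν 59 * g⁻¹).2,
      mul_inv_eq_iff_eq_mul.1 ((swap hk h3.symm).resolve_right (B.noswap hg))⟩
    have n : ∀ v < 2048, nu ν 59 = nu ν v → v = 59 := fun v hv e => (B.nu_inj (by norm_num) hv e).symm
    rcases B.patV hy (show g.1 * _ * g.1⁻¹ * (g.1 * _ * g.1⁻¹) = 1 by rw [conj_mul, nu_sq, mul_one, mul_inv_cancel])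
      (fun e => absurd (n 0 (by norm_num) ((conj_eq_one_iff.1 e).trans nu_zero.symm)) (by norm_num))
      (fun e => absurd (n 2 (by norm_num) ((conj_inj g.1).1 (e.trans (mul_inv_eq_iff_eq_mul.2 hg.eq).symm))) (by norm_num))
      (mt conj_iff_of.1 (B.nconj (v := 59) (by decide +kernel))) (by
        change ¬ IsConj z (g.1 * nu ν 59 * g.1⁻¹ * nu ν 2)
        rw [← mul_inv_eq_iff_eq_mul.2 hg.eq, conj_mul, conj_iff_of, e23]; exact B.nconj (by decide +kernel)) with e | e | ⟨a, ha, e | e⟩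
    · exact absurd (congrArg π (Subtype.ext e)) h2
    · exact absurd (pi2' hk (e.trans e23.symm)) h2
    · exact ⟨_, ⟨a, ha, e.symm⟩, rfl⟩
    · exact ⟨⟨a, Y_CT (B.DD_Y ha)⟩ * nC ν 59, ⟨a, ha, rfl⟩, (pi2' hk (by rw [e, ← e23, ← mul_assoc]; rfl)).symm⟩

theorem kuC : KU (Dd (conjugatesOf (π (nC ν 59))) (π (nC ν 59))) := by
  obtain ⟨_, u⟩ := B.ku
  have k := u.wt.twist (nu_sq (ν := ν) 59) fun y hy => EE_comm ⟨59, by simp, rfl⟩ (B.DD_Y hy)
  rw [← B.ddC hs hk]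
  refine (B.ku.map k).map (kmap_pext k.wt ?_ ?_)
  · rintro _ ⟨y, hy, rfl⟩; exact mul_mem (Y_CT (B.DD_Y hy)) (nC ν 59).2
  · rintro y y' ⟨a, ha, e⟩ ⟨b, hb, e'⟩ h
    refine Subtype.ext ?_
    have := pi2 hk h
    rw [← e, ← e'] at this ⊢
    rw [B.sep2 ha hb (this.imp mul_right_cancel fun h => mul_right_cancel (b := nu ν 59) (by
      rw [show a * nu ν 59 = _ from h, mul_assoc, mul_assoc, (nu_comm 59 2).eq]))]

theorem zenC (c : Γ) (h1 : Commute c (π (nC ν 59))) (h2 : ∀ y ∈ Dd (conjugatesOf (π (nC ν 59))) (π (nC ν 59)), Commute c y) :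
    c = 1 ∨ c = π (nC ν 59) := by
  obtain ⟨c, rfl⟩ := hs c
  obtain ⟨v, hv, e⟩ := B.zenD (g := c) fun a ha => by
    have h3 := (h2 _ ((B.ddC hs hk).le ⟨⟨a, Y_CT (B.DD_Y ha)⟩ * nC ν 59, ⟨a, ha, rfl⟩, rfl⟩)).mul_right h1
    rw [← map_mul, mul_assoc, show nC ν 59 * nC ν 59 = 1 from Subtype.ext (nu_sq 59), mul_one] at h3
    have := B.sep2 (B.DD_norm (mem_CT.1 c.2) (swap hk h1) ha) ha (pi2 hk (a := c⁻¹ * ⟨a, _⟩ * c) (b := ⟨a, _⟩) (by
      rw [map_mul, map_mul, mul_assoc, ← h3.eq, map_inv, inv_mul_cancel_left]))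
    rw [mul_assoc, inv_mul_eq_iff_eq_mul] at this
    exact this.symm
  simp only [List.mem_cons, List.not_mem_nil, or_false] at hv
  rcases hv with rfl | rfl | rfl | rfl
  exacts [.inl ((hk c).2 (.inl (e.symm.trans nu_zero))), .inl ((hk c).2 (.inr e.symm)),
    .inr (congrArg π (Subtype.ext e.symm)), .inr (pi2' hk (e.symm.trans e23.symm))]

theorem b22 [Finite Γ] : ∃ S : Set (closure (conjugatesOf (π (nC ν 59)))), B22 S ∧
    ∀ y, y ∈ S ↔ y.1 ∈ conjugatesOf (π (nC ν 59)) := by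
  have s : nC ν 59 * nC ν 59 = 1 := Subtype.ext (nu_sq 59)
  refine loc22' (d' := π (nC ν 64 * nC ν 59)) (by rw [← map_mul, s, map_one]) (B.kuC hs hk) (B.zenC hs hk)
    (B.ddC hs hk ▸ ⟨_, ⟨_, B.L21 (by simp), rfl⟩, rfl⟩) fun c h => ?_
  obtain ⟨c, rfl⟩ := hs c
  rw [← map_mul, show nC ν 59 * (nC ν 64 * nC ν 59) = nC ν 64 from Subtype.ext (by
    change nu ν 59 * (nu ν 64 * nu ν 59) = _
    rw [(nu_comm 64 59).eq, ← mul_assoc, nu_sq, one_mul])] at h
  have := pi2 hk (a := c * nC ν 64 * c⁻¹) (b := nC ν 64) (by rw [map_mul, map_mul, h.eq, map_inv, mul_inv_cancel_right])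
  simp only [coe_mul, coe_inv, B.nz] at this
  have := B.unV (mul_inv_eq_iff_eq_mul.1 (this.resolve_right fun e => (B.pat B.zD).2 2 (by simp)
    (isConj_iff.2 ⟨_, e⟩))) (mem_CT.1 c.2)
  rw [← map_inv, ← map_mul, ← map_mul]
  exact (show Commute (c * nC ν 59 * c⁻¹) (nC ν 59) from Subtype.ext (comm_V this ⟨_, rfl⟩)).map π

theorem r22' [Finite Γ] : ∃ L, R22 (nC ν 2) L ∧ (∀ g : CT ν, g.1 ∈ YY ν → g ∈ L) ∧
    ∀ s : CT ν, s * nu ν 59 * (s : G)⁻¹ = nu ν 57 → s ∉ L := by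
  obtain ⟨S, b, hS⟩ := B.b22 hs hk
  have zen := B.zenC hs hk
  have dd := B.ddC hs hk
  set d := π (nC ν 59) with hd
  have md : d ∈ closure (conjugatesOf d) := subset_closure mem_conjugatesOf_self
  have hn : (closure (conjugatesOf d)).Normal := by
    rw [show closure (conjugatesOf d) = normalClosure {d} by simp [normalClosure, Group.conjugatesOfSet]]; infer_instance
  obtain ⟨ψ, -⟩ := b.iso
  have inj := conjE_inj ψ.symm F22.fl.z fun c hc => by
    rcases zen c (hc _ md).symm fun y hy => (hc _ (subset_closure hy.1)).symm with rfl | rfl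
    exacts [one_mem _, md]
  have h1 : ∀ g : CT ν, g.1 ∈ YY ν → π g ∈ closure (conjugatesOf d) := fun g hg => by
    rw [← closure_eq (closure _)]
    refine QS.cl (T := DD z ν) (fun y hy => Y_CT (B.DD_Y hy)) (fun y hy => ?_) (B.clD ▸ hg)
    have : π (y * nC ν 59) ∈ Dd (conjugatesOf d) d := dd ▸ ⟨_, ⟨_, hy, rfl⟩, rfl⟩
    have := mul_mem (subset_closure this.1) (inv_mem md)
    rwa [map_mul, mul_inv_cancel_right] at this
  have h2 : ∀ s : CT ν, s * nu ν 59 * (s : G)⁻¹ = nu ν 57 → π s ∉ closure (conjugatesOf d) := fun s e m => by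
    have c : Commute (π s) d := mul_inv_eq_iff_eq_mul.1 (by
      rw [hd, ← map_inv, ← map_mul, ← map_mul]; exact pi2' hk (e.trans e23.symm))
    have m1 := mem_map_of_mem (closure (conjugatesOf d)).subtype ((b.fl.cen ⟨d, md⟩ ((hS _).2 mem_conjugatesOf_self)).ge
      (mem_centralizer_singleton_iff.2 (Subtype.ext c.eq) : (⟨π s, m⟩ : closure (conjugatesOf d)) ∈ _))
    rw [MonoidHom.map_closure] at m1
    obtain ⟨g, hg, e'⟩ := QS.cl' (π := π) (T := YY ν) (fun y hy => by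
      obtain ⟨y, hy, rfl⟩ := hy
      obtain ⟨y', ⟨a, ha, e⟩, e'⟩ := dd.ge (⟨(hS _).1 hy.1, fun e => hy.2.1 (Subtype.ext e),
        congrArg Subtype.val hy.2.2⟩ : y.1 ∈ Dd (conjugatesOf d) d)
      exact ⟨y', e ▸ mul_mem (B.DD_Y ha) (V_YY ⟨_, rfl⟩), e'⟩) m1
    rw [closure_eq] at hg
    have : s.1 ∈ YY ν := by
      rcases pi2 hk e'.symm with e | e <;> rw [e]
      exacts [hg, mul_mem hg (V_YY ⟨_, rfl⟩)]
    rw [mul_inv_eq_iff_eq_mul.2 (mem_YY.1 this).2.eq] at e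
    exact absurd (B.nu_inj (by norm_num) (by norm_num) e) (by norm_num)
  have : Finite Cfsg.Spor.Fi22 := Finite.of_equiv _ ψ.symm.toEquiv
  have : Finite (MulAut Cfsg.Spor.Fi22) := Finite.of_injective (fun φ : MulAut _ => (φ : _ → _)) DFunLike.coe_injective
  have c1 := Nat.card_le_card_of_injective _ inj
  have c2 := (closure (conjugatesOf d)).index_mul_card
  have c3 : (closure (conjugatesOf d)).index = 2 := by
    obtain ⟨s, e1, e2⟩ := B.exs
    have n1 : (closure (conjugatesOf d)).index ≠ 1 := fun e =>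
      h2 ⟨s, mem_CT.2 (mul_inv_eq_iff_eq_mul.1 e1)⟩ e2 (index_eq_one.1 e ▸ mem_top _)
    have n0 := (closure (conjugatesOf d)).index_ne_zero_of_finite
    rw [card_aut22, Nat.card_congr ψ.toEquiv, ← c2] at c1
    have := Nat.le_of_mul_le_mul_right c1 Nat.card_pos
    omega
  have bij := inj.bijective_of_nat_card_le (by rw [card_aut22, Nat.card_congr ψ.toEquiv, ← c2, c3])
  have hk' : ∀ g, π g = 1 ↔ g = 1 ∨ g = nC ν 2 := fun g => by rw [hk, Subtype.ext_iff, Subtype.ext_iff]; rfl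
  have zc : ∀ g : CT ν, g * nC ν 2 = nC ν 2 * g := fun g => Subtype.ext (mem_CT.1 g.2)
  set L := (closure (conjugatesOf d)).comap π
  have i2 : L.index = 2 := (index_comap_of_surjective _ hs).trans c3
  let ρ : L →* Cfsg.Spor.Fi22 := ψ.symm.toMonoidHom.comp (π.subgroupComap _)
  have ρ1 : Function.Surjective ρ := ψ.symm.surjective.comp (π.subgroupComap_surjective_of_surjective _ hs)
  have ρ2 : ∀ g, ρ g = 1 ↔ g.1 = 1 ∨ g.1 = nC ν 2 := fun g => by
    rw [← hk']; exact (map_eq_one_iff _ ψ.symm.injective).trans Subtype.ext_iff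
  have sim := Cfsg.Agent.Spor.Fi22M.simple
  have q : IsQuasisimple L := qs_of_central ρ ρ1 (fun g hg => mem_center_iff.2 fun a => Subtype.ext (by
      rcases (ρ2 g).1 hg with e | e <;> simp [e, zc])) F22.fl.z fun g hg => by
    rcases (ρ2 g).1 hg with e | e
    · rw [show g = 1 from Subtype.ext e]; exact one_mem _
    obtain ⟨k, hk, e'⟩ := B.V_comm ⟨XV.mk' 11 2, rfl⟩
    have := mem_map_of_mem ((inclusion Y_CT).codRestrict L fun y => h1 _ y.2) hk
    rw [commutator_def, map_commutator] at this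
    rw [show g = ((inclusion Y_CT).codRestrict L fun y => h1 _ y.2) k from Subtype.ext (e.trans (Subtype.ext e'.symm))]
    exact commutator_mono le_top le_top this
  have eL : L = commutator (CT ν) := le_antisymm (fun g hg => by
      have := mem_map_of_mem L.subtype (q.1.1 ▸ mem_top (⟨g, hg⟩ : L))
      rw [commutator_def, map_commutator] at this
      exact commutator_mono le_top le_top this) (commutator_le.2 fun a _ b _ => by
    simp only [commutatorElement_def, mul_mem_iff_of_index_two i2, inv_mem_iff]; tauto)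
  refine ⟨L, ⟨i2, q, h1 _ (V_YY ⟨_, rfl⟩), fun c hc => (hk' c).1 (inj ?_), ⟨ρ, ρ1, ρ2⟩, ⟨(conjE _ ψ.symm).comp π, bij.2.comp hs,
    fun g => by rw [← hk']; exact map_eq_one_iff _ inj⟩, fun φ hφ => ?_⟩, h1, h2⟩
  · rw [map_one, conjE_eq_one]
    intro y hy
    obtain ⟨y, rfl⟩ := hs y
    exact ((hc y hy).map π).symm
  obtain ⟨c, hc⟩ := aut_inner π hs _ ψ.symm bij.2 φ (by
    ext g
    obtain ⟨g, rfl⟩ := φ.surjective g
    rw [show φ g = (φ : _ →* _) g from rfl, mem_map_iff_mem φ.injective, MonoidHom.mem_ker, MonoidHom.mem_ker, hk', hk']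
    nth_rw 2 [← hφ]; simp) fun g => by
      change φ g ∈ L ↔ g ∈ L
      rw [eL]
      nth_rw 2 [← (characteristic_iff_comap_eq.1 (inferInstance : (commutator (CT ν)).Characteristic)) φ]; rfl
  have : commutator L ≤ MonoidHom.eqLocus ((φ : _ →* _).comp L.subtype) ((MulAut.conj c).toMonoidHom.comp L.subtype) :=
    commutator_le.2 fun a _ b _ => by
      have k : ∀ a : L, ∃ e, (∀ g, g * e = e * g) ∧ φ a = c * a * c⁻¹ * e := fun a =>
        (pi2 hk (hc a a.2)).elim (fun e => ⟨1, by simp, by simpa using Subtype.ext e⟩) fun e => ⟨_, zc, Subtype.ext e⟩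
      obtain ⟨e, e1, e2⟩ := k a
      obtain ⟨f, f1, f2⟩ := k b
      change φ ((a : CT ν) * b * (a : CT ν)⁻¹ * (b : CT ν)⁻¹) = c * ((a : CT ν) * b * (a : CT ν)⁻¹ * (b : CT ν)⁻¹) * c⁻¹
      rw [map_mul, map_mul, map_mul, map_inv, map_inv, e2, f2, comm_cen e1 f1]; group
  exact ⟨c, fun l hl => this (q.1.1 ▸ mem_top (⟨l, hl⟩ : L))⟩
end

theorem r22 : ∃ L, R22 (nC ν 2) L ∧ (∀ g : CT ν, g.1 ∈ YY ν → g ∈ L) ∧
    ∀ s : CT ν, s * nu ν 59 * (s : G)⁻¹ = nu ν 57 → s ∉ L := by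
  have : (zpowers (nC ν 2)).Normal := ⟨fun n hn g => by
    obtain ⟨k, rfl⟩ := hn
    rw [((show Commute g (nC ν 2) from Subtype.ext (mem_CT.1 g.2)).zpow_right k).eq, mul_inv_cancel_right]; exact ⟨k, rfl⟩⟩
  refine B.r22' (QuotientGroup.mk'_surjective (zpowers (nC ν 2))) fun g => (QuotientGroup.eq_one_iff g).trans
    ⟨fun m => (mem_zpowers_invol (Subtype.ext (nu_sq 2)) m).imp (congrArg _) (congrArg _), ?_⟩
  rintro (e | e)
  exacts [(Subtype.ext e : g = 1) ▸ one_mem _, (Subtype.ext e : g = nC ν 2) ▸ mem_zpowers _]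

end Hy
end Cfsg.Agent.F24U
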