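import Cfsg.Agent.F24U.X23

/-! The centraliser in `Fi23` of the stabiliser of a transposition in `O₈⁺(3)` (helper8): `cenx`. -/

set_option autoImplicit false
set_option maxRecDepth 100000
set_option exponentiation.threshold 100000

namespace Cfsg.Agent.F24U
open Cfsg.Agent.Fischer Subgroup Cfsg.Agent.Spor F23 Fi23M

def hw3 : List (List ℕ) := [[2, 1, 3, 2, 6, 5, 4, 3], [2, 1, 6, 8, 3, 9, 8, 2], [1, 4, 7, 9]]

noncomputable def B1 : ℕ := (joinL 4096 [0,
  0,
  0,
  nat_lit 0x800000028020020000000002082800020000000080000000800000000028208000000000020000002082002000020000008000000002000000800000200208200002882000000800000000080202800822020000000000002202002000000008020200200000000002000008200208000000000822000020000000000000000802820000000000000000000802008800000000080000000000000000000000080000000000000000220280000000000000000000000000008820200000000000080802800000000088280002082002028008020000000000000000008028200000000000002802800000000000000000000000028000208000000000000000000000000000000000000000000000000200282000000000000000000280080200000000000000000000000000000000000000000000000000000000000000000022000820000000082000802000000000028208000000000802800020000000000000000800800820000000000000000000000000000000000000000000000000000000000000000000000000000000000000000000000000000000000000000000000000000000000000000000000000000000000000000000000002802822800000000000000000000000000000000000000000000000000000000000000000000000000000000000000000000000000000000000000000000000000000000,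
  nat_lit 0x2082080020808020000080000002000008000000000002000800000280002200220280080080082800000008028000200000080022800028008280000000080000820820000200000002000802808008000000000280082000800008000000000800000000002000000020000008000080002280000000820000228200080280080000000000020000080000080802800020000000200002002802000002000800028020000008000000000020820020200288000002000000000000020288000080000000000020000008000082802000800000000080080002880000000000000008000000000800808020020000000028220000000000000000800000008088080200800820808800208200000000800000000000000000200002802800028020200000000200000002000000000000000002082000820000000000200002000000028020020,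
  0,
  nat_lit 0x96004114418212210020800000800800000201000990001008009060000000820000000000280000000000000000000000000000000000000000000000000000200200002002000000000000000000000000000000000000000000000000000000000000000000000000000000000000000000000000000000000000000000000000000000000000000000000000000000000000000000000000000000000000000000000000000000000000000000000000000000000000000000000000000000000000000000000000000000000000000000000000000000000000000000000000000000000000000000000000000000000000000000000000000000000000000000000000000000000000000000000000000000000000000000000000000000000000000000000000000000000000000000000000000000000000000000000000000000000000000000000000000000000000000000000000000000000000000000000000000000000000,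
  nat_lit 0x21210000000000000000000000000000000000000000000000000000000000000000000000000000000000000000000000000000000000000000000000000000000000000000000000000000000000000000000000000000000000000000000000000000000000000000000000000000000000000000000000000000000000000000000000000000000000000000000000000000000000000000000000000000000000000000000000000000000000000000000000000000000000000000000000000000000000000000000000000000000000000000000000000000000000000000000000000000])

def fx : List (List ℕ × ℕ) := [([1, 2, 3, 4, 5, 6, 7, 8, 3, 2, 1, 4, 3, 5, 9, 8, 3, 2, 1, 4, 3, 2, 5, 4, 6, 5, 7, 8, 3, 4, 5, 9, 8, 3, 2, 1, 0], 14737),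
  ([1, 2, 3, 4, 5, 6, 7, 8, 3, 2, 1, 4, 3, 2, 5, 6, 9, 8, 3, 2, 1, 4, 3, 2, 5, 4, 6, 5, 8, 3, 4, 9, 8, 3, 2, 1, 0], 12815),
  ([1, 2, 3, 4, 5, 6, 7, 8, 3, 2, 1, 4, 3, 5, 6, 9, 8, 3, 2, 1, 4, 3, 2, 5, 4, 6, 5, 8, 3, 4, 5, 9, 8, 3, 2, 1, 0], 13505),
  ([1, 2, 3, 4, 5, 6, 7, 8, 3, 2, 1, 4, 3, 5, 9, 8, 3, 2, 1, 4, 3, 2, 5, 4, 3, 6, 5, 8, 3, 4, 9, 8, 3, 2, 1, 0, 10], 13601),
  ([1, 2, 3, 4, 5, 6, 7, 8, 3, 2, 1, 4, 3, 5, 4, 9, 8, 3, 2, 1, 4, 3, 2, 5, 4, 6, 5, 7, 8, 3, 4, 9, 8, 3, 2, 1, 0], 13685)]

def mv : List (List ℕ × ℕ) := [([1, 2, 3, 4, 5, 6, 7, 8, 3, 2, 1, 4, 3, 5, 8, 9, 8, 3, 2, 1, 0, 4, 3, 2, 5, 4, 6, 5, 8, 3, 4, 9, 8, 3, 2, 1, 0], 13813)]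

theorem cenx {g : Cfsg.Spor.Fi23} (h : Commute g (cw gz xw (gz 0)))
    (k : ∀ w : List ℕ, (∀ i ∈ w, i < 10 ∧ i ≠ 0) → Even w.length → Commute (Spor.ev gz w) (cw gz xw (gz 0)) →
      Commute g (Spor.ev gz w)) : g = 1 ∨ g = cw gz xw (gz 0) := by
  have k1 : ∀ w ∈ hw3, Commute g (Spor.ev gz w) := fun w hw => k w (by revert w; decide) (by revert w; decide) (by
    have := cm.tp_word (w := w) (p := 12823) (q := 12823) (by decide) (by revert w; decide +kernel)
    exact t_xw ▸ mul_inv_eq_iff_eq_mul.1 this.symm)
  have orb : ∀ {c A q}, c < 31671 → OrbSub (genW (PP nt) hw3) c A → Commute g (T c) → A.testBit q = true →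
      Commute g (T q) := fun hc ho h0 hq => by
    obtain ⟨-, u, hu, e⟩ := cm.orb_of_orbSub (by decide) hc ho hq
    have : Commute g u := (mem_centralizer_singleton_iff.1 (genW_le (H := centralizer {g}) (fun w hw =>
      mem_centralizer_singleton_iff.2 (k1 w hw).symm.eq) hu)).symm
    exact Eq.subst (motive := Commute g) e ((this.mul_right h0).mul_right this.inv_right)
  have e : T 14725 = cw gz uw (gz 0) := by
    rw [cw_eq fun x hx => sq (by revert x; decide), ← t0]
    exact cm.tp_word (by decide) (by decide +kernel)
  have c : Commute (cw gz xw (gz 0)) (T 14725) := by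
    have := cm.tp_word (w := uw.reverse ++ [0] ++ uw) (p := 12823) (q := 12823) (by decide) (by decide +kernel)
    rw [ev_cw (by decide), ← e] at this
    exact t_xw ▸ (mul_inv_eq_iff_eq_mul.1 this.symm).symm
  have e2 : cw gz xw (gz 0) * T 14725 = Spor.ev gz ww := by
    rw [e, ← ev_cw (by decide), ← ev_cw (by decide), ← Spor.ev_append]
    exact ev_eq_of_chk repz inj (L := 15) (by decide) (ws := [(_, _)]) (by decide +kernel) _ (.head _)
  have h1 : Commute g (T 14725) := by
    simpa [← e2, ← mul_assoc, wt.sq _ xw_mem] using h.mul_right
      (k ww (by decide) (by decide) (e2 ▸ (Commute.refl _).mul_left c.symm))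
  have o1 := fun q => orb (q := q) (by decide) ((orbSub_base _ _).run repz.ok
    (prog := [0, 1, 0, 2, 0, 1, 0, 2, 0, 1, 0, 2, 0, 1]) (A' := B1) (by decide +kernel)) h1
  have pt : ∀ u ∈ fx ++ mv, Commute g (Spor.ev gz (u.1.reverse ++ [0] ++ u.1)) := fun u hu => by
    have l : ∀ x ∈ u.1, x < 11 := by revert u; decide
    rw [ev_cw l, cw_eq fun x hx => sq (l x hx), ← t0, ← cm.tp_word (q := u.2) (by decide) (by revert u; decide +kernel)]
    exact o1 _ (by revert u; decide +kernel)
  have h2 : Commute g (T 13058) := by
    obtain ⟨p, hp, e⟩ := cm.exists_tp (CM.conj_mem g (cm.tp_mem (p := 13058) (by decide)))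
    have m := fun {p} (hp : p < 31671) => cm.mem_of_fix (L := 15) (by decide) (ws := fx.map fun u => u.1.reverse ++ [0] ++ u.1)
      (ws' := mv.map fun u => u.1.reverse ++ [0] ++ u.1) (A := ofL [13058]) (by decide +kernel) hp
    have m0 := (m (p := 13058) (by decide)).1 (by simp [ofL_testBit])
    have : ∀ u ∈ fx ++ mv, ∀ y, Commute (Spor.ev gz (u.1.reverse ++ [0] ++ u.1)) (g * y * g⁻¹) ↔
        Commute (Spor.ev gz (u.1.reverse ++ [0] ++ u.1)) y := fun u hu y => by
      nth_rw 1 [← conj_eq_of_commute (pt u hu)]; exact commute_conj_iff g
    have := (m hp).2 (by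
      simp only [List.forall_mem_map] at m0 ⊢
      rw [e]
      exact ⟨fun u hu => (this u (List.mem_append_left _ hu) _).2 (m0.1 u hu),
        fun u hu => mt (this u (List.mem_append_right _ hu) _).1 (m0.2 u hu)⟩)
    simp only [ofL_testBit, List.mem_singleton] at this
    exact mul_inv_eq_iff_eq_mul.1 (this ▸ e).symm
  refine fl.zen xw_mem h fun y hy => ?_
  obtain ⟨q, hq, rfl⟩ := cm.exists_tp hy.1
  by_cases b : B1.testBit q = true
  · exact o1 q b
  refine orb (by decide) ((orbSub_base _ _).run repz.ok (prog := [0, 1, 2, 0, 1, 0, 2, 0, 1, 0, 2, 0, 1, 2, 0, 1, 0, 2, 0])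
    (A' := Nat.xor (fixS nt 31671 15 (xw.reverse ++ [0] ++ xw)) (Nat.lor B1 (Nat.shiftLeft 1 12823))) (by decide +kernel)) h2 ?_
  have b1 := (cm.commute_fixS (L := 15) (by decide) (w := xw.reverse ++ [0] ++ xw) (by decide) hq).1
    (ev_cw (w := xw) (by decide) ▸ hy.2.2)
  have b2 : q ≠ 12823 := by rintro rfl; exact hy.2.1 t_xw
  change Nat.testBit (_ ^^^ _) q = true
  rw [Nat.testBit_xor, b1, Bool.true_xor, Bool.not_eq_true', ← Bool.not_eq_true, lor_testBit, bit_testBit]
  tauto

end Cfsg.Agent.F24U
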