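import Cfsg.Agent.F24U.LW
import Cfsg.Agent.FI.Main
import Cfsg.Agent.Comp.Bits

/-! A class of involutions whose perps are `4`-fold covers of the quadrangle `GQ(4,2)` generates `U₆(2)` (`locU6`)
(helper8). -/

set_option autoImplicit false
set_option synthInstance.maxSize 4096

namespace Cfsg.Agent.F24U
open Cfsg.Agent.Comp Cfsg.Agent.Fischer Cfsg.Agent.FI Subgroup

def row (i : ℕ) : ℕ := get 45 35184372088831 0x100018cd082b70c4054006334a401500c196240349884072401583420078008128a583c00002aad4be514a00002af514a000016073000020f847c5020c06045d1409803041594060f00411c50506600021ca425904010d8c0cb030155c1080628115d1010910054dd0502100459f0224083800701056cd0821700d045480934122214205166422052050738050c8240069860d80c00370c041030066b825000073f0015121280a74220a08911b420828850517208184428a7202820c06156060c278408308488285082760481292423484205224217822034462072268032000d6404e003302b884700e004ac31201c06a01b9103004a04d0f8600d0401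 i
/-- collinearity in `GQ(4,2)`. -/
def C45 (i j : ℕ) : Bool := Comp.tb (row i) j

theorem C45_eq (i j : ℕ) : C45 i j = (row i).testBit j := Comp.tb_eq ..
theorem exb {r i : ℕ} (h : row i &&& r ≠ 0) : ∃ m < 45, C45 i m = true ∧ r.testBit m = true := by
  obtain ⟨m, hm⟩ := Nat.exists_testBit_of_ne_zero h
  rw [Nat.testBit_and, Bool.and_eq_true] at hm
  refine ⟨m, ?_, by rw [C45_eq]; exact hm.1, hm.2⟩
  exact (Nat.pow_lt_pow_iff_right one_lt_two).1 ((Nat.ge_two_pow_of_testBit hm.1).trans_lt (get_lt (w := 45) rfl _ _))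

theorem t1 : ∀ i < 45, ∀ j < 45, C45 i j = false → ∀ k < 45, C45 j k = true → k ≠ j →
    row i &&& (row j &&& row k) ≠ 0 := by decide +kernel
theorem t2 : ∀ i < 45, ∀ j < 45, row i &&& row j ≠ 0 := by decide +kernel
theorem t3 : ∀ i < 45, ∀ j < 45, C45 i j = true → i ≠ j →
    ((List.range 45).filter fun k => C45 i k && C45 j k).length ≤ 5 := by decide +kernel
theorem t4 : ∀ i < 45, ∃ j < 45, C45 j i = false := by decide +kernel
theorem t5 : ∀ i < 45, ∀ j < 45, C45 i j = false → ∃ k < 45, C45 i k = true ∧ C45 j k = false ∧ k ≠ i := by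
  decide +kernel
theorem t7 : ∀ b < 45, ∀ c < 45, C45 b c = true → ∀ k < 45, C45 b k = true → C45 c k = false → ∀ m < 45,
    C45 b m = true → C45 c m = false → C45 k m = false → row b &&& (row c ||| (row k ||| row m)) = row b := by
  decide +kernel
theorem t8 : ∀ m < 45, C45 0 m = false → C45 1 m = false → (∀ t < 45, C45 0 t = true → C45 1 t = true → C45 m t = true) →
    C45 7 m = false := by decide +kernel

variable {G G' : Type*} [Group G] [Group G'] {S D : Set G}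

structure GQ (lam : G → ℕ) (S : Set G) : Prop where
  lt : ∀ x ∈ S, lam x < 45
  cm : ∀ x ∈ S, ∀ y ∈ S, Commute x y ↔ C45 (lam x) (lam y) = true
  sj : ∀ i < 45, ∃ x ∈ S, lam x = i

def LQ (S : Set G) : Prop :=
  (∃ lam, GQ lam S) ∧ ∀ x ∈ S, ∃ l : List G, l.Nodup ∧ l.length = 4 ∧ ∀ v ∈ l, v ∈ Vs S x

theorem LQ.map {f : G' → G} {S' : Set G'} (k : KMap f S' S) (h : LQ S') : LQ S := by
  obtain ⟨⟨lam, h⟩, h'⟩ := h
  obtain ⟨f', k', e1, -⟩ := k.symm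
  refine ⟨⟨fun x => lam (f' x), fun x hx => h.lt _ (k'.mem hx), fun x hx y hy => ?_, fun i hi => ?_⟩, fun x hx => ?_⟩
  · rw [← h.cm _ (k'.mem hx) _ (k'.mem hy), k'.commute_iff hx hy]
  · obtain ⟨x, hx, e⟩ := h.sj i hi
    exact ⟨_, k.mem hx, by rw [e1 x hx, e]⟩
  · obtain ⟨x, hx', rfl⟩ := k.surj hx
    obtain ⟨l, h1, h2, h3⟩ := h' x hx'
    refine ⟨l.map f, h1.map_on fun a ha b hb => (k.eq_iff (h3 a ha).1 (h3 b hb).1).1, by simpa using h2, ?_⟩
    simpa only [List.forall_mem_map] using fun v hv => (k.mem_vs hx' (h3 v hv).1).2 (h3 v hv)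

namespace GQ
variable {lam : G → ℕ} (h : GQ lam S) {x y u : G}
include h

theorem ncm (hx : x ∈ S) (hy : y ∈ S) : ¬ Commute x y ↔ C45 (lam x) (lam y) = false := by
  rw [h.cm x hx y hy, Bool.not_eq_true]

theorem vs (hx : x ∈ S) (hy : y ∈ S) (e : lam y = lam x) : y ∈ Vs S x :=
  ⟨hy, fun v hv => by rw [h.cm y hy v hv, h.cm x hx v hv, e]⟩

theorem q1 (hx : x ∈ S) (hy : y ∈ S) (hu : u ∈ S) (n : ¬ Commute x y) (c : Commute y u) (v : u ∉ Vs S y) :
    ∃ w ∈ S, Commute x w ∧ Commute y w ∧ Commute u w := by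
  obtain ⟨m, hm, h1, h2⟩ := exb (t1 _ (h.lt x hx) _ (h.lt y hy) ((h.ncm hx hy).1 n) _ (h.lt u hu) ((h.cm y hy u hu).1 c)
    fun e => v (h.vs hy hu e))
  obtain ⟨w, hw, rfl⟩ := h.sj m hm
  rw [Nat.testBit_and, Bool.and_eq_true, ← C45_eq, ← C45_eq] at h2
  exact ⟨w, hw, (h.cm x hx w hw).2 h1, (h.cm y hy w hw).2 h2.1, (h.cm u hu w hw).2 h2.2⟩

theorem q2 (hx : x ∈ S) (hy : y ∈ S) : ∃ w ∈ S, Commute x w ∧ Commute y w := by
  obtain ⟨m, hm, h1, h2⟩ := exb (t2 _ (h.lt x hx) _ (h.lt y hy))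
  obtain ⟨w, hw, rfl⟩ := h.sj m hm
  exact ⟨w, hw, (h.cm x hx w hw).2 h1, (h.cm y hy w hw).2 (C45_eq .. ▸ h2)⟩

theorem q3 {l : List G} (h1 : ∀ a ∈ x :: y :: l, a ∈ S) (h2 : ∀ a ∈ x :: y :: l, Commute x a ∧ Commute y a)
    (h3 : (x :: y :: l).Pairwise fun a b => a ∈ S → b ∉ Vs S a) : l.length ≤ 3 := by
  have hx := h1 x (by simp)
  have hy := h1 y (by simp)
  have n : ((x :: y :: l).map lam).Nodup := List.pairwise_map.2 (h3.imp_of_mem fun {a b} ha hb k e =>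
    k (h1 a ha) (h.vs (h1 a ha) (h1 b hb) e.symm))
  have := (n.subperm (l₂ := (List.range 45).filter fun k => C45 (lam x) k && C45 (lam y) k) fun i hi => by
    obtain ⟨a, ha, rfl⟩ := List.mem_map.1 hi
    simp only [List.mem_filter, List.mem_range, Bool.and_eq_true]
    exact ⟨h.lt a (h1 a ha), (h.cm x hx a (h1 a ha)).1 (h2 a ha).1, (h.cm y hy a (h1 a ha)).1 (h2 a ha).2⟩).length_le.trans
    (t3 _ (h.lt x hx) _ (h.lt y hy) ((h.cm x hx y hy).1 (h2 y (by simp)).1) fun e => by simp [e] at n)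
  simp at this; omega

theorem noC : NoC S := fun x hx =>
  let ⟨j, hj, e⟩ := t4 _ (h.lt x hx); let ⟨w, hw, e'⟩ := h.sj j hj; ⟨w, hw, (h.ncm hw hx).2 (e' ▸ e)⟩

theorem q5 (hx : x ∈ S) (hy : y ∈ S) (n : ¬ Commute x y) : ∃ w ∈ S, w ≠ x ∧ Commute x w ∧ ¬ Commute y w := by
  obtain ⟨k, hk, h1, h2, h3⟩ := t5 _ (h.lt x hx) _ (h.lt y hy) ((h.ncm hx hy).1 n)
  obtain ⟨w, hw, rfl⟩ := h.sj k hk
  exact ⟨w, hw, fun e => h3 (e ▸ rfl), (h.cm x hx w hw).2 h1, (h.ncm hy hw).2 h2⟩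

theorem q6 : ∃ b ∈ S, ∃ c ∈ S, ∃ e ∈ S, Commute b c ∧ Commute e b ∧ ¬ Commute e c := by
  obtain ⟨b, hb, e1⟩ := h.sj 0 (by decide); obtain ⟨c, hc, e2⟩ := h.sj 10 (by decide)
  obtain ⟨e, he, e3⟩ := h.sj 16 (by decide)
  refine ⟨b, hb, c, hc, e, he, (h.cm b hb c hc).2 ?_, (h.cm e he b hb).2 ?_, (h.ncm he hc).2 ?_⟩ <;>
    simp only [e1, e2, e3] <;> decide +kernel

theorem q7 {b c k m e : G} (hb : b ∈ S) (hc : c ∈ S) (hk : k ∈ S) (hm : m ∈ S) (he : e ∈ S) (h1 : Commute b c)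
    (h2 : Commute b k) (h3 : Commute b m) (h4 : Commute b e) (n1 : ¬ Commute c k) (n2 : ¬ Commute c m)
    (n3 : ¬ Commute k m) : Commute c e ∨ Commute k e ∨ Commute m e := by
  have := congrArg (·.testBit (lam e)) (t7 _ (h.lt b hb) _ (h.lt c hc) ((h.cm b hb c hc).1 h1) _ (h.lt k hk)
    ((h.cm b hb k hk).1 h2) ((h.ncm hc hk).1 n1) _ (h.lt m hm) ((h.cm b hb m hm).1 h3) ((h.ncm hc hm).1 n2)
    ((h.ncm hk hm).1 n3))
  simp only [Nat.testBit_and, Nat.testBit_or, ← C45_eq, (h.cm b hb e he).1 h4, Bool.true_and, Bool.or_eq_true] at this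
  rwa [h.cm c hc e he, h.cm k hk e he, h.cm m hm e he]

theorem q8 (w : WT S) : ¬ Symp S := fun s => by
  obtain ⟨a, ha, e1⟩ := h.sj 0 (by decide); obtain ⟨b, hb, e2⟩ := h.sj 1 (by decide)
  obtain ⟨p, hp, e3⟩ := h.sj 7 (by decide)
  have n : ¬ Commute a b := (h.ncm ha hb).2 (by rw [e1, e2]; decide +kernel)
  have m := w.conj a ha b hb
  have n1 : ¬ Commute a (a * b * a) := fun c => n (by
    simpa [← mul_assoc, w.sq a ha, mul_assoc b] using ((Commute.refl a).mul_right c).mul_right (.refl a))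
  have n2 : ¬ Commute b (a * b * a) := fun c => n (by
    rw [show a * b * a = _ from (w.br a ha b hb).resolve_left n] at c
    simpa [← mul_assoc, w.sq b hb, mul_assoc a] using (((Commute.refl b).mul_right c).mul_right (.refl b)).symm)
  rcases s a ha b hb n p hp with c | c | c
  · exact (h.ncm hp ha).2 (by rw [e1, e3]; decide +kernel) c
  · exact (h.ncm hp hb).2 (by rw [e2, e3]; decide +kernel) c
  · refine (h.ncm hp m).2 (e3 ▸ t8 _ (h.lt _ m) (e1 ▸ (h.ncm ha m).1 n1) (e2 ▸ (h.ncm hb m).1 n2) fun t ht h1 h2 => ?_) c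
    obtain ⟨v, hv, rfl⟩ := h.sj t ht
    have c1 := (h.cm a ha v hv).2 (e1 ▸ h1)
    exact (h.cm _ m v hv).1 ((c1.mul_left ((h.cm b hb v hv).2 (e2 ▸ h2))).mul_left c1)
end GQ

theorem LQ.two (h : LQ S) {x : G} (hx : x ∈ S) : ∃ v ∈ Vs S x, v ≠ x := by
  obtain ⟨l, h1, h2, h3⟩ := h.2 x hx
  obtain ⟨a, b, c, d, rfl⟩ := List.length_eq_four.1 h2
  by_cases e : a = x
  · exact ⟨b, h3 b (by simp), fun e' => by simp [e, e'] at h1⟩
  · exact ⟨a, h3 a (by simp), e⟩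

theorem uk_six {F : Type*} [Field F] [Fintype F] [hF : Fact (Fintype.card F = 2 ^ 2)] {n : ℕ} (k : IsUK F n S)
    (h : ∀ x ∈ S, LQ (Dd S x)) (ne : S.Nonempty) : n = 6 := by
  obtain ⟨lam, k⟩ := k
  refine le_antisymm (not_lt.1 fun hn7 => ?_) ?_
  · obtain ⟨m, rfl⟩ := Nat.exists_eq_add_of_le' (show 7 ≤ n from hn7)
    let v : F → F → F → F → F → F → F → Fin (m + 7) → F := fun a b c d e f g => Matrix.vecCons a (Matrix.vecCons b
      (Matrix.vecCons c (Matrix.vecCons d (Matrix.vecCons e (Matrix.vecCons f (Matrix.vecCons g 0))))))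
    have H : ∀ a b c d e f g a' b' c' d' e' f' g', hn (v a b c d e f g) (v a' b' c' d' e' f' g') =
        a * a' ^ 2 + b * b' ^ 2 + c * c' ^ 2 + d * d' ^ 2 + e * e' ^ 2 + f * f' ^ 2 + g * g' ^ 2 := by
      intros; simp [hermForm, Fin.sum_univ_succ, v, add_assoc]
    have o1 := om_ne_zero (F := F)
    have o2 := om_add_one_ne_zero (F := F)
    have o3 : om F * om F ^ 2 = 1 := f4_cube o1
    have I : ∀ {x y : Fin (m + 7) → F}, hn x x = 0 → hn x y ≠ 0 → Ison x := fun h1 h2 =>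
      ⟨fun e => h2 (by simp [e]), h1⟩
    have ia : Ison (v 1 1 0 0 0 0 0) := I (y := v 1 0 0 0 0 0 0) (by simp [H, f4_add_self]) (by simp [H])
    have ib : Ison (v 0 0 1 1 0 0 0) := I (y := v 0 0 1 0 0 0 0) (by simp [H, f4_add_self]) (by simp [H])
    have ic : Ison (v 0 0 0 0 1 1 0) := I (y := v 0 0 0 0 1 0 0) (by simp [H, f4_add_self]) (by simp [H])
    have id : Ison (v 0 0 0 0 0 1 1) := I (y := v 0 0 0 0 0 1 0) (by simp [H, f4_add_self]) (by simp [H])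
    have im : Ison (v 0 0 0 0 1 0 1) := I (y := v 0 0 0 0 1 0 0) (by simp [H, f4_add_self]) (by simp [H])
    have ie : Ison (v 0 0 0 0 1 (om F) 0) := I (y := v 0 0 0 0 1 0 0) (by simp [H, o3, f4_add_self]) (by simp [H])
    have M : ∀ {x y}, Ison x → Ison y → hn (v 1 1 0 0 0 0 0) y = 0 → hn x y ≠ 0 → hn (v 1 1 0 0 0 0 0) x = 0 →
        lam x ∈ Dd S (lam (v 1 1 0 0 0 0 0)) := fun hx hy h1 h2 h3 =>
      ⟨k.mem _ hx, fun e => h2 ((k.commute_iff hx hy).1 (e ▸ (k.commute_iff ia hy).2 h1)), (k.commute_iff ia hx).2 h3⟩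
    obtain ⟨⟨_, g⟩, -⟩ := h _ (k.mem _ ia)
    have i2 : Ison (v 0 0 1 0 1 0 0) := I (y := v 0 0 1 0 0 0 0) (by simp [H, f4_add_self]) (by simp [H])
    have := g.q7 (M ib i2 (by simp [H]) (by simp [H]) (by simp [H])) (M ic id (by simp [H]) (by simp [H]) (by simp [H]))
      (M id ic (by simp [H]) (by simp [H]) (by simp [H])) (M im ic (by simp [H]) (by simp [H]) (by simp [H]))
      (M ie id (by simp [H]) (by simp [H, o1]) (by simp [H]))
    simp only [k.commute_iff, ib, ic, id, im, ie, H] at this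
    simp [om_sq, o2] at this
    exact o1 (by linear_combination this - f4_add_self (1 : F))
  · obtain ⟨a, ha⟩ := ne
    obtain ⟨⟨_, g⟩, -⟩ := h a ha
    obtain ⟨b, hb, c, hc, e, he, h1, h2, h3⟩ := g.q6
    obtain ⟨x, hx, rfl⟩ := k.surj a ha
    obtain ⟨v, hv, rfl⟩ := k.surj b hb.1
    obtain ⟨w, hw, rfl⟩ := k.surj c hc.1
    obtain ⟨y, hy, rfl⟩ := k.surj e he.1
    obtain ⟨h0, hn'⟩ := (k.mem_dd hx hv).1 hb
    have h4 := ((k.mem_dd hx hw).1 hc).1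
    have h5 := hn_comm.1 ((k.commute_iff hv hw).1 h1)
    have li : LinearIndependent F ![w, v, x] := by
      refine linearIndependent_finCons.2 ⟨linearIndependent_finCons.2 ⟨by simpa using hx.1, fun m => ?_⟩, fun m => ?_⟩
      · obtain ⟨a, e⟩ := Submodule.mem_span_singleton.1 (show v ∈ Submodule.span F {x} by simpa using m)
        exact hn' a e.symm
      · obtain ⟨a, b, e⟩ := Submodule.mem_span_pair.1 (show w ∈ Submodule.span F {x, v} by
          simpa [Set.pair_comm] using m)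
        refine h3 ((k.commute_iff hw hy).2 ?_).symm
        simp [← e, (k.commute_iff hx hy).1 he.2.2, (k.commute_iff hv hy).1 h2.symm]
    have := (Geom.hermFormed_nondeg hF.out n).two_mul_finrank_le (U := Submodule.span F (Set.range ![w, v, x]))
      (Submodule.span_le.2 (by
        rintro _ ⟨i, rfl⟩
        refine (Geom.Formed.mem_perp_span _).2 ?_
        rintro _ ⟨j, rfl⟩
        fin_cases i <;> fin_cases j
        exacts [hw.2, h5, h4, hn_comm.1 h5, hv.2, h0, hn_comm.1 h4, hn_comm.1 h0, hx.2]))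
    rw [finrank_span_eq_card li] at this
    simpa using this

variable [Finite G]

section
variable (hc : ∀ g, ∀ x ∈ D, g * x * g⁻¹ ∈ D) (tr : ∀ x ∈ D, ∀ y ∈ D, ∃ g, g * x * g⁻¹ = y)
  (tr1 : ∀ x ∈ D, Tr1 (Dd D x))
include hc tr tr1

/-- lines: the perps of all commuting pairs have the same size. -/
theorem sym {a b c : G} (ha : a ∈ D) (hb : b ∈ Dd D a) (h : c ∈ Vs (Dd D a) b) (n : c ≠ b) : a ∈ Vs (Dd D b) c := by
  have cb : Commute b c := ((h.2 b hb).2 (.refl b)).symm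
  have m : c ∈ Dd D b := ⟨h.1.1, n, cb⟩
  obtain ⟨g, e1, e2⟩ := pair_conj hc tr hb.1 (tr1 b hb.1) m hb.1 (Dd_symm ha hb)
  have s : {u | u ∈ D ∧ Commute b u ∧ Commute a u} ⊆ {u | u ∈ D ∧ Commute b u ∧ Commute c u} := fun u hu => by
    refine ⟨hu.1, hu.2.1, ?_⟩
    by_cases e : u = a
    · exact e ▸ h.1.2.2.symm
    · exact (h.2 u ⟨hu.1, e, hu.2.2⟩).2 hu.2.1
  have := Set.eq_of_subset_of_ncard_le s (by
    rw [← Set.ncard_image_of_injective _ (MulAut.conj g⁻¹).injective]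
    refine Set.ncard_le_ncard ?_
    rintro _ ⟨u, hu, rfl⟩
    refine ⟨hc _ u hu.1, (commute_conj_iff g).1 ?_, (commute_conj_iff g).1 ?_⟩
    · rw [e1]; simpa [mul_assoc] using hu.2.1
    · rw [e2]; simpa [mul_assoc] using hu.2.2)
  exact ⟨Dd_symm ha hb, fun e he => ⟨fun k => (s ⟨he.1, he.2.2, k⟩).2.2, fun k => (this.ge ⟨he.1, he.2.2, k⟩).2.2⟩⟩

theorem d2_of (q : ∀ x ∈ D, LQ (Dd D x)) : ∀ x ∈ D, ∀ y ∈ D, ∀ w ∈ Dd D y, ∀ v ∈ Dd D y, ¬ Commute x y → Commute w x →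
    ∃ p ∈ D, Commute p x ∧ Commute p v := fun x hx y hy w hw v hv n c => by
  obtain ⟨⟨_, gy⟩, -⟩ := q y hy
  obtain ⟨⟨_, gw⟩, fw⟩ := q w hw.1
  obtain ⟨u, hu, c1, c2⟩ := gy.q2 hw hv
  by_contra! N
  have N' : ∀ p ∈ Dd D y, Commute x p → u ∉ Vs (Dd D y) p := fun p hp k m =>
    N p hp.1 k.symm ((m.2 v hv).1 c2.symm)
  have n1 := N' w hw c.symm
  have uw : u ≠ w := fun e => n1 (e ▸ self_mem_Vs hu)
  have mx : x ∈ Dd D w := ⟨hx, fun e => n (e ▸ hw.2.2.symm), c⟩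
  have mu : u ∈ Dd D w := ⟨hu.1, uw, c1⟩
  obtain ⟨u0, h0, k1, k2, k3⟩ := gw.q1 mx (Dd_symm hy hw) mu n hu.2.2 fun m =>
    n1 (vs_symm hu (sym hc tr tr1 hw.1 (Dd_symm hy hw) m hu.2.1))
  obtain ⟨l, l1, l2, l3⟩ := fw u0 h0
  have a1 : ∀ a ∈ w :: l, a ∈ Dd D y ∧ Commute x a ∧ Commute u a ∧ Commute w a := by
    simp only [List.forall_mem_cons]
    refine ⟨⟨hw, c.symm, c1.symm, .refl w⟩, fun a ha => ?_⟩
    have k := ((l3 a ha).2 x mx).2 k1.symm
    exact ⟨⟨(l3 a ha).1.1, fun e => n (e ▸ k.symm), (((l3 a ha).2 y (Dd_symm hy hw)).2 k2.symm).symm⟩, k.symm,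
      (((l3 a ha).2 u mu).2 k3.symm).symm, (l3 a ha).1.2.2⟩
  have := gy.q3 (x := u) (y := w) (l := l) (List.forall_mem_cons.2 ⟨hu, fun a ha => (a1 a ha).1⟩)
    (List.forall_mem_cons.2 ⟨⟨.refl u, c1⟩, fun a ha => (a1 a ha).2.2⟩) (List.pairwise_cons.2 ⟨fun a ha _ m =>
      N' a (a1 a ha).1 (a1 a ha).2.1 (vs_symm hu m), List.Pairwise.imp_of_mem (fun {a b} ha hb ne _ m => ?_)
      (List.nodup_cons.2 ⟨fun m => (l3 w m).1.2.1 rfl, l1⟩)⟩)
  · omega
  · exact n (((sym hc tr tr1 hy (a1 a ha).1 m ne.symm).2 x ⟨hx, fun e => n (e ▸ (a1 a ha).1.2.2.symm),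
      (a1 a ha).2.1.symm⟩).2 (a1 b hb).2.1.symm).symm
end

theorem locU6 {d d' : G} (hd : d * d = 1) (L : LocD d (Dd (conjugatesOf d) d)) (w : WT (Dd (conjugatesOf d) d))
    (t : Tr1 (Dd (conjugatesOf d) d)) (q : LQ (Dd (conjugatesOf d) d)) (hd' : d' ∈ Dd (conjugatesOf d) d)
    (un : ∀ c, Commute c (d * d') → Commute (c * d * c⁻¹) d) :
    KU (conjugatesOf d) ∧ closure (conjugatesOf d) = ⊤ ∧ center G = ⊥ ∧ Nonempty (G ≃* PSU 6 F4 2) := by
  set D := conjugatesOf d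
  have hx : d ∈ D := mem_conjugatesOf_self
  have tr : ∀ x ∈ D, ∀ y ∈ D, ∃ g, g * x * g⁻¹ = y := fun x hx y hy => isConj_iff.1 (IsConj.trans (IsConj.symm hx) hy)
  have tr1 : ∀ x ∈ D, Tr1 (Dd D x) := fun x hx => (L.all w hx).1.elim fun _ k => k.tr1 t
  have Q : ∀ x ∈ D, LQ (Dd D x) := fun x hx => (L.all w hx).1.elim fun _ k => q.map k
  have h : LW D := by
    refine ⟨fun x hx => ?_, fun g _ => CM.conj_mem g, tr, fun x hx => (L.all w hx).1.elim fun _ k => k.wt, tr1,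
      fun x hx => (Q x hx).1.elim fun _ g => g.noC, fun x hx => ?_, fun x hx => (L.all w hx).2.zen,
      d2_of (fun g _ => CM.conj_mem g) tr tr1 Q⟩
    · obtain ⟨g, rfl⟩ := isConj_iff.1 hx
      rw [conj_mul, hd, mul_one, mul_inv_cancel]
    · obtain ⟨_, g⟩ := (Q x hx).1
      obtain ⟨a, ha, -⟩ := g.sj 0 (by decide)
      obtain ⟨v, hv, n⟩ := (Q x hx).two ha
      exact ⟨a, v, cl_two ha hv.1 n.symm ((hv.2 a ha).2 (.refl a)).symm⟩
  obtain ⟨S, a, k, ha, ea, h1, h2, h3⟩ := h.comp hx ⟨d, LD.self hx, ((h.cp_noC hx) d (LD.self hx)).imp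
    fun _ m => ⟨m.1, fun c => m.2 c.symm⟩, fun v hv n => by
    by_cases c : Commute d v
    · obtain ⟨e, he, n'⟩ := h.noc d hx v ⟨hv.1, n, c⟩
      exact ⟨e, h.step hx (LD.self hx) he.1 he.2.2, he.2.1, fun e' => n' (e' ▸ .refl _), fun k => n' (k.1 he.2.2).symm⟩
    · obtain e | ⟨p, hp, m1, m2⟩ := h.near' hx (LD.self hx) hv
      · exact absurd e.symm n
      obtain ⟨_, g⟩ := (Q p hp.1).1
      obtain ⟨e, he, n1, c1, n2⟩ := g.q5 m1 m2 c
      exact ⟨e, h.step hx hp he.1 he.2.2, n1, fun e' => n2 (e' ▸ .refl _), fun k => n2 (k.1 c1)⟩⟩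
  have QS : ∀ x ∈ S, LQ (Dd S x) := fun x hx' => by
    obtain ⟨f, k', -⟩ := (k.dd hx').symm
    exact LQ.map k' (h.dd_cp hx (k.mem hx') ▸ Q _ (k.mem hx').1)
  obtain ⟨lam, g⟩ := (QS a ha).1
  obtain ⟨b, hb, -⟩ := g.sj 0 (by decide)
  obtain ⟨v, hv, nv⟩ := (QS a ha).two hb
  obtain ⟨n, -, u⟩ := (PR.caseB (F := F4) ⟨h1, h2, ⟨a, ha, b, hb.1, hb.2.1.symm, hb.2.2⟩, h3⟩ ha fun vt => nv (vt b hb v hv)
    ).resolve_left fun s => g.q8 (k.wt'.dd a) (s.mono fun _ m => m.1)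
  obtain rfl := uk_six u QS ⟨a, ha⟩
  obtain ⟨e, -⟩ := out_u h1 h3 (by norm_num) u
  obtain ⟨lam', u⟩ := u.kmap k
  have sim := Classical.isSimpleGroup_PSU (F := F4) (q := 2) (n := 6) (by omega) (by omega)
  have E := h.uniq hx (fix_of_odd (by
    obtain ⟨l, u'⟩ := F22.uk_dd _ F22.a_mem
    obtain ⟨f, kf, -⟩ := u'.kmap u.uk
    rw [kf.ncard, ← Dl_one, F22.ncL1 _ (cl_cons.2 ⟨F22.a_mem, cl_nil _⟩) rfl]; decide)) e.isSimpleGroup hd'
    fun c hc => h.nm hx (LD.self hx) (h.step hx (LD.self hx) (h.conj c d hx) (un c hc).symm)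
  have T : closure (Cp D d) = ⊤ := eq_top_iff.2 fun g _ => by
    obtain ⟨k, hk, e⟩ := (h.cp_tr1 hx) _ (E.ge (h.conj g d hx)) d (LD.self hx)
    exact (mul_mem_cancel_left hk).1 (closure_mono (fun _ m => E.ge m.1)
      (L.cen _ (mul_inv_eq_iff_eq_mul.1 (by simpa [mul_assoc] using e))))
  have e' : G ≃* PSU 6 F4 2 := (topEquiv.symm.trans (MulEquiv.subgroupCongr T.symm)).trans e
  refine ⟨⟨_, E ▸ u.uk⟩, E ▸ T, eq_bot_iff.2 fun c hc => ?_, ⟨e'⟩⟩
  have : (⟨c, T ▸ mem_top c⟩ : closure (Cp D d)) ∈ center _ :=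
    mem_center_iff.2 fun y => Subtype.ext (mem_center_iff.1 hc y)
  rw [h3] at this
  exact congrArg Subtype.val (mem_bot.1 this)

end Cfsg.Agent.F24U
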