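import Cfsg.Agent.F24T.Thm
import Cfsg.Agent.F24U.GQ

/-! Finite checks for the centraliser of the four-group `E = ν{0,2,59,57} = θ{0,3584,1792,2304}` (helper8). -/

set_option autoImplicit false
set_option synthInstance.maxSize 4096

namespace Cfsg.Agent.F24U
open Cfsg.Agent.Comp Subgroup J4T F24T MulAction

def L20 : List ℕ := [134, 179, 181, 192, 409, 427, 434, 448, 911, 929, 942, 960, 1280, 1347, 1381, 1382, 1937, 1967, 1982,
  1984]
def k0 : ℕ := 0x640dc0580f409407c003b02603e02902f01a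
def ex : ℕ := 0xa80fc0b40d809c0e4002a03f02d036027039
def ct1 : ℕ := 0x100300c008000300200400c0008004002001
/-- generators of `X1 = U₄(2)`: transvections. -/
def LG : List ℕ := [0x89647d2eb19691673decb986ee399299477c, 0x8694d72be169e3e9299497c79617d3ebc968, 0x100300c00800080040008004020010002001, 0x8ff4aa2551ff72ae1578ae457a2e517a8e54, 0x100300c008000300200400c0008004002001, 0x8ba4652df1ba93a725745ecf9b27619b8764]
def LS : List ℕ := slpW mulM invM one12 [[8, 6, 10, 6, 8]] LG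
def L45 : List ℕ := [0x89647d2eb19691673decb986ee399299477c, 0x8f64ad25b1f672de1b78de4be539f29f47ac, 0x100300c0080008004000c008010030002001, 0x100300c008000300200400c0008004002001, 0x8ba4652df1ba93a725745ecf9b27619b8764, 0x85d4fb2a615de2691de8694d7f3ea2ea495c, 0x8de4b92671de739e27e479ce7b1e639dc7b8, 0x100300c0080008004000400c030020002001, 0x100300c0080008004002001000100300c008, 0x8e749e2791e771ee399c778ee719e379ce78, 0x100300c0080000400c0200100c0080002001, 0x8db4b626d1db736e2de4d9cb9d37b27b4e6c, 0x100300c0080000c0080200100400c0002001, 0x8ae4592f71ae92e71998e749751ef39ac758, 0x89f47a2e519f91f73aec598f772ee1778ee4, 0x8754ef29a175e1a9357cfe8ae92971e98974, 0x8ed49b2761ed71be369cd78b793e72e749ec, 0x100300c00800080040001003008004030020, 0x100300c008000100300c0080008004002001, 0x87b4e629d17be1d93b7c6e8d9737e27e4e9c, 0x100300c00800008004020010080040002001, 0x8574fe2a9157e29917e89947ea19537fcea8, 0x8664dd2bb166e3b9269467cdeb39629647dc,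 0x8bd46b2d61bd93d72b74bec6763ed2ed49bc, 0x8b746e2d91b793772e74eec9ed19b376ced8, 0x85a4f52af15ae2f91ae8f94a9527f19587f4, 0x100300c008000030020200100080040400c0, 0x100300c00800020010080040008004002001, 0x8ab4562fd1ab92b71698b7469a3752754efc, 0x8f94a725e1f9727e1e787e4e9f17a3e5c9f8, 0x100300c00800080040003002008004010030, 0x8a545f2fa1a592571f98574fef29a1ef89a4, 0x87e4e929717ee1793e7c9e877e1e9397c7e8, 0x100300c00800080040020010002001008004, 0x8d54bf26a1d573fe2ae4a9c5e629d1e689d4, 0x86f4da2b516fe3592f94f7ca7d2eb17d8eb4, 0x100300c00800080040008004020010002001, 0x8ff4aa2551ff72ae1578ae457a2e517a8e54, 0x100300c00800002001020010008004080040, 0x8694d72be169e3e9299497c79617d3ebc968, 0x100300c00800080040002001008004020010, 0x8ea49527f1ea715e3f9ca7859e27919e8794, 0x8994772ee199919737ece989991773eec998, 0x100300c008000010030200100080040c0080, 0x100300c0080008004002001000300200400c]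
def wG (w : List ℕ) : ℕ := evalW mulM invM one12 LG w
def WT45 : List (List ℕ) := [[], [8], [10], [0, 8], [0, 10], [2, 10], [4, 8], [4, 10], [6, 8], [6, 10], [8, 10], [0, 2, 10], [0, 4, 8], [0, 4, 10], [0, 6, 8], [0, 6, 10], [2, 8, 10], [4, 6, 8], [4, 8, 10], [6, 8, 10], [8, 4, 10], [8, 6, 10], [10, 4, 8], [10, 6, 8], [0, 4, 6, 8], [0, 8, 4, 10], [0, 8, 6, 10], [0, 10, 4, 8], [0, 10, 6, 8], [2, 4, 8, 10], [2, 6, 8, 10], [2, 8, 4, 10], [2, 8, 6, 10], [2, 10, 4, 8], [2, 10, 6, 8], [4, 6, 8, 10], [8, 0, 4, 8], [8, 0, 6, 8], [8, 4, 6, 8], [10, 0, 2, 10], [0, 2, 8, 4, 10], [0, 2, 8, 6, 10], [0, 2, 10, 4, 8], [0, 2, 10, 6, 8], [2, 4, 6, 8, 10]]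
def WU45 : List (List ℕ) := [[], [0], [8, 0, 10, 0, 8], [], [0, 8, 0, 10, 0, 8], [8, 0, 10, 0, 2, 8], [0, 4], [8, 0, 10, 0, 8, 4], [0, 6], [8, 0, 10, 0, 8, 6], [8, 0, 10, 0, 2, 8], [0, 8, 0, 10, 0, 2, 8], [4], [0, 8, 0, 10, 0, 8, 4], [6], [0, 8, 0, 10, 0, 8, 6], [8, 0, 10, 0, 8], [0, 4, 6], [8, 0, 10, 0, 8], [8, 0, 10, 0, 8], [4, 8, 0, 10, 0, 8], [6, 8, 0, 10, 0, 8], [0, 4, 8, 0, 10, 0, 8, 4], [0, 6, 8, 0, 10, 0, 8, 6], [4, 6], [0, 4, 8, 0, 10, 0, 8], [0, 6, 8, 0, 10, 0, 8], [4, 8, 0, 10, 0, 8, 4], [6, 8, 0, 10, 0, 8, 6], [8, 0, 10, 0, 2, 8], [8, 0, 10, 0, 2, 8], [4, 8, 0, 10, 0, 2, 8], [6, 8, 0, 10, 0, 2, 8], [4, 10, 0, 2, 8, 4, 6, 10], [6, 10, 0, 2, 8, 4, 6, 10], [8, 0, 10, 0, 2, 8], [], [], [], [], [0, 4, 8, 0, 10, 0, 2, 8], [0, 6, 8, 0, 10, 0, 2, 8], [4, 8, 0, 10, 0, 2, 8, 4], [4, 10, 4, 6, 8, 4, 6, 10], [8, 0, 10, 0, 8]]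
def X1 : Subgroup (MulAut (XV 12)) := F24T.Xs ⊓ stabilizer _ (XV.mk' 12 3584) ⊓ stabilizer _ (XV.mk' 12 1792)
noncomputable def LM : List ℕ := slpW mulM (invN 11) one11 [[0, 2, 0, 2], [6, 4, 2, 6, 2, 0, 4, 0, 6], [10, 8, 10, 10, 10, 8, 10]] LM4
def MQ : ℕ := 0x7349ef7f60e50690d79eb796e00055
def MV : ℕ := 0x5003ae3a138f1b21ab1990c00b50b3086

theorem ck_L21 : ∀ v < 2048, mD.testBit v = false → v ≠ 0 → (∀ e ∈ [2, 59, 57], v = e ∨ mD.testBit (v ^^^ e) = true) →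
    v = 64 ∨ v ∈ L20 := by decide +kernel
theorem ck_mD : maskL (orbV LM4 300 2) 0 = mD := by decide +kernel
theorem ck_orb21 : ∀ v ∈ L20, v ∈ orbV (fixL (fixL LM 2) 59) 30 64 := by decide +kernel
theorem ck_orb20 : ∀ v ∈ L20, v ∈ orbV (fixL (fixL (fixL LM 2) 59) 64) 30 192 := by decide +kernel
theorem ck_pure : forceL (orbV LX0 400 F24T.x0) (fun O => allL O fun v => bor (not (memL (Nat.xor v 3584) O))
    (bor (memL v [1792, 2304]) (band (not (Nat.beq (app (F24T.rcode 10) v) v))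
      (bor (Nat.beq (bf v 3584) 1) (Nat.beq (bf v 1792) 1))))) = true := by decide +kernel
def invB (r a : ℕ) : Bool := bor (not (Nat.beq (emul a (kact r a)) 0)) (bor (F24T.inU (Nat.mod a 4096))
  (anyL [512, 513, 514, 515, 516, 520, 533, 534, 535, 553, 554, 555] fun q =>
    Nat.beq (emul (emul q a) (kact r (einv q))) (emul a 3584)))
theorem ck_Q : ∀ a < 4096, bf a 3584 = 0 → bf a 1792 = 0 → ∃ j < 1024, app MQ j = a :=
  all4096 (f := fun a => bor (Nat.beq (bf a 3584) 1) (bor (Nat.beq (bf a 1792) 1) (force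
    (app 0x3903b00000037229121512621a1083632be a) fun j => band (Nat.blt j 1024) (Nat.beq (app MQ j) a))))
    (by decide +kernel) fun a h h1 h2 => by
      simp only [h1, h2, bor_eq, force_eq, band_eq, Bool.or_eq_true, Bool.and_eq_true, nbeq, nblt] at h
      exact ⟨_, (h.resolve_left (by decide)).resolve_left (by decide)⟩
theorem ck_inv : allLt 15 (fun m => force (F24T.rcode (Nat.succ m)) fun r => allLt 32 fun i => allLt 32 fun j =>
    force (app MQ (Nat.add (Nat.mul 32 i) j)) fun a => band (invB r a) (invB r (Nat.xor a 4096))) = true := by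
  decide +kernel
theorem ck_V : ∀ a < 2048, ∃ j < 2 ^ 11, app MV j = a := fun a ha => by
  have := (by decide +kernel : ∀ a < 2048, app 0x4773f007700700f2b53663331e51e3035 a < 2 ^ 11 ∧
    app MV (app 0x4773f007700700f2b53663331e51e3035 a) = a) a ha
  exact ⟨_, this⟩
theorem ck_zen : forceL (mapL (fun i => F24T.actE (col MQ i)) (List.range 10)) (fun A => allLt 32 fun i => allLt 64 fun j =>
    force (Nat.add (Nat.mul 64 i) j) fun v => bor (memL v [0, 2, 59, 57, 64, 66, 123, 121]) (anyL A fun c => not (Nat.beq (app c v) v))) = true := by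
  decide +kernel
theorem ck_chain : 51840 ≤ chainL app (fun a => a) 400 [1792, 85, 1942, 5, 6] (fixL (LS ++ [ex]) 3584) ∧
    chainL app (fun a => a) 400 [85, 1942, 5, 6] (fixL (fixL (LS ++ [ex]) 3584) 1792) = 25920 ∧
    ∀ c ∈ fixL (fixL (LS ++ [ex]) 3584) 1792, c ∈ LS := by decide +kernel
theorem ck_clo : ∀ g ∈ LS, ∀ c ∈ L45, conjC mulM invM g c ∈ L45 := by decide +kernel
theorem ck_syl : lenL (fixL (fixL F24T.LT 3584) 1792) = 64 ∧ nodupL (fixL (fixL F24T.LT 3584) 1792) = true ∧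
    ∀ c ∈ fixL (fixL F24T.LT 3584) 1792, mulM c c = one12 →
      ∃ w ∈ [[], [8, 0, 10, 6, 8], [8, 10, 0, 4, 8]], conjC mulM invM (wG w) c ∈ F24T.LR := by decide +kernel
theorem ck_tr : ∀ i < 45, conjC mulM invM (wG (nthL [] WT45 i)) (F24T.rcode 1) = nthL 0 L45 i := by decide +kernel
theorem ck_u : ∀ i < 45, conjC mulM invM (wG (nthL [] WU45 i)) (F24T.rcode 1) = F24T.rcode 1 ∧
    (conjC mulM invM (wG (nthL [] WU45 i)) (nthL 0 L45 i) ∈ F24T.LR ∨
      conjC mulM invM (wG (nthL [] WU45 i)) (nthL 0 L45 i) = ct1) := by decide +kernel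
theorem ck_C : ∀ i < 45, ∀ j < 45, commC mulM (nthL 0 L45 i) (nthL 0 L45 j) = C45 i j := by decide +kernel

end Cfsg.Agent.F24U
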