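import Cfsg.Agent.F24U.Wr
import Cfsg.Agent.Small.F24C
import Cfsg.Agent.F24T.Main

/-! A group of large Fischer type is isomorphic to `Fi24'` (helper8): `iso24`. -/

set_option autoImplicit false
set_option maxRecDepth 100000

namespace Cfsg.Agent.F24U
open Cfsg.Agent.Fischer Subgroup Cfsg.Agent.Spor F23 Fi23M W

variable {G H : Type*} [Group G] [Group H]

theorem surj_of [Finite G] (ρ : H →* G) (inj : Function.Injective ρ) {t z : H} (ht : t * t = 1) (hz : z * z = 1) (z1 : z ≠ 1)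
    (hA : ∀ u : H, u * u = 1 → u ≠ 1 → IsConj t u ∨ IsConj z u) (hB : ∀ c, Commute c (ρ t) → c ∈ ρ.range)
    (hC : ∀ c, Commute c (ρ z) → c ∈ ρ.range) (hD : ¬ IsConj (ρ z) (ρ t)) : Function.Surjective ρ := fun g => by
  have k : ∀ {s : H}, (∀ c, Commute c (ρ s) → c ∈ ρ.range) → ∀ k c, c * ρ s * c⁻¹ = ρ (k * s * k⁻¹) → c ∈ ρ.range :=
    fun {s} h k c e => by
      have := h ((ρ k)⁻¹ * c) (mul_inv_eq_iff_eq_mul.1 (by
        rw [show ∀ x, (ρ k)⁻¹ * c * x * ((ρ k)⁻¹ * c)⁻¹ = (ρ k)⁻¹ * (c * x * c⁻¹) * ρ k from fun x => by group, e]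
        simp [mul_assoc]))
      rwa [mul_mem_cancel_left (inv_mem (MonoidHom.mem_range.2 ⟨k, rfl⟩))] at this
  have cen : ∀ w, w * w = 1 → w ≠ 1 → w ∈ ρ.range → ∀ c, Commute c w → c ∈ ρ.range := by
    rintro _ h1 h2 ⟨w, rfl⟩ c hc
    rcases hA w (inj (by simpa using h1)) (by rintro rfl; simp at h2) with e | e <;> obtain ⟨u, rfl⟩ := isConj_iff.1 e
    · simpa [mul_mem_cancel_right (MonoidHom.mem_range.2 ⟨u, rfl⟩)] using k hB u (c * ρ u) (by
        rw [← conj_eq_of_commute hc]; simp [mul_assoc])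
    · simpa [mul_mem_cancel_right (MonoidHom.mem_range.2 ⟨u, rfl⟩)] using k hC u (c * ρ u) (by
        rw [← conj_eq_of_commute hc]; simp [mul_assoc])
  have s : g * ρ z * g⁻¹ * (g * ρ z * g⁻¹) = 1 := by rw [conj_mul, ← map_mul, hz]; simp
  obtain ⟨y, -, e | ⟨w, w1, w2, c1, c2, -⟩⟩ := dih (u := ρ t) (by rw [← map_mul, ht, map_one]) s
  · exact absurd (isConj_iff.2 ⟨y * g, by rw [← e]; group⟩) hD
  obtain ⟨v, e⟩ := cen w w2 w1 (hB w c1.symm) _ c2
  rcases hA v (inj (by rw [map_mul, e, s, map_one])) (by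
    rintro rfl
    exact z1 (inj (by rw [map_one] at e ⊢; exact conj_eq_one_iff.1 e.symm))) with e' | e'
  · exact absurd ((isConj_iff.2 ⟨g, e.symm⟩).trans (ρ.map_isConj e').symm) hD
  · obtain ⟨u, rfl⟩ := isConj_iff.1 e'
    exact k hC u g e.symm

theorem card_le [Finite G] (f : H →* G) (inj : Function.Injective f) {S : Subgroup H} {K : Subgroup G}
    (h : ∀ x ∈ S, f x ∈ K) : Nat.card S ≤ Nat.card K :=
  Nat.card_le_card_of_injective (fun x : S => (⟨f x, h x x.2⟩ : K)) fun _ _ e => Subtype.ext (inj (congrArg Subtype.val e))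

theorem card_sh [Finite G] {U : Type*} [Group U] {N M : Subgroup G} (h : N ≤ M) [(N.subgroupOf M).Normal]
    (e : M ⧸ N.subgroupOf M ≃* U) (i : M.index = 2) : Nat.card G = Nat.card U * Nat.card N * 2 := by
  rw [← M.card_mul_index, i, card_eq_card_quotient_mul_card_subgroup (N.subgroupOf M), Nat.card_congr e.toEquiv,
    Nat.card_congr (subgroupOfEquivOfLe h).toEquiv]

local notation "G₀" => Cfsg.Spor.Fi24
local notation "γ" => Fi24M.g

theorem memL {x : G₀} : x ∈ commutator G₀ ↔ Fi24M.ε x = 1 := by rw [Fi24M.commutator_eq, MonoidHom.mem_ker]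

theorem trE {l l' : List G₀} (h : CL F24.D24 (γ 0 :: l)) (h' : CL F24.D24 l') (e : l'.length = l.length + 1)
    (k : l.length ≤ 4) : ∃ u : commutator G₀, ((γ 0 :: l).map fun x => u * x * (u : G₀)⁻¹) = l' := by
  obtain ⟨u, -, c⟩ := F24.trA _ (Nat.succ_le_succ k) _ _ h h' rfl e
  rcases Int.units_eq_one_or (Fi24M.ε u) with p | p
  · exact ⟨⟨u, memL.2 p⟩, c⟩
  refine ⟨⟨u * γ 0, memL.2 (by rw [map_mul, p, F24.ε_mem F24.l_mem']; simp)⟩, (List.map_congr_left fun x hx => ?_).trans c⟩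
  rw [show ∀ g, u * g * x * (u * g)⁻¹ = u * (g * x * g⁻¹) * u⁻¹ from fun g => by group,
    conj_eq_of_commute (h.2.2 _ (.head _) x hx)]

theorem clg {w : List ℕ} (h : w.Nodup ∧ ∀ x ∈ w, x < 12 ∧ ∀ y ∈ w, F24.adj x y = false) : CL F24.D24 (w.map γ) :=
  ⟨h.1.map_on fun x hx y hy e => by_contra fun n => F24.g_inj (h.2 x hx).1 (h.2 y hy).1 n e,
    List.forall_mem_map.2 fun x hx => F24.g_mem (h.2 x hx).1,
    List.forall_mem_map.2 fun x hx => List.forall_mem_map.2 fun y hy =>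
      (F24.comm x (h.2 x hx).1 y (h.2 y hy).1).2 ((h.2 x hx).2 y hy)⟩

/-- Generators of the copy of `Fi23` in `Fi24'`. -/
noncomputable def pg : ℕ → commutator G₀ := subG _ fun i => γ 0 * γ (i + 2)

theorem pg_eq {i : ℕ} (hi : i < 10) : (pg i : G₀) = γ 0 * γ (i + 2) :=
  coe_subG (memL.2 (by rw [map_mul, F24.ε_mem F24.l_mem', F24.ε_mem (F24.g_mem (by omega))]; simp))

theorem pg2 {i j : ℕ} (hi : i < 10) (hj : j < 10) : (pg i * pg j : commutator G₀) = γ (i + 2) * γ (j + 2) := by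
  rw [coe_mul, pg_eq hi, pg_eq hj, ((F24.comm 0 (by decide) (i + 2) (by omega)).2 (by revert i; decide)).eq, mul_assoc,
    ← mul_assoc (γ 0), F24.wt.sq _ F24.l_mem', one_mul]

theorem z0_eq : (pg 1 * (pg 3 * pg 5) : commutator G₀) = [γ 0, γ 3, γ 5, γ 7].prod := by
  rw [coe_mul, pg2 (by decide) (by decide), pg_eq (by decide)]; simp [mul_assoc]

theorem invL (u : commutator G₀) (h : u * u = 1) (u1 : u ≠ 1) : IsConj (pg 1) u ∨ IsConj (pg 1 * (pg 3 * pg 5)) u := by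
  have : Finite G₀ := Nat.finite_of_card_ne_zero (by rw [Fi24M.card]; decide)
  obtain ⟨l, h1, h2, h3⟩ := F24.b.inv u (congrArg Subtype.val h)
  have p : ∀ l : List G₀, (∀ x ∈ l, x ∈ F24.D24) → Fi24M.ε l.prod = (-1) ^ l.length := fun l hl => by
    induction l with
    | nil => simp
    | cons x l ih => rw [List.prod_cons, map_mul, ih fun y hy => hl y (.tail _ hy), F24.ε_mem (hl x (.head _)),
        List.length_cons, pow_succ']
  have q := (p l h1.2.1).symm.trans (h3 ▸ memL.1 u.2)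
  obtain e | e | e : l.length = 0 ∨ l.length = 2 ∨ l.length = 4 := by
    generalize l.length = n at q h2
    exact (by decide : ∀ n ≤ 4, (-1 : ℤˣ) ^ n = 1 → n = 0 ∨ n = 2 ∨ n = 4) n h2 q
  · rw [List.length_eq_zero_iff.1 e] at h3
    exact absurd (Subtype.ext h3.symm) u1
  · obtain ⟨k, c⟩ := trE (clg (w := [0, 3]) (by decide)) h1 e (by simp)
    refine .inl (isConj_iff.2 ⟨k, Subtype.ext ?_⟩)
    rw [← h3, ← c, prod_map_conj, coe_mul, coe_mul, pg_eq (by decide)]; simp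
  · obtain ⟨k, c⟩ := trE (clg (w := [0, 3, 5, 7]) (by decide)) h1 e (by simp)
    refine .inr (isConj_iff.2 ⟨k, Subtype.ext ?_⟩)
    rw [← h3, ← c, prod_map_conj, coe_mul, coe_mul, z0_eq]; simp

variable {τ : Cfsg.Spor.Fi23 →* G} {a : G}

theorem N3.hom' (h : N3 τ a) (z : ∀ c, (∀ g, Commute c (τ g)) → c = 1) :
    ∃ ρ : commutator G₀ →* G, ∀ x < 10, ρ (pg x) = τ (gz x) := by
  obtain ⟨ρ, e⟩ := h.hom z
  let η : W G →* ℤˣ := MonoidHom.mk' (fun x => bif x.e then -1 else 1) (by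
    rintro ⟨a, b, _ | _⟩ ⟨c, d, _ | _⟩ <;> simp [mul_def])
  have k : ∀ x : commutator G₀, (ρ x).e = false := fun x => by
    have : η (ρ x) = 1 := Abelianization.commutator_subset_ker (η.comp ρ) x.2
    revert this
    change (bif _ then _ else _) = _ → _
    cases (ρ x).e <;> simp
  refine ⟨MonoidHom.mk' (fun x => (ρ x).a) fun x y => by rw [coe_mul, map_mul, mul_def, k x]; rfl, fun x hx => ?_⟩
  change (ρ (pg x)).a = _
  rw [pg_eq hx, map_mul, e 0 (by decide), e _ (by omega), lw2 hx]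
  simp [lw, o, mul_def, inv_eq_of_sq (tsq hx)]

theorem P2.iso [Finite G] {T : Set G} {Y : Subgroup G} (h : P2 T Y) (inj : Function.Injective τ) (hT : τ '' D23 = T)
    (n : N3 τ a) (zen : ∀ c, (∀ g, Commute c (τ g)) → c = 1)
    (nc : ¬ IsConj (τ (gz 1 * (gz 3 * gz 5))) (τ (gz 1)))
    (cd : Nat.card (centralizer {τ (gz 1 * (gz 3 * gz 5))}) ≤ Nat.card Known.U43P.G * (3 * 2 ^ 13) * 2) :
    Nonempty (G ≃* commutator G₀) := by
  have : Finite G₀ := Nat.finite_of_card_ne_zero (by rw [Fi24M.card]; decide)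
  obtain ⟨ρ, e⟩ := n.hom' zen
  have kτ : KMap τ D23 T := hT ▸ KMap.of_hom wt τ inj.injOn
  have m1 := kτ.mem (g_mem (x := 1) (by decide))
  have d := (kτ.dd (g_mem (by decide))).mem (mem_dd (x := 3) (y := 1) (by decide) (by decide) (by decide) rfl)
  have : IsSimpleGroup (commutator G₀) := Fi24M.simple'
  have ι : Function.Injective ρ := (MonoidHom.ker_eq_bot_iff _).1 ((IsSimpleGroup.eq_bot_or_eq_top_of_normal ρ.ker
    inferInstance).resolve_right fun k => h.k.noCL.noC.one_not_mem (by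
      rwa [← e 1 (by decide), MonoidHom.mem_ker.1 (k.ge (mem_top (pg 1)))] at m1))
  have hY : Y ≤ ρ.range := by
    rw [← h.cl, closure_le, ← hT]
    rintro _ ⟨g, -, rfl⟩
    exact genL_le (H := ρ.range.comap τ) (fun x hx => ⟨_, e x (List.mem_range.1 hx)⟩) (top10.ge (mem_top g))
  have ez : ρ (pg 1 * (pg 3 * pg 5)) = τ (gz 1 * (gz 3 * gz 5)) := by
    rw [map_mul, map_mul, map_mul, map_mul, e 1 (by decide), e 3 (by decide), e 5 (by decide)]
  have c4 := clg (w := [0, 3, 5, 7]) (by decide)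
  refine ⟨(MulEquiv.ofBijective ρ ⟨ι, surj_of ρ ι (ι (by rw [map_mul, e 1 (by decide), tsq (by decide), map_one]))
    (Subtype.ext (by rw [coe_mul, z0_eq]; exact c4.prod_sq F24.wt)) (fun k => h.nm _ m1 _ d ?_) invL (fun c hc => ?_) (fun c hc => ?_)
    (by rwa [ez, e 1 (by decide)])⟩).symm⟩
  · rw [k, map_one, ← mul_assoc, map_mul, eq_comm, mul_eq_one_iff_eq_inv, inv_eq_of_sq (tsq (by decide)), map_mul] at ez
    exact ez ▸ kτ.mem (g_mem (by decide))
  · obtain ⟨k, c⟩ := trE (clg (w := [0, 3, 5]) (by decide)) (clg (w := [3, 0, 5]) (by decide)) rfl (by simp)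
    simp only [List.map_cons, List.map_nil, List.cons.injEq, and_true] at c
    have k1 : k * pg 1 * k⁻¹ = pg 1 := Subtype.ext (by
      rw [coe_mul, coe_mul, pg_eq (by decide), coe_inv, ← conj_mul, c.1, c.2.1]
      exact (F24.comm 3 (by decide) 0 (by decide)).2 rfl)
    have k3 : k * pg 3 * k⁻¹ = pg 1 * pg 3 := Subtype.ext (by
      rw [pg2 (by decide) (by decide), coe_mul, coe_mul, pg_eq (by decide), coe_inv, ← conj_mul, c.1, c.2.2])
    by_contra hn
    refine hn ((mul_mem_cancel_right (MonoidHom.mem_range.2 ⟨k, rfl⟩)).1 (hY (h.i2 _ m1 _ _ (e 1 (by decide) ▸ hc) ?_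
      (mt (@hY _) hn) fun m => h.nm _ m1 _ d ?_)))
    · rw [← e 1 (by decide)]; exact Commute.map (mul_inv_eq_iff_eq_mul.1 k1) ρ
    · have := h.cm m d.1
      rwa [← e 3 (by decide), ← map_inv, ← map_mul, ← map_mul, k3, map_mul, e 1 (by decide), e 3 (by decide)] at this
  · obtain ⟨k, c⟩ := trE c4 Small.F24C.cl rfl (by simp)
    obtain ⟨Q, N, M, π, t, q, _, _, -, -, -, h4, h5, h6, h7, h8, -⟩ := Small.F24C.p67
    obtain ⟨_, ⟨f⟩⟩ := Small.quot_of_ker h6 h7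
    have c1 := card_sh h4 f h8
    rw [h5, ← c, prod_map_conj, ← Nat.card_congr (subgroupOfEquivOfLe (inf_le_left)).toEquiv] at c1
    have c2 := card_le (ρ.comp (MulAut.conj k⁻¹).toMonoidHom) (ι.comp (MulAut.conj k⁻¹).injective)
      (K := ρ.range ⊓ centralizer {τ (gz 1 * (gz 3 * gz 5))})
      (S := (commutator G₀ ⊓ centralizer {k * [γ 0, γ 3, γ 5, γ 7].prod * (k : G₀)⁻¹}).subgroupOf (commutator G₀))
      fun x hx => ⟨⟨_, rfl⟩, mem_centralizer_singleton_iff.2 (by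
        rw [← ez]
        refine Commute.map (Subtype.ext ?_) ρ
        have := (commute_conj_iff (k : G₀)⁻¹).2 (mem_centralizer_singleton_iff.1 hx.2)
        rw [coe_mul, coe_mul _ (pg 1 * _), z0_eq]
        simpa [mul_assoc] using this.eq)⟩
    exact ((eq_of_le_of_card_ge inf_le_right (cd.trans (c1.ge.trans c2))).ge
      (mem_centralizer_singleton_iff.2 (ez ▸ hc))).1

theorem iso24 [Finite G] {z : G} {Q : Subgroup (centralizer ({z} : Set G))} [Q.Normal] (hF : IsOfLargeFischerTypeAt z Q) :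
    Nonempty (G ≃* commutator G₀) := by
  obtain ⟨-, p, θ, μ, x, ν, g, B, hg, hy⟩ := F24T.main hF
  obtain ⟨τ, a, b, c, L, cl, ez, nc⟩ := (⟨B, hy, isConj_iff.2 ⟨g, hg⟩⟩ : Hy z p θ μ x ν).lev
  obtain ⟨k, s, n⟩ := L.p2.norm L.inj rfl
  set τ' := τ.comp (MulAut.conj k).toMonoidHom
  have cj : ∀ x, IsConj (τ x) (τ' x) := fun x => τ.map_isConj (isConj_iff.2 ⟨k, rfl⟩)
  have c3 : CL D23 [gz 1, gz 3, gz 5] := by
    have m : ∀ x y, (x < 11 && y < 11 && x != y && !adj y x) = true → gz x ∈ Dd D23 (gz y) := fun x y h => by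
      simp only [Bool.and_eq_true, decide_eq_true_eq, bne_iff_ne, Bool.not_eq_true'] at h
      exact mem_dd h.1.1.1 h.1.1.2 h.1.2 h.2
    exact cl_cons.2 ⟨g_mem (by decide), cl_cons.2 ⟨m 3 1 rfl, cl_cons.2 ⟨⟨m 5 1 rfl, (m 5 3 rfl).2⟩, cl_nil _⟩⟩⟩
  obtain ⟨u, -, e⟩ := F23.trA 3 (by decide) _ _ cl c3 rfl rfl
  have cz : IsConj z (τ' (gz 1 * (gz 3 * gz 5))) := by
    refine IsConj.trans ?_ (cj _)
    rw [← ez]
    refine τ.map_isConj (isConj_iff.2 ⟨u, ?_⟩)
    have := prod_map_conj u [a, b, c]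
    rw [e] at this
    simpa [mul_assoc] using this.symm
  obtain ⟨v, -, e'⟩ := fl.tr1 _ (g_mem (x := 1) (by decide)) _ L.mem
  refine L.p2.iso (τ := τ') (L.inj.comp (MulAut.conj k).injective)
    ((KMap.of_hom wt τ L.inj.injOn).comp (KMap.conj_self wt (g := k) (F23.tg.2.2 ▸ mem_top k))).bij.image_eq n
    (fun c hc => L.zen c fun g => by simpa [τ', mul_assoc] using hc (k⁻¹ * g * k))
    (fun i => nc ((cz.trans i).trans ((cj _).symm.trans (τ.map_isConj (isConj_iff.2 ⟨v, e'⟩))))) ?_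
  obtain ⟨⟨-, -, -, hc, -⟩, N, M, _, _, -, h1, h2, ⟨K, _, _, hK, ⟨f⟩⟩, h3⟩ := hF
  obtain ⟨f'⟩ := Known.U43T.equiv hK
  obtain ⟨w, hw⟩ := isConj_iff.1 cz.symm
  rw [← hc, ← h2, ← card_sh h1 (f.trans f') h3]
  exact card_le (MulAut.conj w).toMonoidHom (MulAut.conj w).injective fun x hx => mem_centralizer_singleton_iff.2
    (hw ▸ (commute_conj_iff w).2 (mem_centralizer_singleton_iff.1 hx))

end Cfsg.Agent.F24U
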