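import Cfsg.Agent.F24U.LW

/-! Flags `(t, U)` with `U` a copy of `D22` in `C(t)`; the component of a flag generates `Fi23` (helper8): `FD.lev1`. -/

set_option autoImplicit false

namespace Cfsg.Agent.F24U
open Cfsg.Agent.Fischer Subgroup

variable {G : Type*} [Group G] {S T U A B C : Set G} {g t x y w : G}

def cj (g : G) (S : Set G) : Set G := {y | g⁻¹ * y * g ∈ S}

theorem mem_cj : g * x * g⁻¹ ∈ cj g S ↔ x ∈ S := by simp [cj, mul_assoc]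
theorem cj_mul (g h : G) (S : Set G) : cj (g * h) S = cj g (cj h S) := by ext; simp [cj, mul_assoc]
theorem cj_dd (g : G) (S : Set G) (x : G) : cj g (Dd S x) = Dd (cj g S) (g * x * g⁻¹) := by
  ext y
  obtain ⟨y, rfl⟩ : ∃ y', y = g * y' * g⁻¹ := ⟨g⁻¹ * y * g, by group⟩
  rw [mem_cj]
  exact and_congr mem_cj.symm (and_congr (conj_inj g).not (commute_conj_iff g)).symm
theorem kmap_cj (w : WT S) (g : G) : KMap (fun x => g * x * g⁻¹) S (cj g S) := KMap.conj w fun _ => mem_cj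
theorem cj_self (w : WT S) (h : g ∈ closure S) : cj g S = S := Set.ext fun y =>
  ⟨fun m => by simpa [mul_assoc] using w.conj_mem h m, fun m => by simpa [cj] using w.conj_mem (inv_mem h) m⟩

theorem tw_not_mem (w : WT S) (n : NoC S) (ht : t * t = 1) (t1 : t ≠ 1) (c : ∀ y ∈ S, Commute t y) (hy : y ∈ S) :
    t * y ∉ S := fun m => by
  obtain ⟨e, he, n⟩ := n y hy
  have b1 := (br_iff_cube (w.sq e he) (w.sq y hy)).1 ((w.br e he y hy).resolve_left n)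
  have b2 := (br_iff_cube (w.sq e he) (w.sq _ m)).1 ((w.br e he _ m).resolve_left fun k => n (by
    simpa [← mul_assoc, ht] using (c e he).symm.mul_right k))
  rw [← (c e he).left_comm, ((c e he).mul_right (c y hy)).mul_pow, b1, mul_one, pow_succ, pow_two, ht, one_mul] at b2
  exact t1 b2

theorem b23_of [Finite G] (w : WT T) (t1 : Tr1 T) (n : NoC T) (ht : t ∈ T) (k : K22 (Dd T t))
    (near : ∀ x ∈ T, ∀ y ∈ T, ∃ p ∈ T, Commute p x ∧ Commute p y)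
    (zen : ∀ c, Commute c t → (∀ y ∈ Dd T t, Commute c y) → c = 1 ∨ c = t) :
    ∃ τ : Cfsg.Spor.Fi23 →* G, Function.Injective τ ∧ τ '' F23.D23 = T := by
  have k0 : KMap (closure T).subtype {y | y.1 ∈ T} T := by
    convert KMap.of_hom (w.subtype _) (closure T).subtype (subtype_injective _).injOn
    exact Set.ext fun y => ⟨fun m => ⟨⟨y, Subgroup.subset_closure m⟩, m, rfl⟩, by rintro ⟨y, m, rfl⟩; exact m⟩
  let a : closure T := ⟨t, Subgroup.subset_closure ht⟩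
  obtain ⟨f, k1, -⟩ := k0.symm
  obtain ⟨f', k2, -⟩ := (k0.dd (a := a) ht).symm
  obtain ⟨h1, h2, h3⟩ := prim_of k0.wt' (closure_subtype_eq_top _) (k1.tr1 t1) (k0.noC n) (a := a) ht (k.map k2).sep
    (fun u hu v hv => let ⟨p, hp, c1, c2⟩ := near _ hu _ hv
      ⟨⟨p, Subgroup.subset_closure hp⟩, hp, Subtype.ext c1, Subtype.ext c2⟩) fun c c1 c2 =>
      (zen c (c1.map (closure T).subtype) fun y hy => (c2 ⟨y, Subgroup.subset_closure hy.1⟩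
        ⟨hy.1, fun e => hy.2.1 (congrArg Subtype.val e), Subtype.ext hy.2.2⟩).map (closure T).subtype).imp Subtype.ext Subtype.ext
  obtain ⟨ψ, e⟩ := (b23_of_k22 h1 h2 h3 (d := a) ht (k.map k2)).iso
  refine ⟨(closure T).subtype.comp ψ.toMonoidHom, (subtype_injective _).comp ψ.injective, ?_⟩
  refine Eq.trans ?_ k0.bij.image_eq
  rw [← e, Set.image_image]; rfl

structure FD (t : G) (U : Set G) : Prop where
  sq : t * t = 1
  t1 : t ≠ 1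
  k : K22 U
  cm : ∀ y ∈ U, Commute t y
  ne : t ∉ U
  two : ∀ c, Commute c t → cj c U = U ∨ ∀ y ∈ cj c U, t * y ∈ U
  sw : ∃ a, ∃ u ∈ U, a * t * a⁻¹ = u ∧ a * u * a⁻¹ = t ∧ cj a (Dd U u) = Dd U u

theorem FD.conj (h : FD t U) (g : G) : FD (g * t * g⁻¹) (cj g U) := by
  have e : ∀ y, ∃ y', y = g * y' * g⁻¹ := fun y => ⟨g⁻¹ * y * g, by group⟩
  have e' : ∀ c S, cj (g * c * g⁻¹) (cj g S) = cj g (cj c S) := fun c S => by rw [← cj_mul, ← cj_mul]; simp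
  obtain ⟨a, u, hu, a1, a2, a3⟩ := h.sw
  refine ⟨by rw [conj_mul, h.sq]; simp, by simpa using h.t1, h.k.map (kmap_cj h.k.wt g), fun y hy => ?_,
    mt mem_cj.1 h.ne, fun c hc => ?_, g * a * g⁻¹, _, mem_cj.2 hu, by rw [← a1]; group, by rw [← a2]; group,
    by rw [← cj_dd, e', a3]⟩
  · obtain ⟨y, rfl⟩ := e y
    exact (commute_conj_iff g).2 (h.cm y (mem_cj.1 hy))
  obtain ⟨c, rfl⟩ := e c
  rw [e']
  refine (h.two c ((commute_conj_iff g).1 hc)).imp (congrArg _) fun k y hy => ?_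
  obtain ⟨y, rfl⟩ := e y
  rw [conj_mul]; exact mem_cj.2 (k y (mem_cj.1 hy))

/-- The flags. -/
def Fg (t : G) (U : Set G) (x : G) (A : Set G) : Prop := ∃ g, x = g * t * g⁻¹ ∧ A = cj g U

theorem Fg.act (h : Fg t U x A) (g : G) : Fg t U (g * x * g⁻¹) (cj g A) := by
  obtain ⟨k, rfl, rfl⟩ := h; exact ⟨g * k, by group, (cj_mul _ _ _).symm⟩

/-- Flags at distance zero or two. -/
def Nr (t : G) (U : Set G) (x : G) (A : Set G) (y : G) (B : Set G) : Prop :=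
  x = y ∧ A = B ∨ ∃ w C, Fg t U w C ∧ x ∈ C ∧ w ∈ A ∧ y ∈ C ∧ w ∈ B

theorem Nr.symm (h : Nr t U x A y B) : Nr t U y B x A :=
  h.imp (fun e => ⟨e.1.symm, e.2.symm⟩) fun ⟨w, C, a, b, c, d, e⟩ => ⟨w, C, a, d, e, b, c⟩

namespace FD
variable (h : FD t U)
include h

theorem fd (f : Fg t U x A) : FD x A := by obtain ⟨g, rfl, rfl⟩ := f; exact h.conj g

theorem uniq (f : Fg t U x A) (f' : Fg t U x B) (ha : y ∈ A) (hb : y ∈ B) : A = B := by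
  have d := h.fd f
  obtain ⟨g, rfl, rfl⟩ := f
  obtain ⟨k, e, rfl⟩ := f'
  have := d.two (k * g⁻¹) (mul_inv_eq_iff_eq_mul.1 (by rw [e]; nth_rw 1 [← e]; group))
  rw [← cj_mul, inv_mul_cancel_right] at this
  exact (this.resolve_right fun k => tw_not_mem d.k.wt d.k.noCL.noC d.sq d.t1 d.cm ha (k y hb)).symm

theorem ex (f : Fg t U x A) (hy : y ∈ A) : ∃ B, Fg t U y B ∧ x ∈ B ∧ Dd B x = Dd A y := by
  have d := h.fd f
  obtain ⟨a, u, hu, a1, a2, a3⟩ := d.sw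
  obtain ⟨k, hk, rfl⟩ := d.k.trA.tr1 u hu y hy
  have e : k * x * k⁻¹ = x := conj_eq_of_commute (mem_centralizer_singleton_iff.1 ((closure_le (centralizer {x})).2
    (fun y hy => mem_centralizer_singleton_iff.2 (d.cm y hy).symm.eq) hk))
  refine ⟨cj k (cj a A), a1 ▸ (f.act a).act k, by rw [← e, ← a2]; exact mem_cj.2 (mem_cj.2 hu), ?_⟩
  rw [← e, ← a2, ← cj_dd, ← cj_dd, a3, cj_dd, cj_self d.k.wt hk]

theorem dd (f : Fg t U x A) (f' : Fg t U y B) (hy : y ∈ A) (hx : x ∈ B) : Dd B x = Dd A y := by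
  obtain ⟨C, f1, m, e⟩ := h.ex f hy
  rwa [h.uniq f' f1 hx m]

theorem tri (fw : Fg t U w C) (f : Fg t U x A) (hx : x ∈ C) (hw : w ∈ A) (hy : y ∈ Dd C x) : y ∈ A :=
  ((h.dd fw f hx hw).ge hy).1

theorem adj (f : Fg t U x A) (f' : Fg t U y B) (hy : y ∈ A) (hx : x ∈ B) : Nr t U x A y B := by
  obtain ⟨_, u⟩ := (h.fd f).k.loc y hy
  have m := u.m 3
  obtain ⟨C, f1, m1, -⟩ := h.ex f m.1
  exact .inr ⟨_, C, f1, m1, m.1, h.tri f f1 m.1 m1 (Dd_symm hy m), h.tri f f' hy hx m⟩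

theorem step {v : G} {V : Set G} (f : Fg t U x A) (f' : Fg t U y B) (n : Nr t U x A y B) (fv : Fg t U v V)
    (hv : v ∈ B) (hy : y ∈ V) : Nr t U x A v V := by
  rcases n with ⟨rfl, rfl⟩ | ⟨w, C, fw, w1, w2, w3, w4⟩
  · exact h.adj f fv hv hy
  by_cases e : y = x
  · subst e
    obtain rfl := h.uniq f f' w2 w4
    exact h.adj f fv hv hy
  by_cases c : Commute x y
  · exact .inr ⟨y, B, f', h.tri fw f' w3 w4 ⟨w1, Ne.symm e, c.symm⟩, h.tri fw f w1 w2 ⟨w3, e, c⟩, hv, hy⟩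
  set X := {r | ∃ R, Fg t U r R ∧ x ∈ R ∧ r ∈ A ∧ y ∈ R ∧ r ∈ B}
  have loc : ∀ r R, Fg t U r R → x ∈ R → r ∈ A → y ∈ R → r ∈ B → Dd X r = Dd R y ∩ {u | Commute u x} := by
    intro r R fr r1 r2 r3 r4
    ext q
    refine ⟨fun ⟨⟨Q, _, _, q2, _, q4⟩, m⟩ => ⟨(h.dd f' fr r4 r3).ge ⟨q4, m⟩, ((h.fd f).cm q q2).symm⟩, fun ⟨m, k⟩ => ?_⟩
    obtain ⟨Q, fq, q1, -⟩ := h.ex fr m.1
    have n : q ≠ x := fun e => c (e ▸ m.2.2.symm)
    exact ⟨⟨Q, fq, h.tri fr fq m.1 q1 ⟨r1, n.symm, k⟩, h.tri fr f r1 r2 ⟨m.1, n, Commute.symm k⟩,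
      h.tri fr fq m.1 q1 (Dd_symm r3 m), h.tri fr f' r3 r4 m⟩, ((h.dd f' fr r4 r3).le m).2⟩
  have hX : H2 B X := by
    refine ⟨fun r ⟨_, _, _, _, _, m⟩ => m, ?_, ?_⟩
    · rintro r ⟨R, fr, -, r2, -, r4⟩ q ⟨Q, fq, q1, q2, q3, q4⟩
      have i := inv_eq_of_sq (h.fd fr).sq
      refine ⟨cj r Q, by simpa [i] using fq.act r, ?_, (h.fd f).k.wt.conj r r2 q q2, ?_, (h.fd f').k.wt.conj r r4 q q4⟩
      · rw [← conj_eq_of_commute ((h.fd f).cm r r2).symm]; exact mem_cj.2 q1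
      · rw [← conj_eq_of_commute ((h.fd f').cm r r4).symm]; exact mem_cj.2 q3
    · rintro r ⟨R, fr, r1, r2, r3, r4⟩
      rw [loc r R fr r1 r2 r3 r4, ← h.dd f' fr r4 r3]
      exact h1_of_lr (h.fd fr).k.wt (h.fd fr).k.lr r3 r1 fun k => c k.symm
  obtain ⟨p, ⟨P, fp, p1, p2, p3, p4⟩, cp⟩ := (h.fd f').k.dom hX (x := w)
    ⟨C, fw, w1, w2, w3, w4⟩ (by
      obtain ⟨q, hq, -⟩ := O3K.exists_nc (n := 2) ((h.fd fw).k.xs y w3 x w1 fun k => c k.symm)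
      exact ⟨q, (loc w C fw w1 w2 w3 w4).ge hq⟩) hv
  by_cases e : p = v
  · subst e
    obtain rfl := h.uniq fp fv p3 hy
    exact h.adj f fp p2 p1
  · exact .inr ⟨p, P, fp, p1, p2, h.tri f' fp p4 p3 ⟨hv, Ne.symm e, cp⟩, h.tri f' fv hv hy ⟨p4, e, cp.symm⟩⟩

theorem trans {v : G} {V : Set G} (f : Fg t U x A) (f' : Fg t U y B) (n : Nr t U x A y B) (fv : Fg t U v V)
    (n' : Nr t U y B v V) : Nr t U x A v V := by
  rcases n' with ⟨rfl, rfl⟩ | ⟨w, C, fw, w1, w2, w3, w4⟩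
  exacts [n, h.step f fw (h.step f f' n fw w2 w1) fv w3 w4]

theorem lev1 [Finite G] (zen : ∀ c, Commute c t → (∀ y ∈ U, Commute c y) → c = 1 ∨ c = t) :
    ∃ τ : Cfsg.Spor.Fi23 →* G, Function.Injective τ ∧ t ∈ τ '' F23.D23 ∧ Dd (τ '' F23.D23) t = U := by
  have f0 : Fg t U t U := ⟨1, by simp, by simp [cj]⟩
  set T := {y | ∃ B, Fg t U y B ∧ Nr t U t U y B}
  have mt : t ∈ T := ⟨U, f0, .inl ⟨rfl, rfl⟩⟩
  have sub : ∀ {x A}, Fg t U x A → Nr t U t U x A → A ⊆ T := fun f n y hy =>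
    let ⟨B, f', m, _⟩ := h.ex f hy; ⟨B, f', h.step f0 f n f' hy m⟩
  have near : ∀ {x A y B}, Fg t U x A → Nr t U t U x A → Fg t U y B → Nr t U t U y B → x = y ∨
      ∃ w C, Fg t U w C ∧ Nr t U t U w C ∧ x ∈ C ∧ w ∈ A ∧ y ∈ C := fun f n f' n' =>
    (h.trans f f0 n.symm f' n').imp And.left fun ⟨w, C, a, b, c, d, _⟩ => ⟨w, C, a, h.step f0 f n a c b, b, c, d⟩
  have dd : Dd T t = U := Set.ext fun y => ⟨fun ⟨⟨B, f, n⟩, m⟩ => by
    rcases near f0 (.inl ⟨rfl, rfl⟩) f n with e | ⟨w, C, a, -, b, c, d⟩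
    exacts [absurd e.symm m.1, h.tri a f0 b c ⟨d, m⟩],
    fun m => ⟨sub f0 (.inl ⟨rfl, rfl⟩) m, fun e => h.ne (e ▸ m), h.cm y m⟩⟩
  have w : WT T := by
    refine ⟨fun a ⟨_, f, _⟩ => (h.fd f).sq, fun a ⟨_, f, n⟩ b ⟨_, f', n'⟩ => ?_, fun a ⟨_, f, n⟩ b ⟨_, f', n'⟩ => ?_⟩ <;>
      obtain rfl | ⟨w, C, fw, nw, m1, -, m2⟩ := near f n f' n'
    exacts [.inl (.refl a), (h.fd fw).k.wt.br a m1 b m2, by rw [(h.fd f).sq, one_mul]; exact ⟨_, f, n⟩,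
      sub fw nw ((h.fd fw).k.wt.conj a m1 b m2)]
  obtain ⟨τ, h1, h2⟩ := b23_of w (fun a ⟨_, f, n⟩ b ⟨_, f', n'⟩ => by
      obtain rfl | ⟨w, C, fw, nw, m1, -, m2⟩ := near f n f' n'
      · exact ⟨1, one_mem _, by simp⟩
      obtain ⟨g, hg, e⟩ := (h.fd fw).k.trA.tr1 a m1 b m2
      exact ⟨g, closure_mono (sub fw nw) hg, e⟩)
    (fun a ⟨A, f, n⟩ => by
      obtain ⟨u, hu, -⟩ := exists_nc (h.fd f).k.noCL.noC (h.fd f).k.wEq
      obtain ⟨B, f', m, -⟩ := h.ex f hu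
      obtain ⟨e, he, k⟩ := (h.fd f').k.noCL.noC a m
      exact ⟨e, sub f' (h.step f0 f n f' hu m) he, k⟩) mt (dd ▸ h.k)
    (fun a ⟨_, f, n⟩ b ⟨_, f', n'⟩ => by
      obtain rfl | ⟨w, C, fw, nw, m1, -, m2⟩ := near f n f' n'
      exacts [⟨a, ⟨_, f, n⟩, .refl a, .refl a⟩, ⟨w, ⟨C, fw, nw⟩, (h.fd fw).cm a m1, (h.fd fw).cm b m2⟩]) (dd ▸ zen)
  exact ⟨τ, h1, h2 ▸ mt, h2 ▸ dd⟩

end FD
end Cfsg.Agent.F24U
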