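import Cfsg.Agent.F24U.B22
import Cfsg.Agent.F24U.Flag

/-! A group of large Fischer type contains `Fi23` (helper8): `Hy.lev`. -/

set_option autoImplicit false

namespace Cfsg.Agent.F24U
open Cfsg.Agent.Comp Cfsg.Agent.Fischer Subgroup J4T F24T MulAction F23

variable {G : Type*} [Group G] {z p : G} {θ : ℕ → G} {μ : centralizer ({z} : Set G) →* MulAut (XV 12)}
  {x : ℕ → G} {ν : XV 11 →* G}

/-- A copy of `Fi23` that contains a subgroup of index two of the centraliser of each of its transpositions. -/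
structure L2 (τ : Cfsg.Spor.Fi23 →* G) (a : Cfsg.Spor.Fi23) : Prop where
  inj : Function.Injective τ
  mem : a ∈ D23
  i2 : ∀ c c', Commute c (τ a) → Commute c' (τ a) → c ∉ τ.range → c' ∉ τ.range → c * c' ∈ τ.range
  sw : ∃ s, Commute s (τ a) ∧ ∀ b ∈ Dd D23 a, ∃ b' ∈ Dd D23 a, s * τ b * s⁻¹ = τ a * τ b'
  zen : ∀ c, (∀ g, Commute c (τ g)) → c = 1

def UU (ν : XV 11 →* G) (L : Subgroup (CT ν)) : Set G := {y | ∃ l ∈ L, l * nu ν 59 * (l : G)⁻¹ = y}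

namespace Hy
variable [Finite G] (B : Hy z p θ μ x ν)
include B

theorem swapD {g y : G} (h1 : g * nu ν 2 * g⁻¹ = nu ν 59) (h2 : g * nu ν 59 * g⁻¹ = nu ν 2) (hy : y ∈ DD z ν) :
    g * (y * nu ν 57) * g⁻¹ ∈ (· * nu ν 57) '' DD z ν := by
  have h3 : g * nu ν 57 * g⁻¹ = nu ν 57 := by rw [← e23, ← conj_mul, h1, h2, (nu_comm 2 59).eq]
  refine ⟨_, B.DD_of (mem_YY.2 ⟨h2 ▸ (commute_conj_iff g).2 (mem_YY.1 (B.DD_Y hy)).2,
    h1 ▸ (commute_conj_iff g).2 (mem_YY.1 (B.DD_Y hy)).1⟩) (conj_iff_of.2 (B.pat hy).1) fun e he => ?_, by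
      rw [← conj_mul, h3]⟩
  simp only [List.mem_cons, List.not_mem_nil, or_false] at he
  rcases he with rfl | rfl | rfl
  · rw [← h2, conj_mul, conj_iff_of]; exact (B.pat hy).2 _ (by simp)
  · rw [← h1, conj_mul, conj_iff_of]; exact (B.pat hy).2 _ (by simp)
  · rw [← h3, conj_mul, conj_iff_of]; exact (B.pat hy).2 _ (by simp)

theorem lev' {Γ : Type*} [Group Γ] [Finite Γ] {π : CT ν →* Γ} (hs : Function.Surjective π)
    (hk : ∀ g, π g = 1 ↔ g.1 = 1 ∨ g.1 = nu ν 2) :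
    ∃ (τ : Cfsg.Spor.Fi23 →* G), ∃ a b c, L2 τ a ∧ CL D23 [a, b, c] ∧ τ (a * b * c) = z ∧ ¬ IsConj z (τ a) := by
  obtain ⟨L, R, hY, ns⟩ := B.r22' hs hk
  obtain ⟨S, b, hS⟩ := B.b22 hs hk
  have n : ∀ v < 2048, ∀ w < 2048, nu ν v = nu ν w → v = w := fun v hv w hw => B.nu_inj hv hw
  have t1 : nu ν 2 ≠ 1 := fun e => absurd (n _ (by norm_num) _ (by norm_num) (e.trans nu_zero.symm)) (by norm_num)
  set U := UU ν L
  have uL : nC ν 59 ∈ L := hY _ (V_YY ⟨_, rfl⟩)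
  have mU : nu ν 59 ∈ U := ⟨1, one_mem _, by simp⟩
  have cU : ∀ l ∈ L, ∀ y ∈ U, l * y * (l : G)⁻¹ ∈ U := by
    rintro l hl _ ⟨k, hk, rfl⟩; exact ⟨l * k, mul_mem hl hk, by simp [mul_assoc]⟩
  have UL : ∀ y ∈ U, ∃ l ∈ L, l.1 = y := by
    rintro _ ⟨k, hk, rfl⟩; exact ⟨_, mul_mem (mul_mem hk uL) (inv_mem hk), rfl⟩
  have ct : ∀ (c : CT ν) y, c * (y * nu ν 2) * (c : G)⁻¹ = c * y * (c : G)⁻¹ * nu ν 2 := fun c y => by
    rw [← conj_mul, conj_eq_of_commute (mem_CT.1 c.2)]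
  have sep : ∀ y ∈ U, y * nu ν 2 ∉ U := by
    rintro _ ⟨k, hk, rfl⟩ ⟨l, hl, e⟩
    refine ns (k⁻¹ * l) ?_ (mul_mem (inv_mem hk) hl)
    rw [← ct, e23] at e
    rw [coe_mul, coe_inv, show ∀ a, (k : G)⁻¹ * l * a * ((k : G)⁻¹ * l)⁻¹ = (k : G)⁻¹ * (l * a * (l : G)⁻¹) * k from
      fun a => by group, e]; group
  obtain ⟨s, s1, s2⟩ := B.exs
  let s0 : CT ν := ⟨s, mem_CT.2 (mul_inv_eq_iff_eq_mul.1 s1)⟩
  have out : ∀ c ∉ L, ∀ y ∈ U, ∃ y' ∈ U, c * y * (c : G)⁻¹ = y' * nu ν 2 := by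
    rintro c hc _ ⟨k, hk, rfl⟩
    refine ⟨_, ⟨c * k * s0⁻¹, (mul_mem_iff_of_index_two R.index).2 (iff_of_false (mt (mul_mem_cancel_right hk).1 hc)
      (mt inv_mem_iff.1 (ns s0 s2))), rfl⟩, ?_⟩
    rw [← ct, e23, ← s2]; simp [s0, mul_assoc]
  have inj : ∀ y y' : CT ν, y.1 ∈ U → y'.1 ∈ U → π y = π y' → y = y' := fun y y' h1 h2 e =>
    Subtype.ext ((pi2 hk e).resolve_right fun e => sep _ h2 (e ▸ h1))
  have img : π '' {y | y.1 ∈ U} = conjugatesOf (π (nC ν 59)) := by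
    ext y
    refine ⟨?_, fun h => ?_⟩
    · rintro ⟨⟨_, hy⟩, ⟨k, hk, rfl⟩, rfl⟩
      exact isConj_iff.2 ⟨π k, by rw [← map_inv, ← map_mul, ← map_mul]; rfl⟩
    obtain ⟨g, rfl⟩ := isConj_iff.1 h
    obtain ⟨g, rfl⟩ := hs g
    rw [← map_inv, ← map_mul, ← map_mul]
    by_cases m : g ∈ L
    · exact ⟨_, cU g m _ mU, rfl⟩
    obtain ⟨y, hy, e⟩ := out g m _ mU
    obtain ⟨y, -, rfl⟩ := UL y hy
    exact ⟨y, hy, (pi2' hk e).symm⟩
  have kC : K22 (conjugatesOf (π (nC ν 59))) := by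
    refine b.k.map (f := (Subgroup.closure _).subtype) ?_
    convert KMap.of_hom b.fl.wt (Subgroup.closure _).subtype (subtype_injective _).injOn
    exact Set.ext fun y => ⟨fun m => ⟨⟨y, subset_closure m⟩, (hS _).2 m, rfl⟩, by rintro ⟨y, m, rfl⟩; exact (hS y).1 m⟩
  have cj' : ∀ a ∈ U, ∀ b ∈ U, a * b * a ∈ U := fun a ha b hb => by
    obtain ⟨k, hk, e⟩ := id ha
    obtain ⟨l, hl, rfl⟩ := UL a ha
    simpa only [inv_eq_of_sq (show l.1 * l = 1 by rw [← e, conj_mul, nu_sq]; simp)] using cU l hl b hb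
  have w : WT U := by
    refine ⟨by rintro _ ⟨k, -, rfl⟩; rw [conj_mul, nu_sq]; simp, fun a ha b hb => ?_, cj'⟩
    obtain ⟨a, -, rfl⟩ := UL a ha
    obtain ⟨b, -, rfl⟩ := UL b hb
    have ma := img.le ⟨a, ha, rfl⟩
    refine (kC.wt.br _ ma _ (img.le ⟨b, hb, rfl⟩)).imp (fun c => ?_) fun c => congrArg Subtype.val
      (inj (a * b * a) (b * a * b) (cj' _ ha _ hb) (cj' _ hb _ ha) (by simpa only [map_mul, Br] using c))
    have := congrArg Subtype.val (inj (a * b * a) b (cj' _ ha _ hb) hb (by simpa only [map_mul] using (kC.wt.commute_iff ma).1 c))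
    obtain ⟨k, -, e⟩ := ha
    have s : a.1 * a = 1 := by rw [← e, conj_mul, nu_sq]; simp
    exact mul_inv_eq_iff_eq_mul.1 (by rwa [inv_eq_of_sq s])
  have km := kmap_pext w (fun y hy => let ⟨l, _, e⟩ := UL y hy; e ▸ l.2) inj
  rw [img] at km
  obtain ⟨_, km', -⟩ := km.symm
  have kU := kC.map km'
  have cm : ∀ y ∈ U, Commute (nu ν 2) y := fun y hy => let ⟨l, _, e⟩ := UL y hy; e ▸ (mem_CT.1 l.2).symm
  have cE : ∀ v ∈ [0, 2, 59, 57], z * nu ν v ∈ U → ∀ a ∈ DD z ν, a * nu ν v ∈ U := by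
    rintro v hv h _ ⟨k, hk, rfl⟩
    rw [← conj_E hk ⟨v, hv, rfl⟩]
    exact cU ⟨k, Y_CT hk⟩ (hY _ hk) _ h
  have zU : z * nu ν 57 ∈ U := by
    obtain ⟨q, q1, q2⟩ := B.exq
    by_cases m : (⟨q, mem_CT.2 (mul_inv_eq_iff_eq_mul.1 q1)⟩ : CT ν) ∈ L
    · have h1 : z * nu ν 59 ∈ U := ⟨_, m, q2⟩
      have := (kU.trA 2 (by decide)).conj (cl_two h1 mU (by simpa using B.toFr.z1) (B.nz ▸ (nu_comm _ _).mul_left (.refl _)))
        (cl_two (cE 59 (by simp) h1 _ B.m192.1) h1 (by simpa using B.m192.2.1)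
          (comm_V (mul_mem ⟨_, rfl⟩ ⟨_, rfl⟩) (mul_mem B.zV ⟨_, rfl⟩))) rfl rfl
      simp only [List.prod_cons, List.prod_nil, mul_one] at this
      rw [mul_assoc, nu_sq, mul_one, (comm_V ⟨_, rfl⟩ B.zV).mul_mul_mul_comm, nu_sq, mul_one] at this
      exact absurd this B.zz'
    · obtain ⟨y, hy, e⟩ := out _ m _ mU
      rwa [← e23, ← mul_assoc, ← q2, show q * nu ν 59 * q⁻¹ = _ from e, mul_assoc, nu_sq, mul_one]
  have d1 : ∀ a ∈ DD z ν, a * nu ν 57 ∈ Dd U (nu ν 59) := fun a ha => ⟨cE 57 (by simp) zU a ha, fun e => by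
    rw [← e23, (nu_comm 59 2).eq, ← mul_assoc, mul_eq_right, mul_eq_one_iff_eq_inv, inv_eq_of_sq (nu_sq 2)] at e
    exact B.nconj (v := 2) (by decide +kernel) (e ▸ (B.pat ha).1),
    (EE_comm ⟨59, by simp, rfl⟩ (B.DD_Y ha)).mul_right (nu_comm _ _)⟩
  have dU : Dd U (nu ν 59) = (· * nu ν 57) '' DD z ν := by
    refine Set.Subset.antisymm (fun y hy => ?_) (by rintro _ ⟨a, ha, rfl⟩; exact d1 a ha)
    have := (km.mem_dd mU hy.1).2 hy
    obtain ⟨y, -, rfl⟩ := UL y hy.1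
    rw [pext_coe, show nu ν 59 = (nC ν 59).1 from rfl, pext_coe, ← B.ddC hs hk] at this
    obtain ⟨y', ⟨a, ha, e⟩, e'⟩ := this
    have := inj y (y' * nC ν 2) hy.1 (by simpa [← e, mul_assoc, e23] using (d1 a ha).1)
      (by rw [map_mul, e', (hk (nC ν 2)).2 (.inr rfl), mul_one])
    exact ⟨a, ha, by simp [this, ← e, mul_assoc, e23]⟩
  obtain ⟨a, a1, a2⟩ := B.exa
  have F : FD (nu ν 2) U := by
    refine ⟨nu_sq 2, t1, kU, cm, fun m => ?_, fun c hc => ?_, a, _, mU, a1, a2, ?_⟩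
    · obtain ⟨e, he, k⟩ := kU.noCL.noC _ m
      exact k (cm e he).symm
    · by_cases m : (⟨c, mem_CT.2 hc⟩ : CT ν) ∈ L
      · exact .inl (Set.ext fun y => ⟨fun h => by simpa [mul_assoc] using cU _ m _ h,
          fun h => by simpa [cj] using cU _ (inv_mem m) _ h⟩)
      · refine .inr fun y hy => ?_
        obtain ⟨y', h1, e⟩ := out _ m _ hy
        rwa [show y = y' * nu ν 2 by simpa [mul_assoc] using e, ← (cm _ h1).eq, ← mul_assoc, nu_sq, one_mul]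
    · rw [dU]
      ext y
      refine ⟨fun ⟨b, hb, e⟩ => by simpa [show b * nu ν 57 = _ from e, mul_assoc] using B.swapD a1 a2 hb, ?_⟩
      rintro ⟨b, hb, rfl⟩
      simpa [cj] using B.swapD (g := a⁻¹) (by rw [← a2]; group) (by rw [← a1]; group) hb
  have zen : ∀ c, Commute c (nu ν 2) → (∀ y ∈ U, Commute c y) → c = 1 ∨ c = nu ν 2 := fun c c1 c2 => by
    have k : ∀ y ∈ conjugatesOf (π (nC ν 59)), Commute (π ⟨c, mem_CT.2 c1⟩) y := fun y hy => by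
      obtain ⟨y, hy', rfl⟩ := img.ge hy
      exact (show Commute (⟨c, _⟩ : CT ν) y from Subtype.ext (c2 y hy')).map π
    refine (hk _).1 ((B.zenC hs hk _ (k _ mem_conjugatesOf_self) fun y hy => k y hy.1).resolve_right fun e => ?_)
    obtain ⟨y, hy, m⟩ := kC.noCL.noC _ mem_conjugatesOf_self
    exact m (e ▸ k y hy).symm
  obtain ⟨τ, τ1, ⟨t, ht, et⟩, τ3⟩ := F.lev1 zen
  have kτ := KMap.of_hom F23.wt τ τ1.injOn
  have dd : ∀ y ∈ U, ∃ b ∈ Dd D23 t, τ b = y := fun y hy => (kτ.dd ht).surj (by rwa [et, τ3])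
  have dd' : ∀ b ∈ Dd D23 t, τ b ∈ U := fun b hb => by rw [← τ3, ← et]; exact (kτ.dd ht).mem hb
  have LY : ∀ l ∈ L, l.1 ∈ τ.range := fun l hl => by
    obtain ⟨ρ, ρ1, ρ2⟩ := R.rho
    set N := (closure U).comap ((CT ν).subtype.comp L.subtype)
    have : N.Normal := ⟨fun y hy g => by
      have := mem_map_of_mem (MulAut.conj g.1.1).toMonoidHom (mem_comap.1 hy)
      rw [MonoidHom.map_closure] at this
      exact closure_mono (by rintro _ ⟨y, hy, rfl⟩; exact cU _ g.2 _ hy) this⟩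
    have le : closure U ≤ τ.range := (closure_le _).2 fun y hy => let ⟨b, _, e⟩ := dd y hy; ⟨b, e⟩
    have sim := Cfsg.Agent.Spor.Fi22M.simple
    rcases sim.eq_bot_or_eq_top_of_normal (N.map ρ) (this.map _ ρ1) with e | e
    · rcases (ρ2 ⟨_, uL⟩).1 (mem_bot.1 (e ▸ mem_map_of_mem ρ (subset_closure mU))) with e | e
      · exact absurd (n _ (by norm_num) _ (by norm_num) ((congrArg Subtype.val e).trans nu_zero.symm)) (by norm_num)
      · exact absurd (n _ (by norm_num) _ (by norm_num) (congrArg Subtype.val e)) (by norm_num)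
    obtain ⟨k, hk, e'⟩ := e.ge (mem_top (ρ ⟨l, hl⟩))
    have := (ρ2 (k⁻¹ * ⟨l, hl⟩)).1 (by rw [map_mul, map_inv, e', inv_mul_cancel])
    refine (mul_mem_cancel_left (inv_mem (le hk))).1 ?_
    rcases this with e | e
    exacts [⟨1, (map_one τ).trans (congrArg Subtype.val e).symm⟩, ⟨t, et.trans (congrArg Subtype.val e).symm⟩]
  obtain ⟨u, hu, eu⟩ := dd _ mU
  obtain ⟨v, hv, ev⟩ := dd _ zU
  have m := d1 z B.zD
  refine ⟨τ, t, u, v, ⟨τ1, ht, fun c c' h1 h2 n1 n2 => ?_, ⟨s, et ▸ mul_inv_eq_iff_eq_mul.1 s1, fun b hb => ?_⟩, fun c hc => ?_⟩,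
    cl_cons.2 ⟨ht, cl_two hu hv (fun e => m.2.1 (by rw [← eu, ← ev, e])) (τ1 (by simpa [eu, ev] using m.2.2.eq))⟩, ?_,
    et ▸ B.nconj (by decide +kernel)⟩
  · rw [et] at h1 h2
    exact LY (⟨c, mem_CT.2 h1⟩ * ⟨c', mem_CT.2 h2⟩) ((mul_mem_iff_of_index_two R.index).2
      (iff_of_false (fun m => n1 (LY _ m)) fun m => n2 (LY _ m)))
  · obtain ⟨y, hy, e⟩ := out s0 (ns s0 s2) _ (dd' b hb)
    obtain ⟨b', h1, rfl⟩ := dd y hy
    exact ⟨b', h1, e.trans (et ▸ (cm _ hy).symm.eq)⟩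
  · refine (zen c (et ▸ hc t) fun y hy => let ⟨b, _, e⟩ := dd y hy; e ▸ hc b).resolve_right fun e => ?_
    obtain ⟨y, hy, m⟩ := F23.noCL.noC t ht
    exact m (τ1 (by simpa [et, e] using (hc y).symm.eq))
  · rw [map_mul, map_mul, et, eu, ev, (nu_comm 2 59).eq, e23, (comm_V ⟨_, rfl⟩ B.zV).left_comm, nu_sq, mul_one]

theorem lev : ∃ (τ : Cfsg.Spor.Fi23 →* G), ∃ a b c, L2 τ a ∧ CL D23 [a, b, c] ∧ τ (a * b * c) = z ∧ ¬ IsConj z (τ a) := by
  have : (zpowers (nC ν 2)).Normal := ⟨fun n hn g => by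
    obtain ⟨k, rfl⟩ := hn
    rw [((show Commute g (nC ν 2) from Subtype.ext (mem_CT.1 g.2)).zpow_right k).eq, mul_inv_cancel_right]; exact ⟨k, rfl⟩⟩
  refine B.lev' (QuotientGroup.mk'_surjective (zpowers (nC ν 2))) fun g => (QuotientGroup.eq_one_iff g).trans
    ⟨fun m => (mem_zpowers_invol (Subtype.ext (nu_sq 2)) m).imp (congrArg _) (congrArg _), ?_⟩
  rintro (e | e)
  exacts [(Subtype.ext e : g = 1) ▸ one_mem _, (Subtype.ext e : g = nC ν 2) ▸ mem_zpowers _]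

end Hy
end Cfsg.Agent.F24U
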