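import Cfsg.Agent.F24U.X23

/-! A class of involutions that is locally the twisted transposition class of `Fi23` (helper8): `loc24`. -/

set_option autoImplicit false

namespace Cfsg.Agent.Fischer.LW
open Subgroup LD

variable {G : Type*} [Group G] [Finite G] {D : Set G} {x : G}

theorem uniq' (h : LW D) (hx : x ∈ D) (fx : FixP (Cp D x))
    (sim : ∀ N : Subgroup (closure (Cp D x)), N.Normal → ∀ a b c : closure (Cp D x), a.1 ∈ Cp D x → b.1 ∈ Cp D x →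
      c.1 ∈ Cp D x → a * b * c ∈ N → N = ⊤) {x' : G} (hx' : x' ∈ Dd D x)
    (un : ∀ c, Commute c (x * x') → c ∈ cstab (Cp D x)) : Cp D x = D := by
  set N := cstab (Cp D x) with hN
  have sq2 : ∀ a ∈ D, ∀ b ∈ Dd D a, a * b * (a * b) = 1 := fun a ha b hb => by
    rw [hb.2.2.symm.mul_mul_mul_comm, h.sq a ha, h.sq b hb.1, one_mul]
  have u2 : ∀ a ∈ D, ∀ b ∈ Dd D a, a * b ∈ N → a ∈ Cp D x := fun a ha b hb m => by
    obtain ⟨c, hc, cc⟩ := h.fixc hx fx m (sq2 a ha b hb)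
    obtain ⟨g, e1, e2⟩ := pair_conj h.conj h.tr hx (h.tr1 x hx) hx' ha hb
    have m1 := h.u1 hx fx (h.conj g c hc.1) (un _ (by
      rw [← e1, ← e2, conj_mul]; exact (commute_conj_iff g).2 cc.symm))
    exact (mem_cstab.1 (h.nm hx hc m1) a).1 (by rw [e1]; exact self hx)
  have fi : ∀ a g : G, a • (g : G ⧸ N) = g ↔ g⁻¹ * a * g ∈ N := fun a g => by
    rw [MulAction.Quotient.smul_mk, smul_eq_mul, eq_comm, QuotientGroup.eq, mul_assoc]
  have eqc : ∀ a g g' : G, g⁻¹ * a * g ∈ Cp D x → g'⁻¹ * a * g' ∈ Cp D x → (g : G ⧸ N) = g' := fun a g g' h1 h2 => by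
    rw [QuotientGroup.eq]
    exact h.nm hx h2 (by simpa [mul_assoc] using h1)
  have cj : ∀ g, ∀ a ∈ D, g⁻¹ * a * g ∈ D := fun g a ha => by simpa using h.conj g⁻¹ a ha
  have P : ZD.PW G (G ⧸ N) D := by
    refine ⟨fun a ha => orderOf_of_sq (h.sq a ha) fun e => ?_, fun a ha g => h.conj g a ha, fun a ha => ?_,
      fun a ha => ?_, fun a => ?_, fun a ha b hb c n => ?_⟩
    · obtain ⟨g, e'⟩ := h.tr a ha x hx
      obtain ⟨g', e''⟩ := h.tr a ha x' hx'.1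
      exact hx'.2.1 (by rw [← e', ← e'', e]; simp)
    · obtain ⟨g, rfl⟩ := h.tr x hx a ha
      exact ⟨g, (fi _ _).2 (by simpa [mul_assoc] using h.nm' hx (self hx) (.refl x))⟩
    · rintro ⟨g⟩ ⟨g'⟩ h1 h2
      exact eqc a g g' (h.u1 hx fx (cj g a ha) ((fi _ _).1 h1)) (h.u1 hx fx (cj g' a ha) ((fi _ _).1 h2))
    · obtain ⟨g⟩ := a
      exact ⟨_, h.conj g x hx, (fi _ g).2 (by simpa [mul_assoc] using h.nm' hx (self hx) (.refl x))⟩
    · have k : ∀ g : G, (a * b) • (g : G ⧸ N) = g → g⁻¹ * a * g ∈ Cp D x := fun g e =>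
        u2 _ (cj g a ha) (g⁻¹ * b * g) ⟨cj g b hb, fun e => n (by simpa using e.symm),
          by simpa using (commute_conj_iff g⁻¹).2 c⟩ (by simpa [mul_assoc] using (fi _ _).1 e)
      rintro ⟨g⟩ ⟨g'⟩ h1 h2
      exact eqc a g g' (k g h1) (k g' h2)
  refine Set.ext fun y => ⟨fun m => m.1, fun hy => ?_⟩
  obtain ⟨g, rfl⟩ := h.tr x hx y hy
  by_contra hn
  have ne : ((1 : G) : G ⧸ N) ≠ g := fun e => hn ((mem_cstab.1 (by simpa using QuotientGroup.eq.1 e) x).2 (self hx))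
  have m' := h.step hx (self hx) hx'.1 hx'.2.2
  obtain ⟨w, hw, c, -, t, -⟩ := P.key (sq2 x hx x' hx') (h.not_mem hx hx') (P.prod x hx x' hx'.1 hx'.2.2 hx'.2.1.symm)
    ((fi _ 1).2 (by simpa using un _ (.refl _))) ne
  have mw := h.u1 hx fx hw (un w c.symm)
  have e := sim ((MulAction.toPermHom G (G ⧸ N)).ker.subgroupOf _) inferInstance ⟨_, subset_closure (self hx)⟩
    ⟨_, subset_closure m'⟩ ⟨_, subset_closure mw⟩ (self hx) m' mw (Equiv.ext t)
  have : (⟨x, subset_closure (self hx)⟩ : closure (Cp D x)) ∈ (MulAction.toPermHom G (G ⧸ N)).ker.subgroupOf _ :=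
    e ▸ mem_top _
  have k : ∀ c : G ⧸ N, x • c = c := Equiv.ext_iff.1 this
  exact ne (P.uniq x hx _ _ (k _) (k _))

end Cfsg.Agent.Fischer.LW

namespace Cfsg.Agent.F24U
open Cfsg.Agent.Fischer Subgroup Cfsg.Agent.Spor F23 Fi23M
open scoped commutatorElement

variable {G : Type*} [Group G] {D : Set G}

theorem B24_top (h : B24 D) {N : Subgroup G} (hN : N.Normal) {a b c : G} (ha : a ∈ D) (hb : b ∈ D) (hc : c ∈ D)
    (m : a * b * c ∈ N) : N = ⊤ := by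
  obtain ⟨ε, e1, e2⟩ := h.eps
  obtain ⟨ψ, -⟩ := h.iso
  have o : ε (a * b * c) = -1 := by simp [e2 a ha, e2 b hb, e2 c hc]
  have : IsSimpleGroup (commutator G) := by
    have := Fi24M.simple'
    refine ((ψ.subgroupMap (commutator _)).trans (MulEquiv.subgroupCongr ?_)).symm.isSimpleGroup
    rw [map_commutator_eq, MonoidHom.range_eq_top.2 ψ.surjective]; rfl
  rcases this.eq_bot_or_eq_top_of_normal (N.subgroupOf _) inferInstance with e | e
  · have : a * b * c = 1 := h.fl.eq_one fun g _ => commutatorElement_eq_one_iff_commute.1 (by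
      have : (⟨_, commutator_mem_commutator (mem_top (a * b * c)) (mem_top g)⟩ : commutator G) ∈ N.subgroupOf _ := by
        simpa [mem_subgroupOf, commutatorElement_def, mul_assoc] using mul_mem m (hN.conj_mem _ (inv_mem m) g)
      rw [e] at this
      exact congrArg Subtype.val (mem_bot.1 this))
    rw [this, map_one] at o
    exact absurd o (by decide)
  have le : ε.ker ≤ N := e1 ▸ subgroupOf_eq_top.1 e
  refine eq_top_iff.2 fun g _ => ?_
  rcases Int.units_eq_one_or (ε g) with k | k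
  · exact le k
  · exact (mul_mem_cancel_right m).1 (le (by rw [MonoidHom.mem_ker, map_mul, k, o]; rfl))

/-- The perp of `y` is the transposition class of a copy of `Fi23`, times `y`. -/
def Tw (D : Set G) (y : G) : Prop :=
  ∃ τ : Cfsg.Spor.Fi23 →* G, (∀ g, Commute y (τ g)) ∧ KMap (fun g => τ g * y) D23 (Dd D y)

theorem Tw.k {y : G} (h : Tw D y) : K23 (Dd D y) := let ⟨_, _, k⟩ := h; ⟨_, k⟩

theorem norm24 (sq : ∀ x ∈ D, x * x = 1) (p : ∀ x ∈ D, Tw D x)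
    (un : ∀ a ∈ D, ∀ b ∈ Dd D a, ∀ c, Commute c (a * b) → c * a * c⁻¹ = a ∨ c * a * c⁻¹ = b) {x y w : G} (hx : x ∈ D)
    (hy : y ∈ D) (hw : w ∈ Dd D y) (a : ¬ Commute x y) (b : Commute w x) : ∃ μ, KMap μ D23 (Dd D y) ∧
      (∀ i < 10, Commute (μ (gz i)) x ↔ i ≠ 0) ∧ Commute (μ (cw gz xw (gz 0))) x := by
  have m : ∀ t ∈ Dd D y ∩ {u | Commute u x}, x ∈ Dd D t := fun t ht => ⟨hx, fun e => a (e ▸ ht.1.2.2.symm), ht.2⟩
  obtain ⟨τ, c, h⟩ := p y hy
  have hX := h.h3 (X := Dd D y ∩ {u | Commute u x}) ⟨Set.inter_subset_left, (h.wt.inter_commute x).conj, fun t ht => by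
    rw [dd_inter _ ht.2, dd_comm]
    obtain ⟨_, k⟩ := (p t ht.1.1).k
    exact h2_of_lr k.wt (k.lr2 lr2) (Dd_symm hy ht.1) (m t ht) fun c => a c.symm⟩
  obtain ⟨_ | ⟨u, _ | ⟨v, l⟩⟩, l1, l2⟩ :=
    ((p w hw.1).k.xs y (Dd_symm hy hw) x (m w ⟨hw, b⟩) fun c => a c.symm).wEq.2
  · simp at l2
  · simp at l2
  have hu := l1.2.1 u (by simp)
  have hv := (cl_cons.1 l1).2.2.1 v (by simp)
  have mu : u ∈ Dd D y := ⟨hu.1.1.1, hu.1.2⟩
  have mv : v ∈ Dd D y := ⟨hv.1.1.1.1, hv.1.1.2⟩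
  obtain ⟨w', hw', rfl⟩ := h.surj hw
  obtain ⟨u, hu', rfl⟩ := h.surj mu
  obtain ⟨v, hv', rfl⟩ := h.surj mv
  obtain ⟨k, e⟩ := ho23 hX (x := w') (y := u) ⟨hw', hw, b⟩ ⟨⟨hu', mu, hu.2⟩, ((h.mem_dd hw' hu').1 ⟨mu, hu.1.1.2⟩).2⟩
    ⟨v, ⟨⟨hv', mv, hv.1.2⟩, ((h.mem_dd hw' hv').1 ⟨mv, hv.1.1.1.2⟩).2⟩, ((h.mem_dd hu' hv').1 ⟨mv, hv.2⟩).2⟩
  have h' := h.comp (KMap.conj_self wt (g := k) (F23.tg.2.2 ▸ mem_top k))
  have e' : ∀ i < 10, Commute (τ (k * gz i * k⁻¹) * y) x ↔ i ≠ 0 := fun i hi => by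
    have := TG.conj F23.tg k (g_mem (x := i) (by omega))
    simpa [this, h.mem this, -map_mul] using e i hi
  refine ⟨_, h', e', ?_⟩
  have k1 : ∀ r : List ℕ, (∀ i ∈ r, i < 10 ∧ i ≠ 0) → Commute x (τ (k * Spor.ev gz r * k⁻¹) * y ^ r.length) := by
    intro r hr
    induction r with
    | nil => simp
    | cons i r ih =>
      have := (ih fun j hj => hr j (.tail _ hj)).mul_right ((e' i (hr i (.head _)).1).2 (hr i (.head _)).2).symm
      rwa [((c _).pow_left _).mul_mul_mul_comm, ← map_mul, conj_mul, ← pow_succ] at this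
  obtain ⟨q, hq, eq⟩ := xid
  have k2 := k1 ww (by decide)
  have m1 := h'.mem xw_mem
  have m2 := (h'.mem_dd xw_mem hq.1).2 hq
  rw [show ww.length = 2 * 46 from rfl, pow_mul, pow_two, sq y hy, one_pow, ← sq y hy, ← eq, ← conj_mul, map_mul,
    ← (c _).mul_mul_mul_comm] at k2
  generalize τ (k * cw gz xw (gz 0) * k⁻¹) * y = A at *
  generalize τ (k * q * k⁻¹) * y = B at *
  rcases un A m1.1 B ⟨m2.1.1, m2.2⟩ x k2 with e1 | e1
  · exact (mul_inv_eq_iff_eq_mul.1 e1).symm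
  have br := ((p _ hw.1).k.wt.br x (m _ ⟨hw, b⟩) y (Dd_symm hy hw)).resolve_left a
  have e2 : x * B * x⁻¹ = A := by
    rw [← e1, inv_eq_of_sq (sq x hx)]; simp only [← mul_assoc, sq x hx, one_mul]; rw [mul_assoc, sq x hx, mul_one]
  have e3 : x = y * x * y * x * y := by
    rw [show y * x * y * x * y = y * (x * y * x) * y by group, show x * y * x = _ from br]
    simp only [← mul_assoc, sq y hy, one_mul]; rw [mul_assoc, sq y hy, mul_one]
  refine (mul_inv_eq_iff_eq_mul.1 ?_).symm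
  rw [e3, show ∀ A, y * x * y * x * y * A * (y * x * y * x * y)⁻¹ = y * (x * (y * (x * (y * A * y⁻¹) * x⁻¹) * y⁻¹) * x⁻¹) * y⁻¹
    from fun A => by group, conj_eq_of_commute m1.2.2, e1, conj_eq_of_commute m2.1.2.2, e2, conj_eq_of_commute m1.2.2]

theorem loc24 [Finite G] {d d' : G} (hd : d * d = 1) (k : Tw (conjugatesOf d) d)
    (zen : ∀ c, Commute c d → (∀ y ∈ Dd (conjugatesOf d) d, Commute c y) → c = 1 ∨ c = d)
    (hd' : d' ∈ Dd (conjugatesOf d) d) (un : ∀ c, Commute c (d * d') → c * d * c⁻¹ = d ∨ c * d * c⁻¹ = d') :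
    ∃ S : Set (closure (conjugatesOf d)), B24 S ∧ ∀ y, y ∈ S ↔ y.1 ∈ conjugatesOf d := by
  set D := conjugatesOf d
  have hx : d ∈ D := mem_conjugatesOf_self
  have hc : ∀ g, ∀ x ∈ D, g * x * g⁻¹ ∈ D := fun g _ => CM.conj_mem g
  have tr : ∀ x ∈ D, ∀ y ∈ D, ∃ g, g * x * g⁻¹ = y := fun x hx y hy => isConj_iff.1 (IsConj.trans (IsConj.symm hx) hy)
  have p : ∀ x ∈ D, Tw D x := fun x hx => by
    obtain ⟨g, rfl⟩ := isConj_iff.1 hx
    obtain ⟨τ, c, u⟩ := k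
    refine ⟨(MulAut.conj g).toMonoidHom.comp τ, fun a => (commute_conj_iff g).2 (c a), ?_⟩
    simpa [mul_assoc] using (kmap_dd_conj hc u.wt g).comp u
  have sq : ∀ x ∈ D, x * x = 1 := fun x hx => by
    obtain ⟨g, rfl⟩ := isConj_iff.1 hx
    rw [conj_mul, hd, mul_one, mul_inv_cancel]
  have nm := @norm24 _ _ D sq p fun a ha b hb c h => by
    obtain ⟨g, e1, e2⟩ := pair_conj hc tr hx k.k.trA.tr1 hd' ha hb
    have := un (g * c * g⁻¹) (by rw [← e1, ← e2, conj_mul]; exact (commute_conj_iff g).2 h)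
    rwa [← e2, ← e1, show g * c * g⁻¹ * (g * a * g⁻¹) * (g * c * g⁻¹)⁻¹ = g * (c * a * c⁻¹) * g⁻¹ by group, conj_inj,
      conj_inj] at this
  have h : LW D := by
    refine ⟨sq, hc, tr, fun x hx => (p x hx).k.wt, fun x hx => (p x hx).k.trA.tr1,
      fun x hx => (p x hx).k.noCL.noC, fun x hx => ?_, fun x hx => ?_, fun x hx y hy w hw v hv a b => ?_⟩
    · obtain ⟨_ | ⟨u, _ | ⟨v, l⟩⟩, l1, l2⟩ := (p x hx).k.wEq.2
      exacts [by simp at l2, by simp at l2, ⟨u, v, l1.sublist (by simp)⟩]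
    · obtain ⟨g, rfl⟩ := isConj_iff.1 hx
      exact zen_conj hc k.k.wt zen g
    obtain ⟨μ, u, e1, e2⟩ := nm hx hy hw a b
    obtain ⟨v, hv', rfl⟩ := u.surj hv
    have cl : ∀ i ∈ [1, 2, 3, 4, 5, 6, 7, 8, 9], ∀ v ∈ {v | ∃ q ∈ D23, Commute (μ q) x ∧ Commute q v},
        gz i * v * gz i ∈ {v | ∃ q ∈ D23, Commute (μ q) x ∧ Commute q v} := fun i hi v ⟨q, h1, h2, h3⟩ => by
      have i1 : i < 10 ∧ i ≠ 0 := by revert i; decide
      have m := g_mem (x := i) (by omega)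
      have c := (e1 i i1.1).2 i1.2
      exact ⟨_, wt.conj _ m q h1, u.tri _ m q h1 ▸ (c.mul_left h2).mul_left c, by
        simpa only [wt.inv m] using (commute_conj_iff (gz i)).2 h3⟩
    obtain ⟨q, h1, h2, h3⟩ : v ∈ {v | ∃ q ∈ D23, Commute (μ q) x ∧ Commute q v} := by_contra fun n => n
      (tri23 (X := D23 ∩ {v | ∃ q ∈ D23, Commute (μ q) x ∧ Commute q v}ᶜ) Set.inter_subset_left
        (fun i hi v hv => ⟨wt.conj _ (g_mem (by revert i; decide)) _ hv.1,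
          compl_closed (F23.sq (by revert i; decide)) (cl i hi) v hv.2⟩) cl
        (fun m => m.2 ⟨gz 2, g_mem (by decide), (e1 2 (by decide)).2 (by decide), (comm 2 (by decide) 0 (by decide)).2 rfl⟩)
        (fun m => m.2 ⟨_, xw_mem, e2, .refl _⟩) ⟨gz 1, g_mem (by decide), (e1 1 (by decide)).2 (by decide), .refl _⟩ ⟨hv', n⟩)
    exact ⟨_, (u.mem h1).1, h2, (u.commute_iff h1 hv').2 h3⟩
  have e := h.dd_cp hx (LD.self hx)
  have md' := h.step hx (LD.self hx) hd'.1 hd'.2.2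
  obtain ⟨S, a, k1, k2, k3, k4, k5, k6⟩ := h.comp hx (Sep.of_dd (LD.self hx) (e ▸ (k.k.loc _ hd').sep.of_dd hd'))
  obtain ⟨f, k7, -, k8⟩ := (k1.dd k2).symm
  rw [show (closure (Cp D d)).subtype a = d from k3, e] at k7 k8
  obtain ⟨c, c1, c2⟩ := h.noc d' hd'.1 d (Dd_symm hx hd')
  obtain ⟨c, c3, rfl⟩ := k1.surj (h.step hx md' c1.1 c1.2.2)
  obtain ⟨μ, u, e1, e2⟩ := nm c1.1 hx hd' c2 c1.2.2
  have cm : ∀ q ∈ D23, Commute (f (μ q)) c ↔ Commute (μ q) c.1 := fun q hq => by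
    rw [← k1.commute_iff (k7.mem (u.mem hq)).1 c3, k8 _ (u.mem hq)]; rfl
  obtain ⟨ψ, h1, -⟩ := S24.exists_equiv (μ := fun q => f (μ q))
    (l := fun x => if x = 0 then a else if x = 1 then c else if x < 12 then f (μ (gz (x - 2))) else 1)
    ⟨k4, k5, k2, c3, fun m => c2 (by
      have : Commute c.1 a.1 := (m.map (closure (Cp D d)).subtype).symm
      rwa [k3] at this), k7.comp u,
      fun i hi => (cm _ (g_mem (by omega))).trans (e1 i hi), (cm _ xw_mem).2 e2,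
      fun x hx => by interval_cases x <;> rfl, rfl⟩ k6
  have b := b24 k4 k5 (K24.ty ⟨_, KMap.of_equiv F24.wt ψ h1⟩ k6)
  have mS : ∀ y : closure (Cp D d), y.1 ∈ Cp D d → y ∈ S := fun y m => let ⟨y', h1, h2⟩ := k1.surj m; Subtype.ext h2 ▸ h1
  have E := h.uniq' hx (k1.fixP b.k.fixP) (fun N hN a b' c h1 h2 h3 => B24_top b hN (mS a h1) (mS b' h2) (mS c h3)) hd'
    fun c c1 => h.nm hx (LD.self hx) ((un c c1).elim (fun e => e.symm ▸ LD.self hx) fun e => e.symm ▸ md')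
  have : ∀ T : Set G, T = D → ∀ S : Set (closure T), KMap (closure T).subtype S T → B24 S →
      ∃ S : Set (closure D), B24 S ∧ ∀ y, y ∈ S ↔ y.1 ∈ D := by
    rintro _ rfl S k b
    exact ⟨S, b, fun y => ⟨k.mem, fun m => let ⟨y', h1, h2⟩ := k.surj m; Subtype.ext h2 ▸ h1⟩⟩
  exact this _ E S k1 b

end Cfsg.Agent.F24U
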