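import Cfsg.Agent.Fischer.Cmp
import Cfsg.Agent.ZC.PW

/-! Classes of involutions with good perps, without the hypothesis on `C(x)` (`LW`, after helper24's `LD`); uniqueness
of the component of the commuting graph through `ZD.PW.key` (`LW.uniq`) (helper8). -/

namespace Cfsg.Agent.Fischer

open Subgroup

variable {G G' : Type*} [Group G] [Group G'] {S D : Set G}

structure LW (D : Set G) : Prop where
  sq : ∀ x ∈ D, x * x = 1
  conj : ∀ g, ∀ x ∈ D, g * x * g⁻¹ ∈ D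
  tr : ∀ x ∈ D, ∀ y ∈ D, ∃ g, g * x * g⁻¹ = y
  wt : ∀ x ∈ D, WT (Dd D x)
  tr1 : ∀ x ∈ D, Tr1 (Dd D x)
  noc : ∀ x ∈ D, NoC (Dd D x)
  ne : ∀ x ∈ D, ∃ a b, CL (Dd D x) [a, b]
  zen : ∀ x ∈ D, ∀ c, Commute c x → (∀ y ∈ Dd D x, Commute c y) → c = 1 ∨ c = x
  d2 : ∀ x ∈ D, ∀ y ∈ D, ∀ w ∈ Dd D y, ∀ v ∈ Dd D y, ¬ Commute x y → Commute w x →
    ∃ p ∈ D, Commute p x ∧ Commute p v

theorem kmap_dd_conj (hc : ∀ g, ∀ x ∈ D, g * x * g⁻¹ ∈ D) {d : G} (w : WT (Dd D d)) (g : G) :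
    KMap (fun y => g * y * g⁻¹) (Dd D d) (Dd D (g * d * g⁻¹)) :=
  KMap.conj w fun y => and_congr ⟨fun m => by simpa [mul_assoc] using hc g⁻¹ _ m, hc g y⟩
    (and_congr (conj_inj g).not (commute_conj_iff g))

theorem zen_conj (hc : ∀ g, ∀ x ∈ D, g * x * g⁻¹ ∈ D) {d : G} (w : WT (Dd D d))
    (h : ∀ c, Commute c d → (∀ y ∈ Dd D d, Commute c y) → c = 1 ∨ c = d) (g c : G) (h1 : Commute c (g * d * g⁻¹))
    (h2 : ∀ y ∈ Dd D (g * d * g⁻¹), Commute c y) : c = 1 ∨ c = g * d * g⁻¹ := by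
  obtain ⟨c, rfl⟩ : ∃ c', c = g * c' * g⁻¹ := ⟨g⁻¹ * c * g, by group⟩
  exact (h c ((commute_conj_iff g).1 h1) fun y hy => (commute_conj_iff g).1
    (h2 _ ((kmap_dd_conj hc w g).mem hy))).imp (fun e => by simp [e]) fun e => by rw [e]

theorem pair_conj (hc : ∀ g, ∀ x ∈ D, g * x * g⁻¹ ∈ D) (tr : ∀ x ∈ D, ∀ y ∈ D, ∃ g, g * x * g⁻¹ = y)
    {x x' a b : G} (hx : x ∈ D) (t : Tr1 (Dd D x)) (hx' : x' ∈ Dd D x) (ha : a ∈ D) (hb : b ∈ Dd D a) :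
    ∃ g, g * a * g⁻¹ = x ∧ g * b * g⁻¹ = x' := by
  obtain ⟨g, rfl⟩ := tr a ha x hx
  obtain ⟨k, hk, e⟩ := t (g * b * g⁻¹) ⟨hc g b hb.1, (conj_inj g).not.2 hb.2.1, (commute_conj_iff g).2 hb.2.2⟩ x' hx'
  have : k ∈ centralizer {g * a * g⁻¹} :=
    (closure_le _).2 (fun y hy => mem_centralizer_singleton_iff.2 hy.2.2.symm.eq) hk
  refine ⟨k * g, ?_, by rw [← e]; group⟩
  rw [← mul_inv_eq_iff_eq_mul.2 (mem_centralizer_singleton_iff.1 this)]; group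

theorem prim_of' [Finite G] (w : WT S) (t : closure S = ⊤) (tr : Tr1 S) (n : NoC S) {a : G} (ha : a ∈ S)
    (s : Sep S) (c : ∀ x ∈ S, ∀ y ∈ S, ∃ p ∈ S, Commute p x ∧ Commute p y)
    (z : ∀ c, Commute c a → (∀ y ∈ Dd S a, Commute c y) → c = 1 ∨ c = a) :
    IsThreeTranspositionGroup S ∧ IsPrimitiveUnderConj S ∧ center G = ⊥ := by
  have tg := w.group n.one_not_mem t
  have cls := TC.mk' tg ⟨a, ha⟩ fun x hx y hy => let ⟨g, _, e⟩ := tr x hx y hy; ⟨g, e⟩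
  obtain ⟨e, he, ne⟩ := n a ha
  have := s.cores cls
  refine ⟨tg, TC.primitive_of_connected cls ⟨e, he, a, ha, fun k => ne (k ▸ Commute.refl _)⟩ this.1 this.2
    (connected_of_induction ⟨a, ha⟩ fun X x hx hX st y hy => ?_), eq_bot_iff.2 fun g hg => ?_⟩
  · obtain ⟨p, hp, c1, c2⟩ := c x hx y hy
    exact st p hp y hy (st x hx p hp hX c1.symm) c2
  · have k := fun y => (mem_center_iff.1 hg y).symm
    exact (z g (k a) fun y _ => k y).resolve_right fun E => ne (E ▸ k e : Commute a e).symm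

namespace LW
open LD
variable {x y b g : G}

theorem step (h : LW D) (hx : x ∈ D) (k : y ∈ Cp D x) {v : G} (hv : v ∈ D) (c : Commute y v) : v ∈ Cp D x := by
  obtain ⟨hy, w, hw, a, b⟩ := k
  by_cases c1 : Commute x y
  · exact ⟨hv, y, hy, c1.symm, c⟩
  by_cases c2 : v = y
  · exact ⟨hv, w, hw, a, c2 ▸ b⟩
  exact ⟨hv, h.d2 x hx y hy w ⟨hw, fun e => c1 (e ▸ a).symm, b.symm⟩ v ⟨hv, c2, c⟩ c1 a⟩

theorem trans (h : LW D) (hx : x ∈ D) (k : y ∈ Cp D x) {v : G} (k' : v ∈ Cp D y) : v ∈ Cp D x :=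
  let ⟨hv, w, hw, a, b⟩ := k'; h.step hx (h.step hx k hw a.symm) hv b

theorem cp_eq (h : LW D) (hx : x ∈ D) (k : y ∈ Cp D x) : Cp D y = Cp D x :=
  Set.ext fun _ => ⟨h.trans hx k, h.trans k.1 (symm hx k)⟩

theorem dd_cp (h : LW D) (hx : x ∈ D) (k : y ∈ Cp D x) : Dd (Cp D x) y = Dd D y :=
  Set.ext fun _ => ⟨fun m => ⟨m.1.1, m.2⟩, fun m => ⟨h.step hx k m.1 m.2.2, m.2⟩⟩

theorem near (h : LW D) (hx : x ∈ D) {a b : G} (ha : a ∈ Cp D x) (hb : b ∈ Cp D x) :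
    ∃ p ∈ Cp D x, Commute p a ∧ Commute p b :=
  let ⟨_, w, hw, c1, c2⟩ := h.trans ha.1 (symm hx ha) hb; ⟨w, h.step hx ha hw c1.symm, c1, c2⟩

theorem near' (h : LW D) (hx : x ∈ D) {a b : G} (ha : a ∈ Cp D x) (hb : b ∈ Cp D x) :
    a = b ∨ ∃ p ∈ Cp D x, a ∈ Dd D p ∧ b ∈ Dd D p := by
  obtain ⟨p, hp, c1, c2⟩ := h.near hx ha hb
  have key : ∀ {a b}, a ∈ Cp D x → b ∈ Dd D a → ∃ p ∈ Cp D x, a ∈ Dd D p ∧ b ∈ Dd D p := fun {a b} ha hb => by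
    obtain ⟨u, v, k⟩ := h.ne a ha.1
    obtain ⟨hu, k⟩ := cl_cons.1 k
    obtain ⟨g, hg, rfl⟩ := h.tr1 a ha.1 u hu b hb
    have m := ((h.wt a ha.1).conj_dd hg u).mem (k.2.1 v (by simp))
    exact ⟨_, h.step hx ha m.1.1 m.1.2.2, Dd_symm ha.1 m.1, Dd_symm hb.1 ⟨m.1.1, m.2⟩⟩
  refine or_iff_not_imp_left.2 fun n => ?_
  by_cases e1 : a = p
  · exact key ha ⟨hb.1, Ne.symm n, e1 ▸ c2⟩
  by_cases e2 : b = p
  · exact (key hb ⟨ha.1, n, e2 ▸ c1⟩).imp fun _ k => ⟨k.1, k.2.2, k.2.1⟩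
  exact ⟨p, hp, ⟨ha.1, e1, c1⟩, hb.1, e2, c2⟩

theorem cp_wt (h : LW D) (hx : x ∈ D) : WT (Cp D x) := by
  refine ⟨fun a ha => h.sq a ha.1, fun a ha b hb => ?_, fun a ha b hb => ?_⟩ <;>
    obtain rfl | ⟨p, hp, m1, m2⟩ := h.near' hx ha hb
  exacts [.inl (.refl a), (h.wt p hp.1).br a m1 b m2, by rwa [h.sq a ha.1, one_mul],
    have := (h.wt p hp.1).conj a m1 b m2; h.step hx hp this.1 this.2.2]

theorem cp_tr1 (h : LW D) (hx : x ∈ D) : Tr1 (Cp D x) := fun a ha b hb => by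
  obtain rfl | ⟨p, hp, m1, m2⟩ := h.near' hx ha hb
  · exact ⟨1, one_mem _, by simp⟩
  obtain ⟨g, hg, e⟩ := h.tr1 p hp.1 a m1 b m2
  exact ⟨g, closure_mono (h.dd_cp hx hp ▸ fun _ m => m.1) hg, e⟩

theorem cp_noC (h : LW D) (hx : x ∈ D) : NoC (Cp D x) := fun a ha => by
  obtain ⟨u, v, k⟩ := h.ne a ha.1
  have m := k.2.1 u (by simp)
  obtain ⟨e, he, n⟩ := h.noc u m.1 a (Dd_symm ha.1 m)
  exact ⟨e, h.step hx (h.step hx ha m.1 m.2.2) he.1 he.2.2, n⟩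

theorem cp_conj (h : LW D) (g : G) (k : y ∈ Cp D x) : g * y * g⁻¹ ∈ Cp D (g * x * g⁻¹) :=
  let ⟨hy, w, hw, a, b⟩ := k
  ⟨h.conj g y hy, _, h.conj g w hw, (commute_conj_iff g).2 a, (commute_conj_iff g).2 b⟩

variable [Finite G]

theorem nm (h : LW D) (hx : x ∈ D) (k : y ∈ Cp D x) (k' : g * y * g⁻¹ ∈ Cp D x) : g ∈ cstab (Cp D x) :=
  mem_cstab_of_finite fun v hv => h.trans hx k' (h.cp_conj g (h.trans k.1 (symm hx k) hv))

theorem nm' (h : LW D) (hx : x ∈ D) (k : y ∈ Cp D x) (c : Commute g y) : g ∈ cstab (Cp D x) :=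
  h.nm hx k (by rwa [conj_eq_of_commute c])

/-- The group generated by a component. -/
theorem comp (h : LW D) (hx : x ∈ D) (s : Sep (Cp D x)) : ∃ (S : Set (closure (Cp D x))) (a : closure (Cp D x)),
      KMap (closure (Cp D x)).subtype S (Cp D x) ∧ a ∈ S ∧ a.1 = x ∧ IsThreeTranspositionGroup S ∧
        IsPrimitiveUnderConj S ∧ center (closure (Cp D x)) = ⊥ := by
  have k : KMap (closure (Cp D x)).subtype {y | y.1 ∈ Cp D x} (Cp D x) := by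
    convert KMap.of_hom ((h.cp_wt hx).subtype _) (closure (Cp D x)).subtype (subtype_injective _).injOn
    exact Set.ext fun y => ⟨fun m => ⟨⟨y, Subgroup.subset_closure m⟩, m, rfl⟩, by rintro ⟨y, m, rfl⟩; exact m⟩
  let a : closure (Cp D x) := ⟨x, Subgroup.subset_closure (self hx)⟩
  obtain ⟨f, k1, -⟩ := k.symm
  refine ⟨_, a, k, self hx, rfl, prim_of' k.wt' (closure_subtype_eq_top _) (k1.tr1 (h.cp_tr1 hx))
    (k.noC (h.cp_noC hx)) (a := a) (self hx) ?_ (fun u hu v hv => ?_) fun c c1 c2 => ?_⟩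
  · obtain ⟨y, hy, ⟨y', hy', n⟩, s⟩ := s
    refine ⟨⟨y, Subgroup.subset_closure hy⟩, hy, ⟨⟨y', Subgroup.subset_closure hy'⟩, hy',
      fun c => n (congrArg Subtype.val c)⟩, fun v hv e => ?_⟩
    obtain ⟨u, hu, h1, h2, h3⟩ := s v hv fun k => e (Subtype.ext k)
    exact ⟨⟨u, Subgroup.subset_closure hu⟩, hu, fun k => h1 (congrArg Subtype.val k), fun k => h2 (congrArg Subtype.val k),
      fun k => h3 ⟨fun c => congrArg Subtype.val (k.1 (Subtype.ext c)), fun c => congrArg Subtype.val (k.2 (Subtype.ext c))⟩⟩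
  · obtain ⟨p, hp, c1, c2⟩ := h.near hx hu hv
    exact ⟨⟨p, Subgroup.subset_closure hp⟩, hp, Subtype.ext c1, Subtype.ext c2⟩
  · refine (h.zen x hx c (c1.map (closure (Cp D x)).subtype) fun y hy => ?_).imp Subtype.ext Subtype.ext
    have m := (h.dd_cp hx (self hx)).ge hy
    exact (c2 ⟨y, Subgroup.subset_closure m.1⟩ ⟨m.1, fun e => hy.2.1 (congrArg Subtype.val e),
      Subtype.ext hy.2.2⟩).map (closure (Cp D x)).subtype

theorem not_mem (h : LW D) (hx : x ∈ D) (hy : y ∈ Dd D x) : x * y ∉ D := fun m => by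
  obtain ⟨e, he, n⟩ := h.noc x hx y hy
  have y1 : y ≠ 1 := by rintro rfl; exact n (Commute.one_right e)
  have w := h.wt x hx
  have m' : x * y ∈ Dd D x := ⟨m, by simpa using y1, (Commute.refl x).mul_right hy.2.2⟩
  have b1 := (br_iff_cube (w.sq e he) (w.sq y hy)).1 ((w.br e he y hy).resolve_left n)
  have b2 := (br_iff_cube (w.sq e he) (w.sq _ m')).1 ((w.br e he _ m').resolve_left fun c => n (by
    simpa [← mul_assoc, h.sq x hx] using he.2.2.symm.mul_right c))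
  rw [← he.2.2.left_comm, (he.2.2.mul_right hy.2.2).mul_pow, b1, mul_one, pow_succ, pow_two, h.sq x hx, one_mul] at b2
  obtain ⟨g, e⟩ := h.tr x hx y hy.1
  exact y1 (by rw [← e, b2]; simp)

section uniq
variable (h : LW D) (hx : x ∈ D) (fx : FixP (Cp D x))
include h hx fx

theorem fixc (hg : g ∈ cstab (Cp D x)) (s : g * g = 1) : ∃ y ∈ Cp D x, Commute g y := by
  obtain ⟨y, hy, e⟩ := fx _ (KMap.conj (h.cp_wt hx) (mem_cstab.1 hg)) fun y _ => by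
    rw [inv_eq_of_sq s]; simp only [← mul_assoc, s, one_mul]; rw [mul_assoc, s, mul_one]
  exact ⟨y, hy, mul_inv_eq_iff_eq_mul.1 e⟩

theorem u1 (hy : y ∈ D) (hg : y ∈ cstab (Cp D x)) : y ∈ Cp D x :=
  let ⟨_, hv, c⟩ := h.fixc hx fx hg (h.sq y hy); h.step hx hv hy c.symm

theorem uniq (sim : IsSimpleGroup (closure (Cp D x))) {x' : G} (hx' : x' ∈ Dd D x)
    (un : ∀ c, Commute c (x * x') → c ∈ cstab (Cp D x)) : Cp D x = D := by
  set N := cstab (Cp D x) with hN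
  have sq2 : ∀ a ∈ D, ∀ b ∈ Dd D a, a * b * (a * b) = 1 := fun a ha b hb => by
    rw [hb.2.2.symm.mul_mul_mul_comm, h.sq a ha, h.sq b hb.1, one_mul]
  have u2 : ∀ a ∈ D, ∀ b ∈ Dd D a, a * b ∈ N → a ∈ Cp D x := fun a ha b hb m => by
    obtain ⟨c, hc, cc⟩ := h.fixc hx fx m (sq2 a ha b hb)
    obtain ⟨g, e1, e2⟩ := pair_conj h.conj h.tr hx (h.tr1 x hx) hx' ha hb
    have m1 := h.u1 hx fx (h.conj g c hc.1) (un _ (by
      rw [← e1, ← e2, conj_mul]; exact (commute_conj_iff g).2 cc.symm))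
    exact (mem_cstab.1 (h.nm hx hc m1) a).1 (by rw [e1]; exact self hx)
  have fi : ∀ a g : G, a • (g : G ⧸ N) = g ↔ g⁻¹ * a * g ∈ N := fun a g => by
    rw [MulAction.Quotient.smul_mk, smul_eq_mul, eq_comm, QuotientGroup.eq, mul_assoc]
  have eqc : ∀ a g g' : G, g⁻¹ * a * g ∈ Cp D x → g'⁻¹ * a * g' ∈ Cp D x → (g : G ⧸ N) = g' := fun a g g' h1 h2 => by
    rw [QuotientGroup.eq]
    exact h.nm hx h2 (by simpa [mul_assoc] using h1)
  have cj : ∀ g, ∀ a ∈ D, g⁻¹ * a * g ∈ D := fun g a ha => by simpa using h.conj g⁻¹ a ha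
  have P : ZD.PW G (G ⧸ N) D := by
    refine ⟨fun a ha => orderOf_of_sq (h.sq a ha) fun e => ?_, fun a ha g => h.conj g a ha, fun a ha => ?_,
      fun a ha => ?_, fun a => ?_, fun a ha b hb c n => ?_⟩
    · obtain ⟨g, e'⟩ := h.tr a ha x hx
      obtain ⟨g', e''⟩ := h.tr a ha x' hx'.1
      exact hx'.2.1 (by rw [← e', ← e'', e]; simp)
    · obtain ⟨g, rfl⟩ := h.tr x hx a ha
      exact ⟨g, (fi _ _).2 (by simpa [mul_assoc] using h.nm' hx (self hx) (.refl x))⟩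
    · rintro ⟨g⟩ ⟨g'⟩ h1 h2
      exact eqc a g g' (h.u1 hx fx (cj g a ha) ((fi _ _).1 h1)) (h.u1 hx fx (cj g' a ha) ((fi _ _).1 h2))
    · obtain ⟨g⟩ := a
      exact ⟨_, h.conj g x hx, (fi _ g).2 (by simpa [mul_assoc] using h.nm' hx (self hx) (.refl x))⟩
    · have k : ∀ g : G, (a * b) • (g : G ⧸ N) = g → g⁻¹ * a * g ∈ Cp D x := fun g e =>
        u2 _ (cj g a ha) (g⁻¹ * b * g) ⟨cj g b hb, fun e => n (by simpa using e.symm),
          by simpa using (commute_conj_iff g⁻¹).2 c⟩ (by simpa [mul_assoc] using (fi _ _).1 e)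
      rintro ⟨g⟩ ⟨g'⟩ h1 h2
      exact eqc a g g' (k g h1) (k g' h2)
  refine Set.ext fun y => ⟨fun m => m.1, fun hy => ?_⟩
  obtain ⟨g, rfl⟩ := h.tr x hx y hy
  by_contra hn
  have ne : ((1 : G) : G ⧸ N) ≠ g := fun e => hn ((mem_cstab.1 (by simpa using QuotientGroup.eq.1 e) x).2 (self hx))
  have m' := h.step hx (self hx) hx'.1 hx'.2.2
  obtain ⟨w, hw, c, n, t, -⟩ := P.key (sq2 x hx x' hx') (h.not_mem hx hx') (P.prod x hx x' hx'.1 hx'.2.2 hx'.2.1.symm)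
    ((fi _ 1).2 (by simpa using un _ (.refl _))) ne
  have mw := h.u1 hx fx hw (un w c.symm)
  rcases sim.eq_bot_or_eq_top_of_normal ((MulAction.toPermHom G (G ⧸ N)).ker.subgroupOf _) inferInstance with e | e
  · have : (⟨x * x' * w, mul_mem (mul_mem (subset_closure (self hx)) (subset_closure m')) (subset_closure mw)⟩ :
        closure (Cp D x)) ∈ (⊥ : Subgroup _) := e ▸ Equiv.ext t
    exact n (congrArg Subtype.val (mem_bot.1 this))
  · have : (⟨x, subset_closure (self hx)⟩ : closure (Cp D x)) ∈ (MulAction.toPermHom G (G ⧸ N)).ker.subgroupOf _ :=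
      e ▸ mem_top _
    have k : ∀ c : G ⧸ N, x • c = c := Equiv.ext_iff.1 this
    exact ne (P.uniq x hx _ _ (k _) (k _))

end uniq
end LW

end Cfsg.Agent.Fischer
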