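import Cfsg.Agent.F24U.Data

/-! The four-group `EE ν`, its centraliser `YY ν`, the class `DD z ν` of `z` in it, and the members of `DD` commuting
with `z` (helper8). -/

set_option autoImplicit false

namespace Cfsg.Agent.F24U
open Cfsg.Agent.Comp Cfsg.Agent.Fischer Subgroup J4T F24T MulAction

variable {G : Type*} [Group G] {z p : G} {θ : ℕ → G} {μ : centralizer ({z} : Set G) →* MulAut (XV 12)}
  {x : ℕ → G} {ν : XV 11 →* G}

abbrev nu (ν : XV 11 →* G) (v : ℕ) : G := ν (XV.mk' 11 v)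

theorem nu_xor {a b : ℕ} (ha : a < 2048) (hb : b < 2048) : nu ν a * nu ν b = nu ν (a ^^^ b) := by
  rw [nu, nu, nu, mk'_xor ha hb, map_mul]
theorem nu_zero : nu ν 0 = 1 := map_one ν
theorem nu_sq (a : ℕ) : nu ν a * nu ν a = 1 := by rw [← map_mul, ← sq, XV.sq, map_one]
theorem nu_comm (a b : ℕ) : Commute (nu ν a) (nu ν b) := (Commute.all _ _).map ν
theorem comm_V {a b : G} (ha : a ∈ ν.range) (hb : b ∈ ν.range) : Commute a b := by
  obtain ⟨a, rfl⟩ := ha; obtain ⟨b, rfl⟩ := hb; exact (Commute.all _ _).map ν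

def EE (ν : XV 11 →* G) : Subgroup G where
  carrier := {g | ∃ v ∈ [0, 2, 59, 57], nu ν v = g}
  one_mem' := ⟨0, by simp, nu_zero⟩
  mul_mem' := by
    rintro _ _ ⟨a, ha, rfl⟩ ⟨b, hb, rfl⟩
    have := (by decide : ∀ a ∈ [0, 2, 59, 57], ∀ b ∈ [0, 2, 59, 57], a < 2048 ∧ b < 2048 ∧ a ^^^ b ∈ [0, 2, 59, 57]) a ha b hb
    exact ⟨_, this.2.2, (nu_xor this.1 this.2.1).symm⟩
  inv_mem' := by rintro _ ⟨a, ha, rfl⟩; exact ⟨a, ha, (inv_eq_of_sq (nu_sq a)).symm⟩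

def YY (ν : XV 11 →* G) : Subgroup G := centralizer (EE ν)

theorem mem_YY {g : G} : g ∈ YY ν ↔ Commute g (nu ν 2) ∧ Commute g (nu ν 59) := by
  refine ⟨fun h => ⟨(h _ ⟨2, by simp, rfl⟩).symm, (h _ ⟨59, by simp, rfl⟩).symm⟩, ?_⟩
  rintro h _ ⟨v, hv, rfl⟩
  simp only [List.mem_cons, List.not_mem_nil, or_false] at hv
  rcases hv with rfl | rfl | rfl | rfl
  exacts [by simp [nu_zero], h.1.symm, h.2.symm, by
    rw [show 57 = 2 ^^^ 59 from rfl, ← nu_xor (by norm_num) (by norm_num)]; exact (h.1.mul_right h.2).symm]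
theorem V_YY : ν.range ≤ YY ν := fun _ h => mem_YY.2 ⟨comm_V h ⟨_, rfl⟩, comm_V h ⟨_, rfl⟩⟩
theorem EE_V : EE ν ≤ ν.range := by rintro _ ⟨v, -, rfl⟩; exact ⟨_, rfl⟩

def DD (z : G) (ν : XV 11 →* G) : Set G := {y | ∃ g ∈ YY ν, g * z * g⁻¹ = y}

theorem DD_conj {g y : G} (hg : g ∈ YY ν) (hy : y ∈ DD z ν) : g * y * g⁻¹ ∈ DD z ν :=
  let ⟨k, hk, e⟩ := hy; ⟨g * k, mul_mem hg hk, by rw [← e]; group⟩
theorem Dd_conj {g y : G} (hg : g ∈ YY ν) (c : Commute g z) (hy : y ∈ Dd (DD z ν) z) : g * y * g⁻¹ ∈ Dd (DD z ν) z := by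
  have e := mul_inv_eq_iff_eq_mul.2 c.eq
  exact ⟨DD_conj hg hy.1, fun h => hy.2.1 ((conj_inj g).1 (h.trans e.symm)), e ▸ (commute_conj_iff g).2 hy.2.2⟩

def HR (μ : centralizer ({z} : Set G) →* MulAut (XV 12)) (c : ℕ) (g : G) : Prop :=
  ∃ h : g ∈ centralizer ({z} : Set G), IR c (μ ⟨g, h⟩)
theorem isGrp_HR : IsGrp (HR μ) mulM invM one12 :=
  ⟨fun _ g _ h ⟨a, c⟩ ⟨a', c'⟩ => ⟨mul_mem a a', by
    have := isGrp_IR.mul c c'; rwa [← map_mul] at this⟩,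
   fun _ g ⟨a, c⟩ => ⟨inv_mem a, by have := isGrp_IR.inv c; rwa [← map_inv] at this⟩,
   one_mem _, by have := isGrp_IR.one; rwa [← map_one μ] at this⟩
theorem HR.canon {c c' : ℕ} {g : G} (h : HR μ c g) (h' : HR μ c' g) : c = c' := isCanon_IR.canon h.2 h'.2
theorem HR.cz {c : ℕ} {g : G} (h : HR μ c g) : Commute g z := mem_centralizer_singleton_iff.1 h.1
theorem KR_HR {c : ℕ} {g : G} (h : KR p μ c g) : HR μ c g := ⟨h.1, h.2.2⟩

structure Hy (z p : G) (θ : ℕ → G) (μ : centralizer ({z} : Set G) →* MulAut (XV 12)) (x : ℕ → G) (ν : XV 11 →* G) :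
    Prop extends F24T.Bt z p θ μ x ν 3 where
  hy : ∃ y, VR ν cY y
  hs : IsConj z (θ F24T.s0)

namespace Hy
variable [Finite G] (B : Hy z p θ μ x ν)
include B

theorem e1 : nu ν 2 = θ 3584 := B.toBt.νx
theorem e2 : nu ν 59 = θ 1792 := by rw [nu, B.toBt.νU (by norm_num), show F24T.ut 59 = 1792 by decide +kernel]
theorem nz : nu ν 64 = z := B.toBt.νz
theorem zV : z ∈ ν.range := ⟨_, B.nz⟩
theorem nu_inj {a b : ℕ} (ha : a < 2048) (hb : b < 2048) (e : nu ν a = nu ν b) : a = b := by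
  have := congrArg XV.val (B.injν e)
  rwa [XV.mk'_val ha, XV.mk'_val hb] at this

theorem HR_eq {c : ℕ} {g g' : G} (h : HR μ c g) (h' : HR μ c g') : ∃ a < 8192, g = θ a * g' := by
  obtain ⟨a, ha, e⟩ := (B.core _).1 ((B.ker (⟨g, h.1⟩ * ⟨g', h'.1⟩⁻¹)).1 (by
    rw [map_mul, map_inv, isCanon_IR.func h.2 h'.2, mul_inv_cancel]))
  exact ⟨a, ha, by rw [e]; simp⟩
theorem HR_nu {v : ℕ} (hv : v < 2048) : HR μ (F24T.rcode (v / 128)) (nu ν v) :=
  ⟨B.toBt.νH _, by have := B.toBt.μν (XV.mk' 11 v); rwa [XV.mk'_val hv] at this⟩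
theorem exHR {g : G} (h : Commute g z) : ∃ c, HR μ c g :=
  let ⟨c, hc⟩ := B.toSt.exists_IR ⟨g, mem_centralizer_singleton_iff.2 h⟩; ⟨c, _, hc⟩

theorem codesM : CodesIn (MR 11) LM4 Ms := fun c hc => B.toBt.codesM B.hy c (List.mem_append_left _ hc)

theorem conj_nu {v : ℕ} (hv : v < 2048) (h0 : v ≠ 0) (h : ¬ IsConj z (nu ν v)) : mD.testBit v = true := by
  obtain ⟨n, -, e | e⟩ := B.toBt.orbN B.hy (v := XV.mk' 11 v) fun e => h0 (by
    have := congrArg XV.val e; rwa [XV.mk'_val hv] at this)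
  exacts [absurd (isConj_iff.2 ⟨n, e⟩) h, XV.mk'_val (n := 11) hv ▸ e.2]

theorem nconj {v : ℕ} (h : mD.testBit v = true) : ¬ IsConj z (nu ν v) := fun c => by
  obtain ⟨a, ha, e⟩ := orbV_reach B.codesM (by norm_num) ((mem_of_mask _ 0 (ck_mD ▸ h)).resolve_left (by simp))
  obtain ⟨n, hn⟩ := B.toBt.real B.hy ha
  refine B.toSt.not_fused X0_le (c.trans (isConj_iff.2 ⟨n, ?_⟩).symm)
  rw [← B.toBt.νx, hn, nu, ← e, XV.mk'_self]

theorem pat {y : G} (hy : y ∈ DD z ν) : IsConj z y ∧ ∀ e ∈ [2, 59, 57], ¬ IsConj z (y * nu ν e) := by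
  obtain ⟨g, hg, rfl⟩ := hy
  refine ⟨isConj_iff.2 ⟨g, rfl⟩, fun e he c => ?_⟩
  have := (by decide +kernel : ∀ e ∈ [2, 59, 57], e < 2048 ∧ mD.testBit (64 ^^^ e) = true) e he
  refine B.nconj this.2 (c.trans (isConj_iff.2 ⟨g, ?_⟩).symm)
  rw [← nu_xor (by norm_num) this.1, B.nz, mul_assoc (g * z), ← (show Commute (nu ν e) g from
    hg _ ⟨e, List.mem_cons_of_mem _ he, rfl⟩).inv_right.eq]; group

theorem pat' {y e : G} (hy : y ∈ DD z ν) (he : e ∈ EE ν) (c : IsConj z (y * e)) : e = 1 := by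
  obtain ⟨v, hv, rfl⟩ := he
  rcases List.mem_cons.1 hv with rfl | hv
  exacts [nu_zero, absurd c ((B.pat hy).2 v hv)]

theorem DD_sq {y : G} (hy : y ∈ DD z ν) : y * y = 1 := by
  obtain ⟨g, -, rfl⟩ := hy; rw [conj_mul, B.toFr.zz, mul_one, mul_inv_cancel]
theorem DD_Y {y : G} (hy : y ∈ DD z ν) : y ∈ YY ν := by
  obtain ⟨g, hg, rfl⟩ := hy; exact mul_mem (mul_mem hg (V_YY B.zV)) (inv_mem hg)

theorem memL {y : G} (hy : y ∈ Dd (DD z ν) z) (hV : y ∈ ν.range) : ∃ v ∈ L20, nu ν v = y := by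
  obtain ⟨w, rfl⟩ := hV
  obtain ⟨v, hv, rfl⟩ : ∃ v < 2048, w = XV.mk' 11 v := ⟨w.val, w.lt, (XV.mk'_self w).symm⟩
  obtain ⟨h1, h2⟩ := B.pat hy.1
  refine ⟨v, (ck_L21 v hv (by_contra fun h => B.nconj (by simpa using h) h1) (fun e => B.toFr.z1 (by
    rw [e] at h1; exact isConj_one_left.1 (nu_zero (ν := ν) ▸ h1))) fun e he => or_iff_not_imp_left.2 fun n => ?_).resolve_left
    fun e => hy.2.1 (e ▸ B.nz), rfl⟩
  have l : e < 2048 := by simp at he; omega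
  exact B.conj_nu (Nat.xor_lt_two_pow (n := 11) hv l) (mt Nat.eq_of_xor_eq_zero n) (nu_xor (ν := ν) hv l ▸ h2 e he)

theorem codesL : CodesIn (MR 11) (fixL (fixL LM 2) 59) (Ms ⊓ stabilizer _ (XV.mk' 11 2) ⊓ stabilizer _ (XV.mk' 11 59)) :=
  ((isGrp11.slpW _ B.codesM).filter_fix isAct_MR VP.func (show VP 11 2 (XV.mk' 11 2) from rfl)).filter_fix isAct_MR VP.func
    (show VP 11 59 (XV.mk' 11 59) from rfl)

theorem realY {a : MulAut (XV 11)} (ha : a ∈ Ms ⊓ stabilizer _ (XV.mk' 11 2) ⊓ stabilizer _ (XV.mk' 11 59)) :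
    ∃ n ∈ YY ν, ∀ v, n * ν v * n⁻¹ = ν (a v) :=
  let ⟨n, hn⟩ := B.toBt.real B.hy ha.1.1
  ⟨n, mem_YY.2 ⟨mul_inv_eq_iff_eq_mul.1 ((hn _).trans (congrArg ν ha.1.2)),
    mul_inv_eq_iff_eq_mul.1 ((hn _).trans (congrArg ν ha.2))⟩, hn⟩

theorem L20_mem {v : ℕ} (hv : v ∈ L20) : nu ν v ∈ Dd (DD z ν) z := by
  obtain ⟨a, ha, e⟩ := orbV_reach B.codesL (by norm_num) (ck_orb21 v hv)
  obtain ⟨n, hn, h⟩ := B.realY ha
  have := (by decide : ∀ v ∈ L20, v < 2048 ∧ v ≠ 64) v hv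
  exact ⟨⟨n, hn, by rw [← B.nz, h, nu, ← e, XV.mk'_self]⟩, fun e => this.2 (B.nu_inj this.1 (by norm_num) (B.nz ▸ e)),
    comm_V B.zV ⟨_, rfl⟩⟩

theorem L20_tr {v : ℕ} (hv : v ∈ L20) : ∃ g ∈ YY ν, Commute g z ∧ g * nu ν 192 * g⁻¹ = nu ν v := by
  obtain ⟨a, ha, e⟩ := orbV_reach (B.codesL.filter_fix isAct_MR VP.func (show VP 11 64 (XV.mk' 11 64) from rfl)) (by norm_num)
    (ck_orb20 v hv)
  obtain ⟨n, hn, h⟩ := B.realY ha.1
  exact ⟨n, hn, mul_inv_eq_iff_eq_mul.1 (by rw [← B.nz, h]; exact congrArg ν ha.2), by rw [h, nu, ← e, XV.mk'_self]⟩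

theorem inO {b : ℕ} (hb : b < 8192) (h2 : θ b * θ b = 1) (h1 : θ b ≠ 1) (h : ¬ IsConj z (θ b)) :
    b % 4096 ∈ orbV LX0 400 F24T.x0 := by
  have F := B.toFr
  have k2 : bt (b % 4096) (b % 4096) = 0 := by
    have l := bt_lt (b % 4096) (b % 4096)
    have e : θ (b % 4096) * θ (b % 4096) = 1 := by
      rcases B.toSt.θmod hb with e | e <;> rw [e] at h2
      · exact h2
      · rwa [(F.cz (by omega)).symm.mul_mul_mul_comm, F.zz, mul_one] at h2
    rw [F.sq (by omega)] at e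
    interval_cases bt (b % 4096) (b % 4096)
    exacts [rfl, absurd ((pow_one z).symm.trans e) F.z1]
  refine (F24T.orbsX _ (by omega) k2 fun e => ?_).resolve_left fun m => ?_
  · rcases B.toSt.θmod hb with e' | e' <;> rw [e, F.θ0] at e'
    exacts [h1 e', h (by rw [e', one_mul])]
  · obtain ⟨a, ha, e⟩ := orbV_reach codesX0.toMR (by decide) m
    obtain ⟨k, -, e⟩ := B.toSt.conj_of (by decide) (by decide) hb (X0_le ha) e
    exact h (B.hs.trans (isConj_iff.2 ⟨k, e⟩))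

theorem pure {b : ℕ} (hb : b < 8192) (h2 : θ b * θ b = 1) (h1 : θ b ≠ 1) (h : ¬ IsConj z (θ b))
    (c : Commute (θ b) (θ 3584)) (h1' : θ b * θ 3584 ≠ 1) (h' : ¬ IsConj z (θ b * θ 3584))
    (k : Commute (θ b) (θ 1792) ∨ app (F24T.rcode 10) (b % 4096) = b % 4096) :
    b % 4096 = 1792 ∨ b % 4096 = 2304 := by
  have F := B.toFr
  have m : ∀ y < 8192, bf (b % 4096) y = bf b y := fun y hy => by
    rcases split_z hb with hv | ⟨v, hv, rfl⟩
    · rw [Nat.mod_eq_of_lt hv]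
    · rw [show 4096 = 2 ^ 12 from rfl, Nat.xor_mod_two_pow, Nat.mod_self, Nat.xor_zero, Nat.mod_eq_of_lt hv]
      simp only [bf_eq, show 2 ^ 12 = 4096 from rfl, bt_xor, bt_xor', bt_z, bt_z', Nat.xor_zero]
  have h3 := B.inO hb h2 h1 h
  have s : θ b * θ 3584 * (θ b * θ 3584) = 1 := by
    rw [c.symm.mul_mul_mul_comm, h2, ← B.e1, nu_sq, one_mul]
  rw [F.mul _ hb _ (by norm_num)] at h1' h' s
  have h4 := B.inO (emul_lt hb (by norm_num)) s h1' h'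
  rw [show emul b 3584 % 4096 = Nat.xor (b % 4096) 3584 by
    have := bt_lt b 3584
    rw [emul_eq, show 4096 = 2 ^ 12 from rfl, Nat.xor_mod_two_pow, Nat.xor_mod_two_pow]
    interval_cases bt b 3584 <;> exact Nat.xor_zero _] at h4
  have := allL_iff.1 (forceL_eq .. ▸ ck_pure) _ h3
  simp only [memL_iff.2 h4, bor_eq, band_eq, Bool.not_true, Bool.false_or, Bool.or_eq_true, memL_iff, Bool.and_eq_true,
    nbeq, m _ (show 3584 < 8192 by norm_num), m _ (show 1792 < 8192 by norm_num), (F.comm_iff hb (by norm_num)).1 c,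
    Bool.not_eq_true', nbeq_false] at this
  rcases this with h | ⟨h5, h | h⟩
  · simpa using h
  · exact absurd h (by decide)
  · rcases k with k | k
    exacts [absurd (h.symm.trans ((F.comm_iff hb (by norm_num)).1 k)) (by decide), absurd k h5]

theorem θV {b : ℕ} (hb : b < 8192) (h : F24T.inU (b % 4096) = true) : θ b ∈ ν.range :=
  B.toBt.θ_mem hb (F24T.ut_of_inU _ (Nat.mod_lt _ (by norm_num)) h)

theorem exQ {a : ℕ} (ha : a < 8192) (h : θ a ∈ YY ν) : ∃ j < 1024, a = app MQ j ∨ a = app MQ j ^^^ 4096 := by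
  obtain ⟨h1, h2⟩ := mem_YY.1 h
  rw [B.e1, B.toFr.comm_iff ha (by norm_num)] at h1
  rw [B.e2, B.toFr.comm_iff ha (by norm_num)] at h2
  rcases split_z ha with hv | ⟨v, hv, rfl⟩
  · exact (ck_Q a hv h1 h2).imp fun _ k => ⟨k.1, .inl k.2.symm⟩
  · simp only [bf_eq, bt_xor, bt_xor', bt_z, bt_z', Nat.xor_zero] at h1 h2
    exact (ck_Q v hv h1 h2).imp fun _ k => ⟨k.1, .inr (by rw [k.2])⟩

theorem inV {y : G} (hy : y ∈ Dd (DD z ν) z) {c : ℕ} (hc : c ∈ F24T.LR) (h : HR μ c y) : ∃ v ∈ L20, nu ν v = y := by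
  have F := B.toFr
  refine B.memL hy ?_
  obtain ⟨m, hm, rfl⟩ := exists_nthL hc
  have hm' : m < 16 := hm
  rw [F24T.LR_eq m hm'] at h
  have r := F24T.KR_rho B.hx m
  have rV : rho x m ∈ ν.range := ⟨_, B.toBt.νrho hm'⟩
  obtain ⟨a, ha, rfl⟩ := B.HR_eq h (KR_HR r)
  have aY : θ a ∈ YY ν := (mul_mem_cancel_right (V_YY rV)).1 (B.DD_Y hy.1)
  obtain ⟨p1, p2⟩ := B.pat hy.1
  refine mul_mem ?_ rV
  rcases m with _ | m
  · have e : rho x 0 = 1 := by rw [← B.toBt.νrho hm']; exact nu_zero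
    rw [e, mul_one] at hy p1 p2
    obtain ⟨c1, c2⟩ := mem_YY.1 aY
    have n : ∀ e ∈ [2, 59, 57], θ a * nu ν e ≠ 1 := fun e he k => B.nconj
      ((by decide +kernel : ∀ e ∈ [2, 59, 57], mD.testBit e = true) e he) (by
        rwa [eq_inv_of_mul_eq_one_left k, inv_eq_of_sq (nu_sq e)] at p1)
    have e3 : θ a * nu ν 59 * nu ν 2 = θ a * nu ν 57 := by rw [mul_assoc, nu_xor (by norm_num) (by norm_num)]; rfl
    have e4 : θ (emul a 1792) = θ a * nu ν 59 := by rw [B.e2, F.mul _ ha _ (by norm_num)]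
    have := B.pure (emul_lt ha (show 1792 < 8192 by norm_num)) (by
      rw [e4, c2.symm.mul_mul_mul_comm, B.DD_sq hy.1, nu_sq, one_mul]) (e4 ▸ n 59 (by simp)) (e4 ▸ p2 59 (by simp))
      (by rw [e4, ← B.e1]; exact c1.mul_left (nu_comm ..)) (by rw [e4, ← B.e1, e3]; exact n 57 (by simp))
      (by rw [e4, ← B.e1, e3]; exact p2 57 (by simp)) (.inl (by rw [e4, ← B.e2]; exact c2.mul_left (.refl _)))
    exact (mul_mem_cancel_right (show nu ν 59 ∈ ν.range from ⟨_, rfl⟩)).1 (e4 ▸ B.θV (emul_lt ha (by norm_num)) (by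
      rcases this with e | e <;> rw [e] <;> decide +kernel))
  obtain ⟨j, hj, hj'⟩ := B.exQ ha aY
  have k := allLt_iff.1 ck_inv m (by omega)
  rw [force_eq] at k
  replace k := allLt_iff.1 (allLt_iff.1 k (j / 32) (by omega)) (j % 32) (by omega)
  rw [force_eq, show Nat.add (Nat.mul 32 (j / 32)) (j % 32) = j from Nat.div_add_mod j 32, band_eq,
    Bool.and_eq_true] at k
  replace k : invB (F24T.rcode (m + 1)) a = true := by rcases hj' with rfl | rfl; exacts [k.1, k.2]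
  have s : rho x (m + 1) * rho x (m + 1) = 1 := by rw [← B.toBt.νrho hm']; exact nu_sq _
  have h0 : emul a (kact (F24T.rcode (m + 1)) a) = 0 := F.inj _ (emul_lt ha (kact_lt ..)) _ (by norm_num) (by
    rw [← F.mul _ ha _ (kact_lt ..), ← B.toSt.KR_act r ha, inv_eq_of_sq s, F.θ0, ← B.DD_sq hy.1]; group)
  simp only [invB, h0, bor_eq, Bool.or_eq_true, anyL_iff, nbeq, Bool.not_eq_true', nbeq_false, ne_eq, not_true,
    false_or] at k
  refine B.θV ha (k.resolve_right fun ⟨q, hq, e⟩ => p2 2 (by simp) (p1.trans (isConj_iff.2 ⟨θ q, ?_⟩)))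
  have lq : q < 8192 := by simp at hq; omega
  rw [mul_assoc (θ a), (comm_V (b := nu ν 2) rV ⟨_, rfl⟩).eq, B.e1, ← mul_assoc (θ a), F.mul _ ha _ (by norm_num), ← e,
    ← F.mul _ (emul_lt lq ha) _ (kact_lt ..), ← F.mul _ lq _ ha, ← B.toSt.KR_act r (einv_lt lq), ← F.inv lq]; group

theorem V_le {K : Subgroup G} (h : ∀ v ∈ L20, nu ν v ∈ K) : ν.range ≤ K := by
  rintro _ ⟨w, rfl⟩
  obtain ⟨j, hj, e⟩ := ck_V _ w.lt
  have l : ∀ j < 2 ^ 11, app MV j < 2048 := app_lt_of (n := 11) (by norm_num) (by decide +kernel)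
  rw [← XV.mk'_self w, ← e]
  exact xind (P := fun j => nu ν (app MV j) ∈ K) (by rw [app_zero, nu_zero]; exact one_mem _)
    (fun i hi => h _ ((by decide +kernel : ∀ i < 11, app MV (2 ^ i) ∈ L20) i hi))
    (fun a ha b hb h1 h2 => by rw [app_xor, ← nu_xor (l a ha) (l b hb)]; exact mul_mem h1 h2) j hj

theorem V_cl : ν.range ≤ closure (Dd (DD z ν) z) := B.V_le fun _ h => subset_closure (B.L20_mem h)

theorem cl_le : closure (Dd (DD z ν) z) ≤ YY ν ⊓ centralizer {z} :=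
  (closure_le _).2 fun _ h => ⟨B.DD_Y h.1, mem_centralizer_singleton_iff.2 h.2.2.symm⟩

theorem KR_nu {m b : ℕ} (hm : m < 16) (hb : b < 2) : KR p μ (F24T.rcode m) (nu ν (128 * m + 64 * b)) := by
  have r := F24T.KR_rho B.hx m
  rw [nu, F24T.νR B.toFr B.hν hm hb, ← (r.cz.pow_right b).eq]
  interval_cases b
  exacts [by simpa using r, by simpa using B.toSt.KR_mulz r]

theorem exk0 : ∃ k ∈ YY ν, KR p μ k0 k := by
  obtain ⟨g, hg, h⟩ := isGrp_IR.evalW_mem F24T.codesX [6, 0, 7]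
  obtain ⟨k, h1, rfl⟩ := B.frat g hg
  rw [show evalW mulM invM one12 F24T.LX [6, 0, 7] = k0 by decide +kernel] at h
  have r : KR p μ k0 k := ⟨k.2, h1, h⟩
  refine ⟨k, mem_YY.2 ⟨mul_inv_eq_iff_eq_mul.1 ?_, mul_inv_eq_iff_eq_mul.1 ?_⟩, r⟩
  · rw [B.e1, B.toSt.KR_act r (by norm_num), show kact k0 3584 = 3584 by decide +kernel]
  · rw [B.e2, B.toSt.KR_act r (by norm_num), show kact k0 1792 = 1792 by decide +kernel]

theorem codesG : CodesIn (KR p μ) LG (closure (Dd (DD z ν) z)) := by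
  obtain ⟨k, hk, r⟩ := B.exk0
  have m : ∀ {m b c}, m < 16 → b < 2 → 128 * m + 64 * b ∈ L20 → F24T.rcode m = c → ∃ g ∈ Dd (DD z ν) z, KR p μ c g :=
    fun hm hb h e => ⟨_, B.L20_mem h, e ▸ B.KR_nu hm hb⟩
  have m' : ∀ {m c}, m < 16 → 128 * m + 64 * 1 ∈ L20 → conjC mulM invM k0 (F24T.rcode m) = c →
      ∃ g ∈ Dd (DD z ν) z, KR p μ c g :=
    fun hm h e => ⟨_, Dd_conj hk r.cz (B.L20_mem h), e ▸ isGrp_KR.conj r (B.KR_nu hm one_lt_two)⟩
  intro c hc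
  refine Exists.imp (fun _ h => ⟨subset_closure h.1, h.2⟩) (?_ : ∃ g ∈ Dd (DD z ν) z, KR p μ c g)
  simp only [LG, List.mem_cons, List.not_mem_nil, or_false] at hc
  rcases hc with rfl | rfl | rfl | rfl | rfl | rfl
  exacts [m (m := 1) (b := 1) (by decide) (by decide) (by decide) (by decide +kernel),
    m (m := 3) (b := 1) (by decide) (by decide) (by decide) (by decide +kernel),
    m (m := 7) (b := 1) (by decide) (by decide) (by decide) (by decide +kernel),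
    m (m := 10) (b := 0) (by decide) (by decide) (by decide) (by decide +kernel),
    m' (m := 1) (by decide) (by decide) (by decide +kernel), m' (m := 3) (by decide) (by decide) (by decide +kernel)]

theorem exW (w : List ℕ) : ∃ k ∈ closure (Dd (DD z ν) z), KR p μ (wG w) k := isGrp_KR.evalW_mem B.codesG w

theorem sgs1 : SGS 12 400 [85, 1942, 5, 6] (fixL (fixL (LS ++ [ex]) 3584) 1792) X1 := by
  have c : CodesIn (MR 12) (LS ++ [ex]) F24T.Xs := CodesIn.append (fun c hc =>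
    let ⟨_, _, h⟩ := isGrp_KR.slpW _ B.codesG c hc; ⟨_, B.toSt.μ_mem _, h.2.2.1⟩) fun c hc => by
    obtain ⟨g, hg, h⟩ := isGrp_IR.evalW_mem F24T.codesX [6, 9, 10]
    rw [show evalW mulM invM one12 F24T.LX [6, 9, 10] = ex by decide +kernel] at h
    exact ⟨g, hg, List.mem_singleton.1 hc ▸ h.1⟩
  exact SGS.stab (b := 1792) ⟨by decide +kernel, c.filter_fix isAct_MR VP.func (show VP 12 3584 (XV.mk' 12 3584) from rfl),
    (card_stab_x B.toSt.card_Xs).trans_le ck_chain.1⟩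

theorem lift {a : MulAut (XV 12)} (ha : a ∈ X1) : ∃ k ∈ closure (Dd (DD z ν) z), ∃ c, KR p μ c k ∧ IR c a := by
  replace ha := B.sgs1.le ha
  induction ha using closure_induction with
  | mem a h =>
    obtain ⟨c, hc, h⟩ := h
    obtain ⟨k, h1, h2⟩ := isGrp_KR.slpW _ B.codesG c (ck_chain.2.2 c hc)
    exact ⟨k, h1, c, h2, h2.2.2.1.func h ▸ h2.2.2⟩
  | one => exact ⟨1, one_mem _, _, isGrp_KR.one, isGrp_IR.one⟩
  | mul a b _ _ h h' =>
    obtain ⟨k, h1, c, h2, h3⟩ := h; obtain ⟨k', h1', c', h2', h3'⟩ := h'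
    exact ⟨_, mul_mem h1 h1', _, isGrp_KR.mul h2 h2', isGrp_IR.mul h3 h3'⟩
  | inv a _ h =>
    obtain ⟨k, h1, c, h2, h3⟩ := h
    exact ⟨_, inv_mem h1, _, isGrp_KR.inv h2, isGrp_IR.inv h3⟩

theorem μX1 (g : centralizer ({z} : Set G)) (h : g.1 ∈ YY ν) : μ g ∈ X1 := by
  obtain ⟨h1, h2⟩ := mem_YY.1 h
  refine ⟨⟨B.toSt.μ_mem g, XV.ext ?_⟩, XV.ext ?_⟩
  · exact B.toBt.μ_val g _ (y := 3584) (by norm_num) (mul_inv_eq_iff_eq_mul.2 (B.e1 ▸ h1).eq)
  · exact B.toBt.μ_val g _ (y := 1792) (by norm_num) (mul_inv_eq_iff_eq_mul.2 (B.e2 ▸ h2).eq)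

theorem θQ {i : ℕ} (hi : i < 10) : θ (col MQ i) ∈ closure (Dd (DD z ν) z) := by
  obtain ⟨w, u, hu, e⟩ := (by decide +kernel : ∀ i < 10, ∃ w ∈ [[], [8], [10]], ∃ u < 128,
    kact (wG w) (F24T.ut u) = col MQ i) i hi |>.imp fun _ h => h.2
  obtain ⟨k, hk, r⟩ := B.exW w
  rw [← e, ← B.toSt.KR_act r (F24T.ut_lt _)]
  exact mul_mem (mul_mem hk (B.V_cl ⟨_, B.toBt.νU hu⟩)) (inv_mem hk)

theorem cen {g : G} (h : g ∈ YY ν) (c : Commute g z) : g ∈ closure (Dd (DD z ν) z) := by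
  have F := B.toFr
  obtain ⟨k, hk, c', r, e⟩ := B.lift (B.μX1 ⟨g, mem_centralizer_singleton_iff.2 c⟩ h)
  obtain ⟨a, ha, rfl⟩ := B.HR_eq ⟨_, e⟩ (KR_HR r)
  obtain ⟨j, hj, e⟩ := B.exQ ha ((mul_mem_cancel_right (show k ∈ YY ν from (B.cl_le hk).1)).1 h)
  have hz := B.V_cl B.zV
  have : θ (app MQ j) ∈ closure (Dd (DD z ν) z) :=
    xind (n := 10) (P := fun j => θ (app MQ j) ∈ Subgroup.closure (Dd (DD z ν) z)) (by rw [app_zero, F.θ0]; exact one_mem _)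
      (fun i hi => by rw [app_pow _ (by omega)]; exact B.θQ hi) (fun a _ b _ h1 h2 => by
        have := mul_mem h1 h2
        rwa [F.mul' (app_lt' _ _) (app_lt' _ _), mul_mem_cancel_right (Subgroup.pow_mem _ hz _), ← app_xor] at this) j hj
  refine mul_mem ?_ hk
  rcases e with rfl | rfl
  exacts [this, F.θz (app_lt' _ _) ▸ mul_mem this hz]

theorem zen {g : G} (h : ∀ y ∈ Dd (DD z ν) z, Commute g y) : g ∈ EE ν ∨ g * z ∈ EE ν := by
  have c : closure (Dd (DD z ν) z) ≤ centralizer {g} :=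
    (closure_le _).2 fun y hy => mem_centralizer_singleton_iff.2 (h y hy).symm
  obtain ⟨w, rfl⟩ := B.toBt.cent_V (g := g) fun v => (mem_centralizer_singleton_iff.1 (c (B.V_cl ⟨v, rfl⟩))).symm
  obtain ⟨v, hv, rfl⟩ : ∃ v < 2048, w = XV.mk' 11 v := ⟨w.val, w.lt, (XV.mk'_self w).symm⟩
  have k := ck_zen
  rw [forceL_eq] at k
  replace k := allLt_iff.1 (allLt_iff.1 k (v / 64) (by omega)) (v % 64) (by omega)
  rw [force_eq, show Nat.add (Nat.mul 64 (v / 64)) (v % 64) = v from Nat.div_add_mod v 64, bor_eq, Bool.or_eq_true,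
    memL_iff, anyL_iff] at k
  rcases k with k | ⟨_, k, n⟩
  · rcases (by decide : ∀ v ∈ [0, 2, 59, 57, 64, 66, 123, 121], v ∈ [0, 2, 59, 57] ∨ v ^^^ 64 ∈ [0, 2, 59, 57]) v k with k | k
    exacts [.inl ⟨v, k, rfl⟩, .inr ⟨_, k, by rw [← nu_xor hv (by norm_num), B.nz]⟩]
  · rw [mapL_eq, List.mem_map] at k
    obtain ⟨i, hi, rfl⟩ := k
    rw [Bool.not_eq_true', nbeq_false] at n
    exact absurd ((B.toBt.VR_E (col_lt _ _)).val B.injν hv hv (mul_inv_eq_iff_eq_mul.2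
      (mem_centralizer_singleton_iff.1 (c (B.θQ (List.mem_range.1 hi)))))) n

theorem trans {y : G} (hy : y ∈ Dd (DD z ν) z) : ∃ g ∈ YY ν, Commute g z ∧ g * nu ν 192 * g⁻¹ = y := by
  have yH : y ∈ centralizer {z} := mem_centralizer_singleton_iff.2 hy.2.2.symm
  have l : Lists IR (fixL (fixL F24T.LT 3584) 1792)
      (F24T.Ts ⊓ stabilizer _ (XV.mk' 12 3584) ⊓ stabilizer _ (XV.mk' 12 1792)) :=
    ((F24T.listsT.filter inf_le_left fun c g hg h => nbeq.2 (by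
      have := h.1.2 (XV.mk' 12 3584); rw [show g _ = _ from hg.2] at this; exact this.symm))).filter inf_le_left
      fun c g hg h => nbeq.2 (by
        have := h.1.2 (XV.mk' 12 1792); rw [show g _ = _ from hg.2] at this; exact this.symm)
  have s : μ ⟨y, yH⟩ * μ ⟨y, yH⟩ = 1 := by rw [← map_mul, ← map_one μ]; exact congrArg μ (Subtype.ext (B.DD_sq hy.1))
  obtain ⟨t, ht, h⟩ := exists_conj_le_sylow Nat.prime_two (k := 6) (inf_le_inf_right _ (inf_le_inf_right _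
    (F24T.Ts_le.trans F24T.Bs_le))) (zpowers_le.2 (B.μX1 ⟨y, yH⟩ (B.DD_Y hy.1))) ((card_of_lists l
      ((F24T.codesT.filter_fix isAct_IR VP.func (show VP 12 3584 (XV.mk' 12 3584) from rfl)).filter_fix isAct_IR VP.func
        (show VP 12 1792 (XV.mk' 12 1792) from rfl)) ck_syl.2.1).trans ck_syl.1) (B.sgs1.card_eq.trans ck_chain.2.1) (by norm_num)
    (IsPGroup.of_card_dvd_pow (n := 1) (by
      rw [Nat.card_zpowers]; exact orderOf_dvd_of_pow_eq_one (by rw [pow_one, sq, s])))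
  obtain ⟨c, hc, h1⟩ := l _ (h _ (mem_zpowers _))
  obtain ⟨w, -, h2⟩ := ck_syl.2.2 c hc (isCanon_IR.canon (isGrp_IR.mul h1 h1) (by
    rw [conj_mul, s, mul_one, mul_inv_cancel]; exact isGrp_IR.one))
  obtain ⟨k, hk, c', r, e⟩ := B.lift ht
  obtain ⟨k', hk', r'⟩ := B.exW w
  obtain ⟨c0, h0⟩ := B.toSt.exists_IR ⟨y, yH⟩
  obtain rfl := isCanon_IR.canon (isGrp_IR.conj e h0) h1
  obtain ⟨v, hv, e⟩ := B.inV (Dd_conj (B.cl_le hk').1 r'.cz (Dd_conj (B.cl_le hk).1 r.cz hy)) h2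
    (isGrp_HR.conj (KR_HR r') (isGrp_HR.conj (KR_HR r) ⟨yH, h0⟩))
  obtain ⟨g, hg, c, e'⟩ := B.L20_tr hv
  exact ⟨k⁻¹ * k'⁻¹ * g, mul_mem (mul_mem (inv_mem (B.cl_le hk).1) (inv_mem (B.cl_le hk').1)) hg,
    (r.cz.inv_left.mul_left r'.cz.inv_left).mul_left c, by
      rw [show y = k⁻¹ * k'⁻¹ * nu ν v * (k⁻¹ * k'⁻¹)⁻¹ by rw [e]; group, ← e']; group⟩

theorem ex45 {y : G} (hy : y ∈ Dd (DD z ν) z) : ∃ i < 45, HR μ (nthL 0 L45 i) y := by
  obtain ⟨g, hg, c, rfl⟩ := B.trans hy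
  have : X1 ≤ cstab {a | ∃ c ∈ L45, IR c a} := B.sgs1.le.trans ((closure_le _).2 fun a ⟨c, hc, h⟩ => by
    obtain ⟨k, -, h2⟩ := isGrp_KR.slpW _ B.codesG c (ck_chain.2.2 c hc)
    exact mem_cstab_of_finite fun b ⟨d, hd, h'⟩ =>
      ⟨_, ck_clo c (ck_chain.2.2 c hc) d hd, isGrp_IR.conj (h2.2.2.1.func h ▸ h2.2.2) h'⟩)
  obtain ⟨h1, h2⟩ := B.HR_nu (v := 192) (by norm_num)
  have gH := mem_centralizer_singleton_iff.2 c.eq
  obtain ⟨d, hd, h⟩ := (mem_cstab.1 (this (B.μX1 ⟨g, gH⟩ hg)) _).2 ⟨_, by decide +kernel, h2⟩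
  obtain ⟨i, hi, rfl⟩ := exists_nthL hd
  exact ⟨i, hi, mul_mem (mul_mem gH h1) (inv_mem gH), by rwa [← map_inv, ← map_mul, ← map_mul] at h⟩

theorem zz' : ¬ IsConj z (nu ν 192 * z) := by
  rw [← B.nz, nu_xor (by norm_num) (by norm_num), B.nz]; exact B.nconj (by decide +kernel)

theorem dich0 {y : G} (hy : y ∈ Dd (DD z ν) z) : Commute (nu ν 192) y ∨ Br (nu ν 192) y ∧
    ∀ a b, HR μ a (nu ν 192) → HR μ b y → commC mulM a b = false := by
  obtain ⟨i, hi, h⟩ := B.ex45 hy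
  obtain ⟨u, hu, r⟩ := B.exW (nthL [] WU45 i)
  have r0 : KR p μ (F24T.rcode 1) (nu ν 192) := B.KR_nu (m := 1) (by norm_num) one_lt_two
  have m0 := B.L20_mem (v := 192) (by decide)
  have cu : u * nu ν 192 * u⁻¹ = nu ν 192 := (B.toSt.KR_eq ((ck_u i hi).1 ▸ isGrp_KR.conj r r0) r0).resolve_right
    fun e => B.zz' (e ▸ (B.pat (DD_conj (B.cl_le hu).1 m0.1)).1)
  have m := Dd_conj (B.cl_le hu).1 r.cz hy
  have h' := isGrp_HR.conj (KR_HR r) h
  rcases (ck_u i hi).2 with e | e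
  · obtain ⟨v, -, e⟩ := B.inV m e h'
    exact .inl ((commute_conj_iff u).1 (by rw [cu, ← e]; exact nu_comm ..))
  rw [e] at h'
  obtain ⟨k, hk, rk⟩ := B.exk0
  have r1 := isGrp_KR.conj rk r0
  rw [show conjC mulM invM k0 (F24T.rcode 1) = ct1 by decide +kernel] at r1
  have m1 := Dd_conj hk rk.cz m0
  refine .inr ⟨?_, fun a b ha hb => ?_⟩
  · have b0 : Br (nu ν 192) (k * nu ν 192 * k⁻¹) := by
      have h1 := isGrp_KR.mul (isGrp_KR.mul r1 r0) r1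
      rw [show mulM (mulM ct1 (F24T.rcode 1)) ct1 = mulM (mulM (F24T.rcode 1) ct1) (F24T.rcode 1) by decide +kernel] at h1
      refine (B.toSt.KR_eq (isGrp_KR.mul (isGrp_KR.mul r0 r1) r0) h1).resolve_right fun e => B.zz' ?_
      generalize k * nu ν 192 * k⁻¹ = t at *
      have h2 := (B.pat (DD_conj (B.DD_Y m0.1) m1.1)).1
      rw [inv_eq_of_sq (nu_sq _), e] at h2
      refine h2.trans (isConj_iff.2 ⟨t, ?_⟩)
      rw [inv_eq_of_sq (B.DD_sq m1.1), mul_assoc, mul_assoc _ z, m1.2.2.eq]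
      simp only [← mul_assoc, B.DD_sq m1.1, one_mul]
      rw [mul_assoc _ t t, B.DD_sq m1.1, mul_one]
    have h3 := isGrp_HR.conj (isGrp_HR.inv (KR_HR rk)) h'
    rw [show conjC mulM invM (invM k0) ct1 = F24T.rcode 1 by decide +kernel] at h3
    obtain ⟨v, hv, e⟩ := B.inV (Dd_conj (inv_mem hk) rk.cz.inv_left m) (by decide +kernel) h3
    have l := (by decide : ∀ v ∈ L20, v < 2048) v hv
    obtain ⟨c, hc, e1, e2⟩ := (by decide +kernel : ∀ v ∈ L20, F24T.rcode (v / 128) = F24T.rcode 1 → ∃ c ∈ [51, 17, 34, 0],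
      app (F24T.actE c) 192 = v ∧ app (F24T.actE (kact k0 c % 4096)) 192 = 192) v hv ((B.HR_nu l).canon (e ▸ h3))
    have lc : c < 4096 := by simp at hc; omega
    have h4 := (B.toBt.VR_E lc).act (v := 192) (by norm_num)
    have h5 := (B.toBt.VR_E' (kact_lt k0 c)).act (v := 192) (by norm_num)
    rw [e2, ← B.toSt.KR_act rk (by omega)] at h5
    rw [e1] at h4
    have h6 := (b0.conj (k * θ c * k⁻¹)).conj u⁻¹
    rw [h5, show u⁻¹ * ν (XV.mk' 11 192) * u⁻¹⁻¹ = nu ν 192 by nth_rw 1 [← show _ = ν _ from cu]; group] at h6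
    convert h6 using 1
    rw [show y = u⁻¹ * (k * nu ν v * k⁻¹) * u by rw [e]; group, nu, ← h4]; group
  · obtain rfl := ha.canon (KR_HR r0)
    by_contra n
    have := (commC_iff isGrp_IR isCanon_IR ha.2 hb.2).2 (by simpa using n)
    have h1 := isGrp_HR.conj (KR_HR r) ha
    have h2 := isGrp_HR.conj (KR_HR r) hb
    rw [(ck_u i hi).1] at h1
    rw [h2.canon h'] at h2
    refine absurd ((commC_iff isGrp_IR isCanon_IR h1.2 h2.2).1 ?_) (by decide +kernel)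
    have k : ∀ {a} (ha : a ∈ centralizer {z}) (h'), μ ⟨u * a * u⁻¹, h'⟩ = μ ⟨u, r.1⟩ * μ ⟨a, ha⟩ * (μ ⟨u, r.1⟩)⁻¹ :=
      fun ha _ => by rw [← map_inv, ← map_mul, ← map_mul]; rfl
    rw [k ha.1, k hb.1, conj_mul, conj_mul, this]

theorem dich {y y' : G} (hy : y ∈ Dd (DD z ν) z) (hy' : y' ∈ Dd (DD z ν) z) : Commute y y' ∨ Br y y' ∧
    ∀ a b, HR μ a y → HR μ b y' → commC mulM a b = false := by
  obtain ⟨g, hg, c, rfl⟩ := B.trans hy
  obtain ⟨y', rfl⟩ : ∃ y, y' = g * y * g⁻¹ := ⟨g⁻¹ * y' * g, by group⟩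
  refine (B.dich0 (y := y') (by simpa [mul_assoc] using Dd_conj (inv_mem hg) c.inv_left hy')).imp
    (commute_conj_iff g).2 fun h => ⟨h.1.conj g, fun a b ha hb => ?_⟩
  obtain ⟨e, he⟩ := B.exHR c.inv_left
  have h1 := isGrp_HR.conj he ha
  have h2 := isGrp_HR.conj he hb
  have := h.2 _ _ (by simpa [mul_assoc] using h1) (by simpa [mul_assoc] using h2)
  by_contra n
  rw [← Bool.not_eq_true, ← commC_iff isGrp_IR isCanon_IR (isGrp_IR.conj he.2 ha.2) (isGrp_IR.conj he.2 hb.2),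
    conj_mul, conj_mul, (commC_iff isGrp_IR isCanon_IR ha.2 hb.2).2 (by simpa using n)] at this
  exact this rfl

theorem wt : WT (Dd (DD z ν) z) :=
  ⟨fun _ h => B.DD_sq h.1, fun _ h _ h' => (B.dich h h').imp_right And.left, fun y h _ h' => by
    have := Dd_conj (B.DD_Y h.1) h.2.2.symm h'; rwa [inv_eq_of_sq (B.DD_sq h.1)] at this⟩

theorem tr1 : Tr1 (Dd (DD z ν) z) := fun a ha b hb => by
  obtain ⟨g, hg, c, rfl⟩ := B.trans ha
  obtain ⟨k, hk, c', rfl⟩ := B.trans hb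
  exact ⟨k * g⁻¹, B.cen (mul_mem hk (inv_mem hg)) (c'.mul_left c.inv_left), by group⟩

theorem lq : LQ (Dd (DD z ν) z) := by
  choose! lam h1 h2 using fun y hy => B.ex45 (y := y) hy
  have cm : ∀ x ∈ Dd (DD z ν) z, ∀ y ∈ Dd (DD z ν) z, ∀ a b, HR μ a x → HR μ b y → (Commute x y ↔ commC mulM a b = true) :=
    fun x hx y hy a b ha hb => ⟨fun c => (commC_iff isGrp_IR isCanon_IR ha.2 hb.2).1 (by
      rw [← map_mul, ← map_mul]; exact congrArg μ (Subtype.ext c)), fun c => (B.dich hx hy).resolve_right fun h => by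
        simp [h.2 a b ha hb] at c⟩
  have m0 := B.L20_mem (v := 192) (by decide)
  refine ⟨⟨lam, h1, fun x hx y hy => by rw [cm x hx y hy _ _ (h2 x hx) (h2 y hy), ck_C _ (h1 x hx) _ (h1 y hy)],
    fun i hi => ?_⟩, fun y hy => ?_⟩
  · obtain ⟨k, hk, r⟩ := B.exW (nthL [] WT45 i)
    have m := Dd_conj (B.cl_le hk).1 r.cz m0
    refine ⟨_, m, (by decide +kernel : ∀ i < 45, ∀ j < 45, nthL 0 L45 i = nthL 0 L45 j → i = j) _ (h1 _ m) _ hi
      ((h2 _ m).canon (ck_tr i hi ▸ isGrp_HR.conj (KR_HR r) (B.HR_nu (v := 192) (by norm_num))))⟩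
  · obtain ⟨g, hg, c, rfl⟩ := B.trans hy
    have k := KMap.conj_self B.wt (B.cen hg c)
    have t : ∀ v ∈ [134, 179, 181, 192], v < 2048 ∧ v ∈ L20 ∧ v / 128 = 192 / 128 := by decide
    refine ⟨[134, 179, 181, 192].map fun v => g * nu ν v * g⁻¹, List.Nodup.map_on (fun a ha b hb e =>
      B.nu_inj (t a ha).1 (t b hb).1 ((conj_inj g).1 e)) (by decide), rfl, ?_⟩
    simp only [List.forall_mem_map]
    refine fun v hv => (k.mem_vs m0 (B.L20_mem (t v hv).2.1)).2 ⟨B.L20_mem (t v hv).2.1, fun e he => ?_⟩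
    rw [cm _ (B.L20_mem (t v hv).2.1) e he _ _ (B.HR_nu (t v hv).1) (h2 e he),
      cm _ m0 e he _ _ (B.HR_nu (by norm_num)) (h2 e he), (t v hv).2.2]

theorem un {c : G} (hc : c ∈ YY ν) (h : Commute c (z * nu ν 192)) : Commute (c * z * c⁻¹) z := by
  have F := B.toFr
  obtain ⟨a, ha, h1⟩ := isGrp11.evalW_mem B.codesM [0, 6, 0, 0, 0, 6, 0, 6, 0, 2]
  obtain ⟨n, hn⟩ := B.toBt.real B.hy ha
  have k : ∀ v w, v < 2048 → app (evalW mulM (invN 11) one11 LM4 [0, 6, 0, 0, 0, 6, 0, 6, 0, 2]) v = w →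
    n * nu ν v * n⁻¹ = nu ν w := fun v w hv e => by rw [hn, h1.mk'_eq hv, e]
  obtain ⟨c1, c2⟩ := mem_YY.1 hc
  rw [← B.nz, nu_xor (by norm_num) (by norm_num)] at h
  have h3 := h.mul_right c2
  rw [nu_xor (by decide) (by norm_num), ← commute_conj_iff n, k _ 64 (by decide) (by decide +kernel), B.nz] at h3
  rw [← commute_conj_iff n, k _ 1337 (by norm_num) (by decide +kernel)] at c1
  rw [← commute_conj_iff n, k _ 2 (by norm_num) (by decide +kernel), B.e1] at c2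
  have e0 : n * z * n⁻¹ = nu ν 123 * nu ν 1337 := by
    rw [← B.nz, nu_xor (by norm_num) (by norm_num)]; exact k _ _ (by norm_num) (by decide +kernel)
  rw [← commute_conj_iff n, show n * (c * z * c⁻¹) * n⁻¹ = n * c * n⁻¹ * (n * z * n⁻¹) * (n * c * n⁻¹)⁻¹ by group, e0]
  generalize n * c * n⁻¹ = d at *
  obtain ⟨b, hb, e⟩ := (B.core _).1 (B.toSt.le.conj_mem h3 (show nu ν 123 ∈ _ by
    rw [nu, B.toBt.νU (a := 123) (by norm_num)]; exact B.toSt.θE (F24T.ut_lt _)))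
  have e' : θ b * θ 3584 = d * nu ν 121 * d⁻¹ := by
    rw [e, mul_assoc, c2.inv_left.eq, ← B.e1, show 121 = 123 ^^^ 2 from rfl, ← nu_xor (by norm_num) (by norm_num)]; group
  have n1 : ∀ v, v < 2048 → v ≠ 0 → mD.testBit v = true → d * nu ν v * d⁻¹ ≠ 1 ∧ ¬ IsConj z (d * nu ν v * d⁻¹) :=
    fun v hv h0 hm => ⟨fun e => h0 (B.nu_inj hv (by norm_num) ((conj_eq_one_iff.1 e).trans nu_zero.symm)),
      fun c => B.nconj hm (c.trans (isConj_iff.2 ⟨d, rfl⟩).symm)⟩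
  have cc : ∀ {g v}, Commute d g → g = nu ν v → Commute (θ b) g := fun {g v} h e' => by
    rw [e, ← mul_inv_eq_iff_eq_mul.2 h.eq, commute_conj_iff, e']; exact nu_comm ..
  obtain ⟨hH, r⟩ := B.HR_nu (v := 1337) (by norm_num)
  have := B.pure hb (by rw [e, conj_mul, nu_sq, mul_one, mul_inv_cancel])
    (e ▸ (n1 123 (by norm_num) (by norm_num) (by decide +kernel)).1)
    (e ▸ (n1 123 (by norm_num) (by norm_num) (by decide +kernel)).2) (cc c2 B.e1.symm)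
    (e' ▸ (n1 121 (by norm_num) (by norm_num) (by decide +kernel)).1)
    (e' ▸ (n1 121 (by norm_num) (by norm_num) (by decide +kernel)).2) (.inr (by
      have l : b % 4096 < 4096 := Nat.mod_lt _ (by norm_num)
      have c3 : Commute (nu ν 1337) (θ (b % 4096)) := by
        rcases B.toSt.θmod hb with e | e
        · exact e ▸ (cc c1 rfl).symm
        · have := (e ▸ (cc c1 rfl).symm).mul_right (comm_V ⟨_, rfl⟩ B.zV)
          rwa [mul_assoc, F.zz, mul_one] at this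
      have := B.toBt.μ_val ⟨_, hH⟩ (XV.mk' 12 (b % 4096)) (y := b % 4096) (by omega) (by
        rw [XV.mk'_val l]; exact mul_inv_eq_iff_eq_mul.2 c3.eq)
      rwa [r.1.2, XV.mk'_val l, Nat.mod_mod] at this))
  rw [← conj_mul, ← e, mul_inv_eq_iff_eq_mul.2 c1.eq]
  exact comm_V (mul_mem (B.θV hb (by rcases this with e | e <;> rw [e] <;> decide +kernel)) ⟨_, rfl⟩)
    (mul_mem ⟨_, rfl⟩ ⟨_, rfl⟩)
end Hy

end Cfsg.Agent.F24U
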