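import Cfsg.Agent.F24U.Flag
import Cfsg.Agent.F24U.C23

/-! The conjugates of the transposition class of a subgroup `Fi23` as points; an element of order three that is
inverted by the transpositions of `O₈⁺(3):S₃` (helper8): `P2.norm`. -/

set_option autoImplicit false

namespace Cfsg.Agent.F24U
open Cfsg.Agent.Fischer Subgroup Cfsg.Agent.Spor F23 Fi23M

variable {G : Type*} [Group G] {T : Set G} {Y : Subgroup G} {a b g r s y : G}

structure P2 (T : Set G) (Y : Subgroup G) : Prop where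
  k : K23 T
  cl : closure T = Y
  i2 : ∀ y ∈ T, ∀ c c', Commute c y → Commute c' y → c ∉ Y → c' ∉ Y → c * c' ∈ Y
  sw : ∀ y ∈ T, ∃ s, Commute s y ∧ ∀ b ∈ Dd T y, ∃ b' ∈ Dd T y, s * b * s⁻¹ = y * b'
  nm : ∀ y ∈ T, ∀ b ∈ Dd T y, y * b ∉ T

/-- The other point through `y`. -/
def Oth (T : Set G) (Y : Subgroup G) (y : G) : Set G := {b | ∃ s, Commute s y ∧ s ∉ Y ∧ b ∈ cj s T}

def Xa (T : Set G) (Y : Subgroup G) (a : G) : Set G := {y | y ∈ T ∧ y * a ∈ Oth T Y y}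

namespace P2
variable (h : P2 T Y)
include h

theorem cjY (hg : g ∈ Y) : cj g T = T := cj_self h.k.wt (h.cl ▸ hg)
theorem cm (hg : g ∈ Y) (hy : y ∈ T) : g * y * g⁻¹ ∈ T := h.k.wt.conj_mem (h.cl ▸ hg) hy
theorem sub (hy : y ∈ T) : y ∈ Y := h.cl ▸ subset_closure hy

theorem ex (hy : y ∈ T) : ∃ s, Commute s y ∧ s ∉ Y ∧ ∀ b ∈ Dd T y, ∃ b' ∈ Dd T y, s * b * s⁻¹ = y * b' := by
  obtain ⟨s, h1, h2⟩ := h.sw y hy
  obtain ⟨b, hb, -⟩ := exists_nc (h.k.loc y hy).noCL.noC (h.k.loc y hy).wEq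
  obtain ⟨b', m, e⟩ := h2 b hb
  exact ⟨s, h1, fun k => h.nm y hy b' m (e ▸ h.cm k hb.1), h2⟩

theorem sw' (hy : y ∈ T) (c : Commute s y) (hs : s ∉ Y) (hb : b ∈ Dd T y) : ∃ b' ∈ Dd T y, s * b * s⁻¹ = y * b' := by
  obtain ⟨s0, h1, h2, h3⟩ := h.ex hy
  have m := h.i2 y hy _ _ h1.inv_left c (mt inv_mem_iff.1 h2) hs
  have := (kmap_cj (h.k.wt.dd y) (s0⁻¹ * s)).mem hb
  rw [cj_dd, h.cjY m, conj_eq_of_commute (h1.inv_left.mul_left c)] at this
  simpa [mul_assoc] using h3 _ this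

theorem oth_eq (hy : y ∈ T) (c : Commute s y) (hs : s ∉ Y) : Oth T Y y = cj s T := by
  refine Set.ext fun b => ⟨fun ⟨s', h1, h2, h3⟩ => ?_, fun m => ⟨s, c, hs, m⟩⟩
  rwa [← mul_inv_cancel_left s s', cj_mul, h.cjY (h.i2 y hy _ _ c.inv_left h1 (mt inv_mem_iff.1 hs) h2)] at h3

theorem ok (hy : y ∈ T) : K23 (Oth T Y y) ∧ y ∈ Oth T Y y := by
  obtain ⟨s, h1, h2, -⟩ := h.ex hy
  rw [h.oth_eq hy h1 h2]
  exact ⟨h.k.map (kmap_cj h.k.wt s), conj_eq_of_commute h1 ▸ mem_cj.2 hy⟩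

theorem dd_oth (hy : y ∈ T) : (· * y) '' Dd T y = Dd (Oth T Y y) y := by
  obtain ⟨s, h1, h2, h3⟩ := h.ex hy
  rw [h.oth_eq hy h1 h2]
  nth_rw 3 [← conj_eq_of_commute h1]
  rw [← cj_dd]
  ext b
  constructor
  · rintro ⟨r, hr, rfl⟩
    obtain ⟨r', m, e⟩ := h.sw' hy h1.inv_left (mt inv_mem_iff.1 h2) hr
    change s⁻¹ * (r * y) * s ∈ Dd T y
    rwa [mul_assoc, mul_assoc, ← h1.eq, ← mul_assoc, ← mul_assoc, show s⁻¹ * r * s = _ by simpa using e, m.2.2.eq, mul_assoc,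
      h.k.wt.sq y hy, mul_one]
  · intro m
    obtain ⟨r', m', e⟩ := h3 _ m
    exact ⟨r', m', by simpa [mul_assoc, m'.2.2.eq] using e.symm⟩

theorem mo (hy : y ∈ T) (hr : r ∈ Dd T y) : r * y ∈ Dd (Oth T Y y) y := h.dd_oth hy ▸ ⟨r, hr, rfl⟩

theorem pt (hr : r ∈ T) (m : r ∈ cj g T) : cj g T = T ∨ cj g T = Oth T Y r := by
  obtain ⟨k, hk, e⟩ := h.k.trA.tr1 r hr _ m
  rw [show cj g T = cj (g * k) T by rw [cj_mul, h.cjY (g := k) (h.cl ▸ hk)]]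
  by_cases m : g * k ∈ Y
  · exact .inl (h.cjY m)
  · exact .inr (h.oth_eq hr (mul_inv_eq_iff_eq_mul.1 (by
      rw [show g * k * r * (g * k)⁻¹ = g * (k * r * k⁻¹) * g⁻¹ by group, e]; group)) m).symm

theorem o2 (hy : y ∈ T) (hr : r ∈ Dd T y) (hb : b ∈ Dd (Oth T Y y) (r * y)) : b * (r * y) ∈ Oth T Y r := by
  obtain ⟨s, h1, h2, -⟩ := h.ex hy
  have m := h.mo hy hr
  have m' := Dd_symm (h.ok hy).2 m
  rw [h.oth_eq hy h1 h2] at m m' hb
  obtain ⟨r0, e⟩ : ∃ r0, r * y = s * r0 * s⁻¹ := ⟨s⁻¹ * (r * y) * s, by group⟩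
  rw [e] at m
  rw [e, ← cj_dd] at m' hb
  have m0 := mem_cj.1 m.1
  obtain ⟨s', k1, k2, -⟩ := h.ex m0
  have k : ∀ b ∈ cj s (Dd T r0), b * (r * y) ∈ cj (s * s') T := fun b hb => by
    have := (mem_cj (g := s)).2 (h.mo m0 hb).1
    rw [h.oth_eq m0 k1 k2, ← cj_mul] at this
    simpa [e, mul_assoc] using this
  have k3 := k y m'
  rw [← hr.2.2.eq, ← mul_assoc, h.k.wt.sq y hy, one_mul] at k3
  rcases h.pt hr.1 k3 with E | E
  · refine absurd ?_ (h.nm y hy r hr)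
    rw [hr.2.2.eq, e, ← E, cj_mul, ← h.oth_eq m0 k1 k2]; exact mem_cj.2 (h.ok m0).2
  · exact E ▸ k b hb

theorem oth_cj (hg : g ∈ Y) (hb : b ∈ Oth T Y y) : g * b * g⁻¹ ∈ Oth T Y (g * y * g⁻¹) := by
  obtain ⟨s, h1, h2, h3⟩ := hb
  refine ⟨g * s * g⁻¹, (commute_conj_iff g).2 h1, fun m => h2 (by
    simpa [mul_assoc] using mul_mem (mul_mem (inv_mem hg) m) hg), ?_⟩
  rw [cj_mul, h.cjY (inv_mem hg), cj_mul]; exact mem_cj.2 h3

theorem xinv (hy : y ∈ Xa T Y a) : y * a * y = a⁻¹ :=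
  eq_inv_of_mul_eq_one_left (by rw [mul_assoc, (h.ok hy.1).1.wt.sq _ hy.2])

theorem xinv' (hy : y ∈ Xa T Y a) : a * y = y * a⁻¹ := by
  rw [← h.xinv hy, ← mul_assoc, ← mul_assoc, h.k.wt.sq y hy.1, one_mul]

theorem xinv'' (hy : y ∈ Xa T Y a) : a⁻¹ * y = y * a := by
  rw [← h.xinv hy, mul_assoc, h.k.wt.sq y hy.1, mul_one]

variable (a2 : a * a ≠ 1)
include a2

theorem xnc (hy : y ∈ Xa T Y a) : ¬ Commute y (y * a) := fun c => a2 (by
  have := c.eq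
  rw [← mul_assoc, h.k.wt.sq y hy.1, one_mul, h.xinv hy] at this
  nth_rw 2 [this]; exact mul_inv_cancel a)

theorem xloc (hy : y ∈ Xa T Y a) (hr : r ∈ Dd T y) : r ∈ Xa T Y a ↔ Commute (r * y) (y * a) := by
  have s := h.k.wt.sq y hy.1
  have e : r * y * (y * a) = r * a := by rw [mul_assoc, ← mul_assoc y, s, one_mul]
  refine ⟨fun m => ?_, fun c => ⟨hr.1, ?_⟩⟩
  · change _ = _
    rw [e, mul_assoc, ← mul_assoc a, h.xinv' m, mul_assoc, h.xinv'' hy, ← mul_assoc, hr.2.2.eq, e]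
  · have := h.o2 hy.1 hr ⟨hy.2, fun e => a2 (by
      rw [← hr.2.2.eq, mul_right_inj] at e; rw [e, h.k.wt.sq r hr.1]), c⟩
    rwa [← c.eq, e] at this

theorem h3 : H3 T (Xa T Y a) := by
  refine ⟨fun y m => m.1, fun x hx y hy => ⟨h.k.wt.conj x hx.1 y hy.1, ?_⟩, fun y hy => ?_⟩
  · have := h.oth_cj (h.sub hx.1) ((h.ok hy.1).1.wt.conj _ (h.ok hy.1).2 _ hy.2)
    rwa [h.k.wt.inv hx.1, ← mul_assoc y, h.k.wt.sq y hy.1, one_mul, h.xinv' hy, show x * (y * a⁻¹) * x = x * y * (a⁻¹ * x) by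
      simp only [mul_assoc], h.xinv'' hx, ← mul_assoc] at this
  have k := (h.k.wt.dd y).twist (h.k.wt.sq y hy.1) fun r hr => hr.2.2
  rw [h.dd_oth hy.1] at k
  obtain ⟨_, u⟩ := (h.ok hy.1).1
  convert k.h2 (h2_of_lr u.wt (u.lr2 lr2) (h.ok hy.1).2 hy.2 (h.xnc a2 hy))
  exact Set.ext fun r => ⟨fun m => have m' : r ∈ Dd T y := ⟨m.1.1, m.2⟩; ⟨m', k.mem m', (h.xloc a2 hy m').1 m.1⟩,
    fun m => ⟨(h.xloc a2 hy m.1).2 m.2.2, m.1.2⟩⟩

omit a2 in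
theorem cx {τ : Cfsg.Spor.Fi23 →* G} (inj : Function.Injective τ) (hT : τ '' D23 = T) (a3 : a * a * a = 1) (a1 : a ≠ 1)
    (e : ∀ i < 10, i ≠ 0 → τ (gz i) ∈ Xa T Y a) : τ (cw gz xw (gz 0)) * a * τ (cw gz xw (gz 0)) = a⁻¹ := by
  have ai : a⁻¹ = a * a := inv_eq_of_mul_eq_one_left a3
  have a2 : a * a ≠ 1 := fun e => a1 (by rwa [e, one_mul] at a3)
  have kτ : KMap τ D23 T := hT ▸ KMap.of_hom wt τ inj.injOn
  have hY : ∀ g ∈ Y, ∃ g', τ g' = g := fun g hg =>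
    (closure_le τ.range).2 (by rw [← hT]; rintro _ ⟨y, -, rfl⟩; exact ⟨y, rfl⟩) (h.cl ▸ hg)
  have k1 : ∀ w : List ℕ, (∀ i ∈ w, i < 10 ∧ i ≠ 0) → (Even w.length → Commute a (τ (Spor.ev gz w))) ∧
      (Odd w.length → a * τ (Spor.ev gz w) = τ (Spor.ev gz w) * a⁻¹) := fun w hw => by
    induction w with
    | nil => simp
    | cons i w ih =>
      have m := e i (hw i (.head _)).1 (hw i (.head _)).2
      have := ih fun j hj => hw j (.tail _ hj)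
      rw [Spor.ev_cons, map_mul, List.length_cons, Nat.even_add_one, Nat.odd_add_one, Nat.not_even_iff_odd, Nat.not_odd_iff_even]
      exact ⟨fun o => by change _ = _; rw [← mul_assoc, this.2 o, mul_assoc, h.xinv'' m, mul_assoc],
        fun o => by rw [← mul_assoc, (this.1 o).eq, mul_assoc, h.xinv' m, mul_assoc]⟩
  have o3 : ∀ y ∈ T, ∀ g, Commute (g * a * g⁻¹) y → g * a * g⁻¹ ∈ Y := fun y hy g c => by_contra fun n => n (by
    have := h.i2 y hy _ _ c c n n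
    rwa [conj_mul, ← ai, ← conj_inv, inv_mem_iff] at this)
  have aY : a ∉ Y := fun m => by
    have m1 := e 1 (by decide) (by decide)
    have m3 := e 3 (by decide) (by decide)
    have c13 : Commute (τ (gz 1)) (τ (gz 3)) := ((comm 1 (by decide) 3 (by decide)).2 rfl).map τ
    have b1 : τ (gz 1) * a ∈ T := by
      have := h.cm m m1.1
      rwa [h.xinv' m1, mul_assoc, ← mul_inv_rev, ← ai, inv_inv] at this
    have c : Commute a (τ (gz 3) * τ (gz 1)) := by simpa using (k1 [1, 3] (by decide)).1 (by decide)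
    have s : τ (gz 3) * τ (gz 1) * (τ (gz 3) * τ (gz 1)) = 1 := by
      rw [c13.mul_mul_mul_comm, h.k.wt.sq _ m1.1, h.k.wt.sq _ m3.1, one_mul]
    rcases h.k.wt.br _ m3.1 _ b1 with k | k
    · rw [commute_iff_sq (h.k.wt.sq _ m3.1) (h.k.wt.sq _ b1), ← mul_assoc, c.symm.mul_pow, pow_two, s, one_mul, pow_two] at k
      exact a2 k
    · rw [br_iff_cube (h.k.wt.sq _ m3.1) (h.k.wt.sq _ b1), ← mul_assoc, c.symm.mul_pow, pow_succ, pow_two, s, one_mul,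
        pow_succ, pow_two, a3, mul_one, mul_eq_one_iff_eq_inv, h.k.wt.inv m1.1] at k
      exact g_inj (by decide) (by decide) (by decide) (inj k)
  obtain ⟨q, hq, eq⟩ := xid
  have mA := kτ.mem xw_mem
  have mB := (kτ.dd xw_mem).mem hq
  have cz : ∀ n ∈ Y, Commute n (τ (cw gz xw (gz 0))) → (∀ c, Commute a c → Commute (τ (cw gz xw (gz 0))) c → Commute n c) →
      n = 1 ∨ n = τ (cw gz xw (gz 0)) := fun n hn c1 c2 => by
    obtain ⟨n, rfl⟩ := hY n hn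
    exact (cenx (inj (by simpa using c1.eq)) fun w h1 h2 h3 => inj (by
      simpa using (c2 _ ((k1 w h1).1 h2) (h3.map τ).symm).eq)).imp (fun e => by rw [e, map_one]) (congrArg τ)
  have c0 := (k1 ww (by decide)).1 (by decide)
  rw [← eq, map_mul] at c0
  generalize τ (cw gz xw (gz 0)) = A at *
  generalize τ q = B at *
  obtain ⟨s, s1, s2, -⟩ := h.ex mA
  have O := h.oth_eq mA s1 s2
  have mBA := h.mo mA mB
  have w := (h.ok mA).1.wt
  have na : cj a (Oth T Y A) = Oth T Y A := by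
    have := o3 _ (show s⁻¹ * (B * A) * s ∈ T from O.le mBA.1) s⁻¹ (by
      simpa using (commute_conj_iff s⁻¹).2 (mB.2.2.eq ▸ c0))
    rw [O, ← cj_mul, show a * s = s * (s⁻¹ * a * s⁻¹⁻¹) by group, cj_mul, h.cjY this]
  have mA' : a * A * a⁻¹ ∈ Oth T Y A := na ▸ mem_cj.2 (h.ok mA).2
  have nA : a * A * a⁻¹ ≠ A := fun e => aY (by simpa using o3 A mA 1 (by rw [one_mul, inv_one, mul_one]; exact mul_inv_eq_iff_eq_mul.1 e))
  have sA := h.k.wt.sq A mA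
  rcases w.br _ (h.ok mA).2 _ mA' with c | c
  · obtain ⟨r, hr, e⟩ := (h.dd_oth mA).ge ⟨mA', nA, c⟩
    have e' : r = a * A * a⁻¹ * A := by rw [← e, mul_assoc, sA, mul_one]
    rcases cz r (h.sub hr.1) hr.2.2.symm fun c c1 c2 => e' ▸ ((c1.mul_left c2).mul_left c1.inv_left).mul_left c2 with k | k
    exacts [absurd (k ▸ hr.1) h.k.noCL.noC.one_not_mem, absurd k hr.2.1]
  have cn : Commute (a⁻¹ * (A * (a * A * a⁻¹))) A := mul_inv_eq_iff_eq_mul.1 (by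
    have : A * (a * A * a⁻¹) * A * (A * (a * A * a⁻¹))⁻¹ = a * A * a⁻¹ := by
      rw [show A * (a * A * a⁻¹) * A = _ from c, mul_inv_rev, w.inv mA', inv_eq_of_sq sA, ← mul_assoc, mul_assoc _ _ (a * A * a⁻¹),
        w.sq _ mA', mul_one, mul_assoc, sA, mul_one]
    rw [show ∀ g, a⁻¹ * g * A * (a⁻¹ * g)⁻¹ = a⁻¹ * (g * A * g⁻¹) * a from fun g => by group, this]; group)
  have nY : a⁻¹ * (A * (a * A * a⁻¹)) ∈ Y := by_contra fun n => by
    have E := h.oth_eq mA cn n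
    have : cj (a⁻¹ * (A * (a * A * a⁻¹))) (Oth T Y A) = Oth T Y A := by
      rw [cj_mul, cj_self w (mul_mem (subset_closure (h.ok mA).2) (subset_closure mA'))]
      nth_rw 1 [← na]; rw [← cj_mul, inv_mul_cancel]; simp [cj]
    have m := this.ge mBA.1
    have m2 := mBA.1
    rw [E] at m2
    nth_rw 1 [E] at m
    rw [← cj_mul, h.cjY (h.i2 A mA _ _ cn cn n n)] at m
    exact h.nm A mA B mB (mB.2.2.eq ▸ m)
  rcases cz _ nY cn fun c c1 c2 => c1.inv_left.mul_left (c2.mul_left ((c1.mul_left c2).mul_left c1.inv_left)) with k | k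
  · rw [inv_mul_eq_one] at k
    rw [ai]; nth_rw 2 [k]; group
  · rw [inv_mul_eq_iff_eq_mul, ← mul_assoc, ← mul_assoc, mul_inv_eq_iff_eq_mul] at k
    have e1 : a * A * a * (a * A)⁻¹ = A := mul_inv_eq_iff_eq_mul.2 (by rw [← k, mul_assoc])
    rw [← e1, conj_mul, conj_eq_one_iff] at sA
    exact absurd sA a2

end P2
end Cfsg.Agent.F24U
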