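import Cfsg.Agent.F24U.Lv2
import Cfsg.Agent.F24U.Fd

/-! The generators of `Fi24'` (helper8): `P2.norm`. -/

set_option autoImplicit false

namespace Cfsg.Agent.F24U
open Cfsg.Agent.Fischer Subgroup Cfsg.Agent.Spor F23 Fi23M

variable {G : Type*} [Group G] {T : Set G} {Y : Subgroup G} {τ : Cfsg.Spor.Fi23 →* G}

theorem L2.p2 {a : Cfsg.Spor.Fi23} (h : L2 τ a) : P2 (τ '' D23) τ.range := by
  have k : KMap τ D23 (τ '' D23) := KMap.of_hom wt τ h.inj.injOn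
  have tr : ∀ y ∈ τ '' D23, ∃ u, y = τ u * τ a * (τ u)⁻¹ := by
    rintro _ ⟨y, hy, rfl⟩
    obtain ⟨u, -, rfl⟩ := fl.tr1 a h.mem y hy
    exact ⟨u, by simp⟩
  have K : K23 (τ '' D23) := ⟨_, k⟩
  have cl : closure (τ '' D23) = τ.range := by rw [← MonoidHom.map_closure, F23.tg.2.2, MonoidHom.range_eq_map]
  refine ⟨K, cl, fun y hy c c' h1 h2 h3 h4 => ?_, fun y hy => ?_, fun y hy b hb m => ?_⟩
  · obtain ⟨u, rfl⟩ := tr y hy
    have m : ∀ c, (τ u)⁻¹ * c * τ u ∈ τ.range ↔ c ∈ τ.range := fun c => by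
      rw [mul_mem_cancel_right (MonoidHom.mem_range.2 ⟨u, rfl⟩), mul_mem_cancel_left (inv_mem (MonoidHom.mem_range.2 ⟨u, rfl⟩))]
    have e : ∀ c, Commute c (τ u * τ a * (τ u)⁻¹) → Commute ((τ u)⁻¹ * c * τ u) (τ a) := fun c hc => by
      simpa [mul_assoc] using (commute_conj_iff (τ u)⁻¹).2 hc
    simpa [← m (c * c'), mul_assoc] using h.i2 _ _ (e c h1) (e c' h2) (mt (m c).1 h3) (mt (m c').1 h4)
  · obtain ⟨u, rfl⟩ := tr y hy
    obtain ⟨s, s1, s2⟩ := h.sw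
    rw [← cj_self k.wt (g := τ u) (cl ▸ ⟨u, rfl⟩), ← cj_dd]
    refine ⟨τ u * s * (τ u)⁻¹, (commute_conj_iff _).2 s1, fun b hb => ?_⟩
    obtain ⟨b0, m, e⟩ := (k.dd h.mem).surj hb
    obtain ⟨b', m', e'⟩ := s2 b0 m
    refine ⟨_, mem_cj.2 ((k.dd h.mem).mem m'), ?_⟩
    rw [conj_mul, ← e', e]; group
  · exact tw_not_mem (k.wt.dd y) (K.loc y hy).noCL.noC (k.wt.sq y hy) (fun e => K.noCL.noC.one_not_mem (e ▸ hy))
      (fun r hr => hr.2.2) hb ⟨m, fun e => K.noCL.noC.one_not_mem ((mul_eq_left.1 e) ▸ hb.1),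
        (Commute.refl y).mul_right hb.2.2⟩

/-- The element of order three. -/
structure N3 (τ : Cfsg.Spor.Fi23 →* G) (a : G) : Prop where
  a3 : a * a * a = 1
  a1 : a ≠ 1
  inv : ∀ i < 10, i ≠ 0 → τ (gz i) * a * τ (gz i) = a⁻¹
  br : a * τ (gz 0) * a = τ (gz 0) * a⁻¹ * τ (gz 0)
  cx : τ (cw gz xw (gz 0)) * a * τ (cw gz xw (gz 0)) = a⁻¹

theorem P2.norm (h : P2 T Y) (inj : Function.Injective τ) (hT : τ '' D23 = T) :
    ∃ k a, N3 (τ.comp (MulAut.conj k).toMonoidHom) a := by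
  have kτ : KMap τ D23 T := hT ▸ KMap.of_hom wt τ inj.injOn
  have hx := kτ.mem z_mem
  obtain ⟨K, m0⟩ := h.ok hx
  obtain ⟨x1, m1, n⟩ := K.noCL.noC _ m0
  obtain ⟨a, rfl⟩ : ∃ a, x1 = τ z * a := ⟨(τ z)⁻¹ * x1, by group⟩
  have a3 : a * a * a = 1 := by
    have := (br_iff_cube (K.wt.sq _ m0) (K.wt.sq _ m1)).1 ((K.wt.br _ m0 _ m1).resolve_left fun c => n c.symm)
    rwa [← mul_assoc, K.wt.sq _ m0, one_mul, pow_three'] at this
  have a1 : a ≠ 1 := fun e => n (by rw [e, mul_one])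
  have a2 : a * a ≠ 1 := fun e => a1 (by rwa [e, one_mul] at a3)
  have x0 : τ z ∈ Xa T Y a := ⟨hx, m1⟩
  obtain ⟨_ | ⟨b, _ | ⟨c, l⟩⟩, hl, e⟩ := (K.xs _ m0 _ m1 fun c => n c.symm).wEq.2
  · simp at e
  · simp at e
  obtain ⟨hb, hl⟩ := cl_cons.1 hl
  have hc := (cl_cons.1 hl).1
  obtain ⟨r, hr, rfl⟩ := (h.dd_oth hx).ge hb.1
  obtain ⟨r', hr', rfl⟩ := (h.dd_oth hx).ge hc.1.1
  have xr := (h.xloc a2 x0 hr).2 hb.2
  have xr' := (h.xloc a2 x0 hr').2 hc.1.2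
  have cr : r' ∈ Dd T r := ⟨hr'.1, fun e => hc.2.1 (by rw [e]), by
    have s := h.k.wt.sq _ hx
    have : Commute (r * τ z * τ z) (r' * τ z * τ z) :=
      (hc.2.2.mul_left (hr'.2.2.mul_right (.refl _))).mul_right ((hr.2.2.symm.mul_left (.refl _)).mul_left (.refl _))
    rwa [mul_assoc, mul_assoc, s, mul_one, mul_one] at this⟩
  obtain ⟨y, hy, rfl⟩ := kτ.surj hr.1
  obtain ⟨t, ht, rfl⟩ := kτ.surj hr'.1
  obtain ⟨k, e⟩ := ho23 (kτ.h3 (h.h3 a2)) (x := z) (y := y) ⟨z_mem, x0⟩ ⟨⟨hy, xr⟩, ((kτ.mem_dd z_mem hy).1 hr).2⟩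
    ⟨t, ⟨⟨ht, xr'⟩, ((kτ.mem_dd z_mem ht).1 hr').2⟩, ((kτ.mem_dd hy ht).1 cr).2⟩
  refine ⟨k, a, ?_⟩
  set τ' := τ.comp (MulAut.conj k).toMonoidHom
  have inj' : Function.Injective τ' := inj.comp (MulAut.conj k).injective
  have k' : KMap τ' D23 T := kτ.comp (KMap.conj_self wt (g := k) (F23.tg.2.2 ▸ mem_top k))
  have e' : ∀ x < 10, τ' (gz x) ∈ Xa T Y a ↔ x ≠ 0 := fun x hx =>
    (and_iff_right (TG.conj F23.tg k (g_mem (x := x) (by omega)))).symm.trans (e x hx)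
  refine ⟨a3, a1, fun i hi h0 => h.xinv ((e' i hi).2 h0), ?_, h.cx inj' k'.bij.image_eq a3 a1 fun i hi => (e' i hi).2⟩
  have m2 := (e' 2 (by decide)).2 (by decide)
  have d := (k'.dd (g_mem (by decide))).mem (mem_dd (x := 0) (y := 2) (by decide) (by decide) (by decide) rfl)
  have n0 := mt (h.xloc a2 m2 d).2 (mt (e' 0 (by decide)).1 (by simp))
  have := ((h.ok m2.1).1.wt.br _ (h.mo m2.1 d).1 _ m2.2).resolve_left n0
  have s := h.k.wt.sq _ m2.1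
  have c := d.2.2
  have i1 := h.xinv' m2
  generalize τ' (gz 2) = v at *
  generalize τ' (gz 0) = u at *
  have e1 : u * v * (v * a) = u * a := by rw [mul_assoc, ← mul_assoc v, s, one_mul]
  rw [Br, e1, mul_assoc (v * a), e1] at this
  have e2 : u * a * (u * v) = v * (u * a⁻¹ * u) := by
    rw [← c.eq, mul_assoc, ← mul_assoc a, i1, ← mul_assoc, ← mul_assoc, ← c.eq]; simp only [mul_assoc]
  rw [e2, mul_assoc v, mul_right_inj] at this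
  rw [this, mul_assoc]

end Cfsg.Agent.F24U
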