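import Cfsg.Agent.F24U.GQ

/-! Classes of involutions in a subgroup and in a quotient of it that separates the class (helper8). -/

set_option autoImplicit false

namespace Cfsg.Agent.F24U
open Cfsg.Agent.Fischer Subgroup

variable {G Γ : Type*} [Group G] [Group Γ] {H : Subgroup G} {π : H →* Γ} {d : H}

def cls (H : Subgroup G) (d : G) : Set G := {y | ∃ g ∈ H, g * d * g⁻¹ = y}

theorem cls_conj {g d y : G} (hg : g ∈ H) (hy : y ∈ cls H d) : g * y * g⁻¹ ∈ cls H d :=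
  let ⟨k, hk, e⟩ := hy; ⟨g * k, mul_mem hg hk, by rw [← e]; group⟩
theorem cls_self {d : G} : d ∈ cls H d := ⟨1, one_mem _, by simp⟩
theorem cls_mem {y : G} (hy : y ∈ cls H d) : y ∈ H := by
  obtain ⟨g, hg, rfl⟩ := hy; exact mul_mem (mul_mem hg d.2) (inv_mem hg)

structure QS (π : H →* Γ) (d : H) : Prop where
  surj : Function.Surjective π
  sq : d * d = 1
  sep : ∀ y y' : H, y.1 ∈ cls H d → y'.1 ∈ cls H d → π y = π y' → y = y'

open _root_.Classical in
noncomputable def pext (π : H →* Γ) (g : G) : Γ := if h : g ∈ H then π ⟨g, h⟩ else 1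
theorem pext_coe (g : H) : pext π g = π g := dif_pos g.2
theorem pext_mk {g : G} (h : g ∈ H) : pext π g = π ⟨g, h⟩ := dif_pos h

namespace QS
variable (h : QS π d)
include h

theorem mem {y : Γ} : y ∈ conjugatesOf (π d) ↔ ∃ y' : H, y'.1 ∈ cls H d ∧ π y' = y := by
  refine ⟨fun m => ?_, ?_⟩
  · obtain ⟨g, rfl⟩ := isConj_iff.1 m
    obtain ⟨g, rfl⟩ := h.surj g
    exact ⟨g * d * g⁻¹, ⟨g, g.2, rfl⟩, by simp⟩
  · rintro ⟨y, ⟨g, hg, e⟩, rfl⟩
    refine isConj_iff.2 ⟨π ⟨g, hg⟩, ?_⟩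
    rw [← map_inv, ← map_mul, ← map_mul]; exact congrArg π (Subtype.ext e)

theorem comm {g y : H} (hy : y.1 ∈ cls H d) : Commute (π g) (π y) ↔ Commute g.1 y.1 := by
  refine ⟨fun c => ?_, fun c => (show Commute g y from Subtype.ext c).map π⟩
  have := h.sep (g * y * g⁻¹) y (cls_conj g.2 hy) hy (by rw [map_mul, map_mul, c.eq, map_inv, mul_inv_cancel_right])
  exact mul_inv_eq_iff_eq_mul.1 (congrArg Subtype.val this)

theorem mem_dd {a y : H} (ha : a.1 ∈ cls H d) (hy : y.1 ∈ cls H d) :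
    π y ∈ Dd (conjugatesOf (π d)) (π a) ↔ y.1 ∈ Dd (cls H d) a :=
  ⟨fun m => ⟨hy, fun e => m.2.1 (congrArg π (Subtype.ext e)), (h.comm hy).1 m.2.2⟩,
   fun m => ⟨h.mem.2 ⟨y, hy, rfl⟩, fun e => m.2.1 (congrArg Subtype.val (h.sep _ _ hy ha e)), (h.comm hy).2 m.2.2⟩⟩

theorem sq' {y : G} (hy : y ∈ cls H d) : y * y = 1 := by
  obtain ⟨g, -, rfl⟩ := hy
  rw [conj_mul, show d.1 * d.1 = 1 from congrArg Subtype.val h.sq, mul_one, mul_inv_cancel]

theorem kmap {T : Set G} {T' : Set Γ} (w : WT T) (h1 : T ⊆ cls H d) (h2 : T' ⊆ conjugatesOf (π d))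
    (h3 : ∀ y : H, y.1 ∈ cls H d → (π y ∈ T' ↔ y.1 ∈ T)) : KMap (pext π) T T' := by
  have e : π '' {x : H | (x : G) ∈ T} = T' := by
    ext y
    refine ⟨by rintro ⟨y, hy, rfl⟩; exact (h3 y (h1 hy)).2 hy, fun m => ?_⟩
    obtain ⟨y, hy, rfl⟩ := h.mem.1 (h2 m)
    exact ⟨y, (h3 y hy).1 m, rfl⟩
  refine ⟨w, e ▸ (w.subtype H).image π, ⟨fun y hy => ?_, fun y hy y' hy' e => ?_, fun y hy => ?_⟩, fun a ha b hb => ?_⟩
  · rw [pext_mk (cls_mem (h1 hy))]; exact (h3 ⟨y, _⟩ (h1 hy)).2 hy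
  · rw [pext_mk (cls_mem (h1 hy)), pext_mk (cls_mem (h1 hy'))] at e
    exact congrArg Subtype.val (h.sep _ _ (h1 hy) (h1 hy') e)
  · rw [← e] at hy
    obtain ⟨y, hy, rfl⟩ := hy
    exact ⟨y, hy, pext_coe y⟩
  · rw [pext_mk (cls_mem (h1 ha)), pext_mk (cls_mem (h1 hb)), pext_mk (cls_mem (h1 (w.conj a ha b hb))), ← map_mul,
      ← map_mul]; rfl

theorem kmap_dd (w : WT (Dd (cls H d) d)) : KMap (pext π) (Dd (cls H d) d) (Dd (conjugatesOf (π d)) (π d)) :=
  h.kmap w (fun _ m => m.1) (fun _ m => m.1) fun _ hy => h.mem_dd cls_self hy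

theorem wt (w : WT (conjugatesOf (π d))) : WT (cls H d) := by
  have t : ∀ x ∈ cls H d.1, ∀ y ∈ cls H d.1, x * y * x ∈ cls H d.1 := fun x hx y hy => by
    have := cls_conj (cls_mem hx) hy; rwa [inv_eq_of_sq (h.sq' hx)] at this
  refine ⟨fun _ => h.sq', fun x hx y hy => ?_, t⟩
  refine (w.br _ (h.mem.2 ⟨⟨x, cls_mem hx⟩, hx, rfl⟩) _ (h.mem.2 ⟨⟨y, cls_mem hy⟩, hy, rfl⟩)).imp (h.comm hy).1 fun b => ?_
  exact congrArg Subtype.val (h.sep (⟨x, cls_mem hx⟩ * ⟨y, cls_mem hy⟩ * ⟨x, cls_mem hx⟩)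
    (⟨y, cls_mem hy⟩ * ⟨x, cls_mem hx⟩ * ⟨y, cls_mem hy⟩) (t x hx y hy) (t y hy x hx) (by simp only [map_mul]; exact b))

theorem kmap_all (w : WT (conjugatesOf (π d))) : KMap (pext π) (cls H d) (conjugatesOf (π d)) :=
  h.kmap (h.wt w) le_rfl le_rfl fun y hy => ⟨fun _ => hy, fun _ => h.mem.2 ⟨y, hy, rfl⟩⟩

omit h in
theorem cl {T : Set G} {T' : Set Γ} (h1 : T ⊆ H) (h2 : ∀ y : H, y.1 ∈ T → π y ∈ T') {g : H} (hg : g.1 ∈ closure T) :
    π g ∈ closure T' := by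
  obtain ⟨g, hH⟩ := g
  suffices ∃ h : g ∈ H, π ⟨g, h⟩ ∈ closure T' from this.2
  replace hg : g ∈ closure T := hg
  clear hH
  induction hg using closure_induction with
  | mem x hx => exact ⟨h1 hx, subset_closure (h2 _ hx)⟩
  | one => exact ⟨one_mem _, by rw [show (⟨1, one_mem _⟩ : H) = 1 from rfl, map_one]; exact one_mem _⟩
  | mul a b _ _ ha hb => exact ⟨mul_mem ha.1 hb.1, by have := mul_mem ha.2 hb.2; rwa [← map_mul] at this⟩
  | inv a _ ha => exact ⟨inv_mem ha.1, by have := inv_mem ha.2; rwa [← map_inv] at this⟩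

omit h in
theorem cl' {T : Set G} {T' : Set Γ} (h2 : ∀ y ∈ T', ∃ y' : H, y'.1 ∈ T ∧ π y' = y) {g : Γ}
    (hg : g ∈ closure T') : ∃ g' : H, g'.1 ∈ closure T ∧ π g' = g := by
  induction hg using closure_induction with
  | mem x hx => exact let ⟨y, a, b⟩ := h2 x hx; ⟨y, subset_closure a, b⟩
  | one => exact ⟨1, one_mem _, map_one _⟩
  | mul a b _ _ ha hb =>
    obtain ⟨a, ha, rfl⟩ := ha; obtain ⟨b, hb, rfl⟩ := hb; exact ⟨a * b, mul_mem ha hb, map_mul ..⟩
  | inv a _ ha => obtain ⟨a, ha, rfl⟩ := ha; exact ⟨a⁻¹, inv_mem ha, map_inv ..⟩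

end QS

/-- A central extension of a simple centreless group whose kernel lies in the commutator subgroup. -/
theorem qs_of_central {K : Type*} [Group K] (π : K →* Γ) (hs : Function.Surjective π) (h1 : π.ker ≤ center K)
    [IsSimpleGroup Γ] (hz : center Γ = ⊥) (h2 : π.ker ≤ commutator K) : IsQuasisimple K := by
  have e : center K = π.ker := le_antisymm (fun c hc => by
    have : π c ∈ center Γ := mem_center_iff.2 fun g => by
      obtain ⟨g, rfl⟩ := hs g; rw [← map_mul, ← map_mul, mem_center_iff.1 hc g]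
    rwa [hz] at this) h1
  have c : commutator Γ = ⊤ := by
    refine (inferInstance : (commutator Γ).Normal).eq_bot_or_eq_top.resolve_left fun b => ?_
    have : (⊤ : Subgroup Γ) ≤ ⊥ := hz ▸ fun a _ => mem_center_iff.2 fun g => by
      have := commutator_mem_commutator (mem_top g) (mem_top a)
      rw [← commutator_def, b, mem_bot] at this; exact commutatorElement_eq_one_iff_mul_comm.1 this
    exact top_ne_bot (le_bot_iff.1 this)
  refine ⟨⟨eq_top_iff.2 fun g _ => ?_⟩, ((QuotientGroup.quotientMulEquivOfEq e).trans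
    (QuotientGroup.quotientKerEquivOfSurjective π hs)).isSimpleGroup⟩
  have : π g ∈ (commutator K).map π := by
    rw [commutator_def, map_commutator, map_top_of_surjective _ hs, ← commutator_def, c]; trivial
  obtain ⟨k, hk, e⟩ := this
  have := mul_mem (h2 (show g * k⁻¹ ∈ π.ker by rw [MonoidHom.mem_ker, map_mul, map_inv, e, mul_inv_cancel])) hk
  simpa using this

end Cfsg.Agent.F24U
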