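import Cfsg.Agent.F24U.Loc
import Cfsg.Agent.F24U.Quo

/-! `YY ν ⧸ EE ν` is `U₆(2)` (helper8). -/

set_option autoImplicit false

namespace Cfsg.Agent.F24U
open Cfsg.Agent.Comp Cfsg.Agent.Fischer Subgroup J4T F24T MulAction
open scoped commutatorElement

variable {G : Type*} [Group G] {z p : G} {θ : ℕ → G} {μ : centralizer ({z} : Set G) →* MulAut (XV 12)}
  {x : ℕ → G} {ν : XV 11 →* G}

theorem EE_Y : EE ν ≤ YY ν := EE_V.trans V_YY
theorem EE_comm {e g : G} (he : e ∈ EE ν) (hg : g ∈ YY ν) : Commute e g := hg e he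
theorem EE_cen : (EE ν).subgroupOf (YY ν) ≤ center (YY ν) := fun _ he => mem_center_iff.2 fun g =>
  Subtype.ext (EE_comm he g.2).symm
instance normal_EE : ((EE ν).subgroupOf (YY ν)).Normal := ⟨fun e he g => by
  rwa [mem_center_iff.1 (EE_cen he) g, mul_inv_cancel_right]⟩
theorem EE_sq {e : G} (he : e ∈ EE ν) : e * e = 1 := by obtain ⟨v, -, rfl⟩ := he; exact nu_sq v

namespace Hy
variable [Finite G] (B : Hy z p θ μ x ν)
include B

theorem zY : z ∈ YY ν := V_YY B.zV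
theorem zD : (⟨z, B.zY⟩ : YY ν).1 ∈ cls (YY ν) (⟨z, B.zY⟩ : YY ν) := cls_self
theorem m192 : nu ν 192 ∈ Dd (DD z ν) z := B.L20_mem (by decide)

section
variable {Γ : Type*} [Group Γ] {π : YY ν →* Γ} (hs : Function.Surjective π) (hk : ∀ g, π g = 1 ↔ g.1 ∈ EE ν)
include hs hk

omit hs B [Finite G] in
theorem pi_eq {a b : YY ν} (h : π a = π b) : ∃ e ∈ EE ν, a.1 = b * e :=
  ⟨(b⁻¹ * a).1, (hk _).1 (by rw [map_mul, map_inv, h, inv_mul_cancel]), by simp⟩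

theorem qs : QS π ⟨z, B.zY⟩ := by
  refine ⟨hs, Subtype.ext B.toFr.zz, fun y y' hy hy' e => ?_⟩
  obtain ⟨e, he, h⟩ := pi_eq hk e
  have := B.pat' hy' he (h ▸ (B.pat hy).1)
  exact Subtype.ext (by rw [h, this, mul_one])

theorem quot [Finite Γ] : KU (conjugatesOf (π ⟨z, B.zY⟩)) ∧ closure (conjugatesOf (π ⟨z, B.zY⟩)) = ⊤ ∧ center Γ = ⊥ ∧
    Nonempty (Γ ≃* PSU 6 F4 2) := by
  have q := B.qs hs hk
  have k := q.kmap_dd B.wt
  have hY : ∀ {y}, y ∈ Dd (DD z ν) z → y ∈ YY ν := fun m => B.DD_Y m.1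
  refine locU6 (d' := π ⟨_, hY B.m192⟩) (by rw [← map_mul, q.sq, map_one]) ⟨fun g c => ?_, fun g c h => ?_⟩ k.wt
    (k.tr1 B.tr1) (B.lq.map k) ((q.mem_dd (y := ⟨_, hY B.m192⟩) B.zD B.m192.1).2 B.m192) fun c h => ?_
  · obtain ⟨g, rfl⟩ := hs g
    exact QS.cl (fun _ => hY) (fun y hy => (q.mem_dd B.zD hy.1).2 hy) (B.cen g.2 ((q.comm B.zD).1 c))
  · obtain ⟨g, rfl⟩ := hs g
    refine (B.zen (g := g) fun y hy => (q.comm (y := ⟨y, hY hy⟩) hy.1).1 (h _ ((q.mem_dd (y := ⟨y, hY hy⟩) B.zD hy.1).2 hy))).imp (hk g).2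
      fun m => ?_
    have := (hk (g * ⟨z, B.zY⟩)).2 m
    rw [map_mul, mul_eq_one_iff_eq_inv] at this
    rw [this, inv_eq_of_sq (by rw [← map_mul, q.sq, map_one])]
  · obtain ⟨c, rfl⟩ := hs c
    rw [← map_mul] at h
    obtain ⟨e, ⟨v, hv, rfl⟩, he⟩ := pi_eq hk (a := c * (⟨z, B.zY⟩ * ⟨_, hY B.m192⟩) * c⁻¹) (b := ⟨z, B.zY⟩ * ⟨_, hY B.m192⟩)
      (by rw [map_mul, map_mul, h.eq, map_inv, mul_inv_cancel_right])
    replace he : c * (z * nu ν 192) * (c : G)⁻¹ = z * nu ν 192 * nu ν v := he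
    have e1 : z * nu ν 192 = nu ν 128 := by rw [← B.nz, nu_xor (by norm_num) (by norm_num)]; rfl
    rcases (by decide +kernel : ∀ v ∈ [0, 2, 59, 57], v = 0 ∨ v < 2048 ∧ 128 ^^^ v ≠ 0 ∧
      ¬ mD.testBit (128 ^^^ v) = true) v hv with rfl | ⟨a, b, n⟩
    · rw [nu_zero, mul_one] at he
      have := B.un c.2 (mul_inv_eq_iff_eq_mul.1 he)
      rw [← map_inv, ← map_mul, ← map_mul]
      exact (q.comm B.zD).2 this
    · rw [e1, nu_xor (by norm_num) a] at he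
      exact absurd (B.conj_nu (Nat.xor_lt_two_pow (n := 11) (by norm_num) a) b fun k => B.nconj (v := 128)
        (by decide +kernel) (k.trans (isConj_iff.2 ⟨_, he⟩).symm)) n

theorem ku' [Finite Γ] : KU (DD z ν) := by
  obtain ⟨⟨_, u⟩, -⟩ := B.quot hs hk
  obtain ⟨f, k, -⟩ := ((B.qs hs hk).kmap_all u.wt).symm
  exact KU.map k ⟨_, u⟩
end

theorem quotE : KU (DD z ν) ∧ center (YY ν ⧸ (EE ν).subgroupOf (YY ν)) = ⊥ ∧
    Nonempty (YY ν ⧸ (EE ν).subgroupOf (YY ν) ≃* PSU 6 F4 2) :=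
  have s := QuotientGroup.mk'_surjective ((EE ν).subgroupOf (YY ν))
  have k : ∀ g : YY ν, QuotientGroup.mk' ((EE ν).subgroupOf (YY ν)) g = 1 ↔ g.1 ∈ EE ν := fun g => QuotientGroup.eq_one_iff g
  ⟨B.ku' s k, (B.quot s k).2.2⟩

theorem ku : KU (DD z ν) := B.quotE.1

theorem clD : closure (DD z ν) = YY ν := by
  refine le_antisymm ((closure_le _).2 fun _ => B.DD_Y) fun g hg => ?_
  have s := QuotientGroup.mk'_surjective ((EE ν).subgroupOf (YY ν))
  have k : ∀ g : YY ν, QuotientGroup.mk' ((EE ν).subgroupOf (YY ν)) g = 1 ↔ g.1 ∈ EE ν := fun g => QuotientGroup.eq_one_iff g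
  obtain ⟨g', h1, h2⟩ := QS.cl' (T := DD z ν) (fun y hy => (B.qs s k).mem.1 hy) ((B.quot s k).2.1 ▸ mem_top
    (QuotientGroup.mk' _ (⟨g, hg⟩ : YY ν)))
  obtain ⟨e, he, h⟩ := pi_eq k h2.symm
  rw [show g = g' * e from h]
  exact mul_mem h1 (closure_mono (fun _ m => m.1) (B.V_cl (EE_V he)))

theorem V_comm : ν.range ≤ (commutator (YY ν)).map (YY ν).subtype := by
  have h1 : ∀ y ∈ DD z ν, y * z ∈ (commutator (YY ν)).map (YY ν).subtype := by
    rintro _ ⟨g, hg, rfl⟩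
    refine ⟨⁅(⟨g, hg⟩ : YY ν), ⟨z, B.zY⟩⁆, commutator_mem_commutator (mem_top _) (mem_top _), ?_⟩
    rw [commutatorElement_def]; simp [inv_eq_of_sq B.toFr.zz]
  have h2 : ∀ v ∈ L20, nu ν (v ^^^ 64) ∈ (commutator (YY ν)).map (YY ν).subtype := fun v hv => by
    rw [← nu_xor ((by decide : ∀ v ∈ L20, v < 2048) v hv) (by norm_num), B.nz]; exact h1 _ (B.L20_mem hv).1
  have h3 : z ∈ (commutator (YY ν)).map (YY ν).subtype := by
    have := mul_mem (mul_mem (mul_mem (h2 134 (by decide)) (h2 179 (by decide))) (h2 181 (by decide))) (h2 192 (by decide))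
    rwa [nu_xor (by decide) (by decide), nu_xor (by decide) (by decide), nu_xor (by decide) (by decide),
      show _ ^^^ _ = 64 by decide, B.nz] at this
  refine B.V_le fun v hv => ?_
  have := mul_mem (h1 _ (B.L20_mem hv).1) h3
  rwa [mul_assoc, B.toFr.zz, mul_one] at this

theorem qsY : IsQuasisimple (YY ν) := by
  obtain ⟨-, h, ⟨e⟩⟩ := B.quotE
  have := Classical.isSimpleGroup_PSU (F := F4) (q := 2) (n := 6) (by omega) (by omega)
  have := e.isSimpleGroup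
  refine qs_of_central _ (QuotientGroup.mk'_surjective _) ((QuotientGroup.ker_mk' _).le.trans EE_cen) h fun g hg => ?_
  rw [QuotientGroup.ker_mk'] at hg
  obtain ⟨k, hk, e⟩ := B.V_comm (EE_V hg)
  rwa [← show k = g from Subtype.ext e]

theorem cardE : Nat.card (EE ν) = 4 := by
  classical
  have : (EE ν : Set G) = (({0, 2, 59, 57} : Finset ℕ).image (nu ν) : Finset G) := by
    ext g; simp [EE, eq_comm]
  rw [← SetLike.coe_sort_coe, this, Nat.card_coe_set_eq, Set.ncard_coe_finset, Finset.card_image_of_injOn]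
  · rfl
  · intro a ha b hb e
    have : ∀ a ∈ ({0, 2, 59, 57} : Finset ℕ), a < 2048 := by decide
    exact B.nu_inj (this a ha) (this b hb) e

theorem EE_Q : EE ν ≤ twoCoreOfCentralizer z := by
  rintro _ ⟨v, hv, rfl⟩
  rw [nu, B.toBt.νU ((by decide : ∀ v ∈ [0, 2, 59, 57], v < 128) v hv)]
  exact B.toSt.θE (F24T.ut_lt _)

theorem z_EE : z ∉ EE ν := fun h => B.toFr.z1 (by
  obtain ⟨v, hv, e⟩ := h
  rw [← B.nz] at e
  exact absurd (B.nu_inj ((by decide : ∀ v ∈ [0, 2, 59, 57], v < 2048) v hv) (by norm_num) e ▸ hv) (by decide))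

end Hy
end Cfsg.Agent.F24U
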