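import Cfsg.Agent.F24U.L24

/-! An odd involution with centraliser `2 × Fi23` (helper8): `top24`. -/

set_option autoImplicit false

namespace Cfsg.Agent.F24U
open Cfsg.Agent.Fischer Subgroup

variable {X : Type*} [Group X] [Finite X] {G₀ : Subgroup X} {d s : X} {t u : ↥(G₀ ⊓ centralizer {d})}

theorem top24 (hidx : G₀.index = 2) (d2 : d * d = 1) (hd : d ∉ G₀) (B : B23 (conjugatesOf t))
    (un : ∀ c : X, Commute c (t : X) → c * d * c⁻¹ = d ∨ c * d * c⁻¹ = d * t) (hs : s ∈ G₀) (st : Commute s (t : X))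
    (sd : s * d * s⁻¹ = d * t) (hu : u ∈ Dd (conjugatesOf t) t) (su : s * u * s⁻¹ = (t : X) * u) :
    Nonempty (Cfsg.Spor.Fi24 ≃* X) := by
  have hn := normal_of_index_eq_two hidx
  set T := conjugatesOf t
  set D := conjugatesOf d
  have w := B.fl.wt
  have cc : ∀ g s x : X, g * s * g⁻¹ * (g * x * g⁻¹) * (g * s * g⁻¹)⁻¹ = g * (s * x * s⁻¹) * g⁻¹ := fun _ _ _ => by group
  have cd : ∀ y : ↥(G₀ ⊓ centralizer {d}), Commute d y := fun y => (mem_centralizer_singleton_iff.1 y.2.2).symm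
  have mk : ∀ {g}, g ∈ G₀ → Commute g d → g ∈ G₀ ⊓ centralizer {d} := fun h c => ⟨h, mem_centralizer_singleton_iff.2 c⟩
  have sq : ∀ a ∈ T, (a : X) * a = 1 := fun a ha => congrArg Subtype.val (w.sq a ha)
  have cv : ∀ {a b : ↥(G₀ ⊓ centralizer {d})}, Commute a b → Commute (a : X) b := fun c => congrArg Subtype.val c
  have pc : ∀ {a b x y}, a ∈ T → b ∈ Dd T a → x ∈ T → y ∈ Dd T x → ∃ g : ↥(G₀ ⊓ centralizer {d}),
      g * a * (g : X)⁻¹ = x ∧ g * b * (g : X)⁻¹ = y := fun ha hb hx hy =>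
    (pair_conj (fun g _ => CM.conj_mem g) (fun x hx y hy => isConj_iff.1 (IsConj.trans (IsConj.symm hx) hy)) hx
      (B.k.loc _ hx).trA.tr1 hy ha hb).imp fun _ e => ⟨congrArg Subtype.val e.1, congrArg Subtype.val e.2⟩
  have sw : ∀ a ∈ T, ∀ b ∈ Dd T a, ∃ s ∈ G₀, Commute s (a : X) ∧ s * d * s⁻¹ = d * a ∧ s * b * s⁻¹ = (a : X) * b ∧
      ∀ c ∈ Dd T a, ∃ c' ∈ Dd T a, s * c * s⁻¹ = (a : X) * c' := fun a ha b hb => by
    obtain ⟨s, h1, h2, h3, h4⟩ : ∃ s ∈ G₀, Commute s (a : X) ∧ s * d * s⁻¹ = d * a ∧ s * b * s⁻¹ = (a : X) * b := by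
      obtain ⟨g, e1, e2⟩ := pc mem_conjugatesOf_self hu ha hb
      have e0 := conj_eq_of_commute (cd g).symm
      refine ⟨g * s * (g : X)⁻¹, hn.conj_mem _ hs _, e1 ▸ (commute_conj_iff _).2 st, ?_, ?_⟩
      · have := cc g s d
        rwa [sd, ← conj_mul (a := d), e0, e1] at this
      · have := cc g s u
        rwa [su, ← conj_mul (a := (t : X)), e1, e2] at this
    refine ⟨s, h1, h2, h3, h4, fun c hc => ?_⟩
    obtain ⟨k, hk, rfl⟩ := (B.k.loc a ha).trA.tr1 b hb c hc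
    have ck := cv (closure_Dd_commute hk)
    have e : s * (d * a) * s⁻¹ = d := by
      rw [← conj_mul, h3, conj_eq_of_commute h2, mul_assoc, sq a ha, mul_one]
    let k' : ↥(G₀ ⊓ centralizer {d}) := ⟨s * k * s⁻¹, mk (hn.conj_mem _ k.2.1 _) (by
      have := (commute_conj_iff s).2 ((cd k).symm.mul_right ck)
      rwa [e] at this)⟩
    have ck' : Commute k' a := Subtype.ext ((h2.mul_left ck).mul_left h2.inv_left)
    refine ⟨k' * b * k'⁻¹, ((w.dd a).conj_mem ((B.fl.mem_cen ha).2 ck') hb), ?_⟩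
    change s * (k * b * (k : X)⁻¹) * s⁻¹ = a * (k' * b * (k' : X)⁻¹)
    rw [← conj_eq_of_commute (cv ck'), conj_mul, ← h4]
    simp only [k']; group
  have mD : ∀ a ∈ T, (a : X) * d ∈ D := fun a ha => by
    obtain ⟨g, rfl⟩ := isConj_iff.1 ha
    refine isConj_iff.2 ⟨g * s, ?_⟩
    rw [show g * s * d * (g * s)⁻¹ = g * (s * d * s⁻¹) * (g : X)⁻¹ by group, sd, ← conj_mul,
      conj_eq_of_commute (cd g).symm]
    exact (cd (g * t * g⁻¹)).eq
  have no2 : ∀ a ∈ T, ∀ b ∈ Dd T a, d * (a * b) ∉ D := fun a ha b hb m => by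
    obtain ⟨j, hj⟩ := isConj_iff.1 (IsConj.symm m)
    have mj : ∀ {g}, g ∈ G₀ → Commute g (d * (a * b)) → j * g * j⁻¹ ∈ G₀ ⊓ centralizer {d} := fun h c =>
      mk (hn.conj_mem _ h _) (by rw [← hj]; exact (commute_conj_iff j).2 c)
    have k := cl_two ha hb.1 hb.2.1.symm hb.2.2
    let φ : centralizer {y | y ∈ [a, b]} →* ↥(G₀ ⊓ centralizer {d}) := MonoidHom.mk' (fun c => ⟨_, mj c.1.2.1
      ((cd c).symm.mul_right ((cv (mem_cent_list.1 c.2 a (by simp))).mul_right (cv (mem_cent_list.1 c.2 b (by simp)))))⟩)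
      fun _ _ => Subtype.ext conj_mul.symm
    obtain ⟨g, e1, e2⟩ := pc ha hb hb.1 (Dd_symm ha hb)
    obtain ⟨s, h1, h2, h3, h4, -⟩ := sw b hb.1 a (Dd_symm ha hb)
    have cab := cv hb.2.2
    refine no4 B k φ (fun c c' e => Subtype.ext (Subtype.ext ((conj_inj j).1 (congrArg Subtype.val e))))
      (a := ⟨a, mem_cent_list.2 (k.2.2 a (by simp))⟩) (b := ⟨b, mem_cent_list.2 (k.2.2 b (by simp))⟩) rfl rfl
      (isConj_iff.2 ⟨⟨_, mj g.2.1 (mul_inv_eq_iff_eq_mul.1 ?_)⟩, Subtype.ext ?_⟩)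
      (isConj_iff.2 ⟨⟨_, mj h1 (mul_inv_eq_iff_eq_mul.1 ?_)⟩, Subtype.ext ?_⟩)
    · rw [← conj_mul, ← conj_mul, e1, e2, conj_eq_of_commute (cd g).symm, cab.eq]
    · change j * g * j⁻¹ * (j * a * j⁻¹) * (j * g * j⁻¹)⁻¹ = j * b * j⁻¹
      rw [← e1]; group
    · rw [← conj_mul, ← conj_mul, h3, h4, conj_eq_of_commute h2, mul_assoc, mul_assoc, ← mul_assoc (b : X),
        sq b hb.1, one_mul]
    · change j * s * j⁻¹ * (j * a * j⁻¹) * (j * s * j⁻¹)⁻¹ = j * a * j⁻¹ * (j * b * j⁻¹)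
      rw [cc, conj_mul, cab.eq, h4]
  have n1 : ∀ a ∈ T, (a : X) ≠ 1 := fun a ha e => B.k.noCL.noC.one_not_mem ((Subtype.ext e : a = 1) ▸ ha)
  have mk' : ∀ {g}, g ∉ G₀ → Commute g d → g * d ∈ G₀ ⊓ centralizer {d} := fun h c =>
    mk ((mul_mem_iff_of_index_two hidx).2 (iff_of_false h hd)) (c.mul_left (.refl d))
  have mdd : ∀ a ∈ T, (a : X) * d ∈ Dd D d := fun a ha => ⟨mD a ha, by simpa using n1 a ha, (cd a).mul_right (.refl d)⟩
  have dd : ∀ y ∈ Dd D d, ∃ a ∈ T, (a : X) * d = y := fun y hy => by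
    obtain ⟨g, e⟩ := isConj_iff.1 hy.1
    have hy' : y ∉ G₀ := fun m => hd (by simpa [← e, mul_assoc] using hn.conj_mem _ m g⁻¹)
    obtain ⟨l, l1, l2, l3⟩ := B.inv ⟨_, mk' hy' hy.2.2.symm⟩ (Subtype.ext (by
      change y * d * (y * d) = 1
      rw [hy.2.2.mul_mul_mul_comm, d2, ← e, conj_mul, d2]; simp))
    replace l3 : d * l.prod = y := by
      rw [show (l.prod : X) = y * d from congrArg Subtype.val l3, ← hy.2.2.eq, ← mul_assoc, d2, one_mul]
    rcases l with _ | ⟨a, _ | ⟨b, _ | ⟨c, _ | _⟩⟩⟩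
    · exact absurd (by simpa using l3.symm) hy.2.1
    · exact ⟨a, l1.2.1 a (by simp), (cd a).symm.eq.trans (by simpa using l3)⟩
    · exact absurd (by simpa [← l3] using hy.1) (no2 a (cl_cons.1 l1).1 b ((cl_cons.1 l1).2.2.1 b (by simp)))
    · obtain ⟨ha, l4⟩ := cl_cons.1 l1
      obtain ⟨hb, l5⟩ := cl_cons.1 l4
      have hc := l5.2.1 c (by simp)
      obtain ⟨s, -, h2, h3, h4, h5⟩ := sw a ha b hb
      obtain ⟨c', m, h5⟩ := h5 c hc.1
      have k1 : ∀ x : X, a * (a * x) = x := fun x => by rw [← mul_assoc, sq a ha, one_mul]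
      refine absurd ?_ (no2 b hb.1 c' ⟨m.1, fun e => hc.2.1 (Subtype.ext ((conj_inj s).1 (by rw [h5, h4, e]))),
        Subtype.ext (mul_left_cancel (a := (a : X) * a) ?_)⟩)
      · have := CM.conj_mem s hy.1
        rw [← l3] at this
        simp only [List.prod_cons, List.prod_nil, mul_one, coe_mul] at this
        rwa [← conj_mul, ← conj_mul, ← conj_mul, h3, h4, h5, conj_eq_of_commute h2, mul_assoc, k1, mul_assoc,
          (cv hb.2.2).symm.left_comm, k1] at this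
      · have := ((commute_conj_iff s).2 (cv hc.2.2)).eq
        rwa [h4, h5, (cv hb.2.2).symm.mul_mul_mul_comm, (cv m.2.2).symm.mul_mul_mul_comm] at this
    · simp at l2; omega
  obtain ⟨ψ, hψ⟩ := B.iso
  have k0 := KMap.of_hom w (G₀ ⊓ centralizer {d}).subtype (subtype_injective _).injOn
  have k1 := (k0.wt.twist d2 (by rintro _ ⟨y, -, rfl⟩; exact cd y)).comp (k0.comp (KMap.of_equiv F23.wt ψ hψ))
  rw [show (· * d) '' ((G₀ ⊓ centralizer {d}).subtype '' T) = Dd D d from Set.ext fun y =>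
    ⟨by rintro ⟨_, ⟨a, ha, rfl⟩, rfl⟩; exact mdd a ha, fun hy => let ⟨a, ha, e⟩ := dd y hy; ⟨_, ⟨a, ha, rfl⟩, e⟩⟩] at k1
  have mt : t ∈ T := mem_conjugatesOf_self
  obtain ⟨S, b, hS⟩ := loc24 d2 ⟨(G₀ ⊓ centralizer {d}).subtype.comp ψ.toMonoidHom, fun g => cd _, k1⟩ (fun c c1 c2 => by
    have k : ∀ a ∈ T, Commute c a := fun a ha => by
      simpa [mul_assoc, d2] using (c2 _ (mdd a ha)).mul_right c1
    by_cases m : c ∈ G₀
    · exact .inl (congrArg Subtype.val (B.fl.eq_one (c := ⟨c, mk m c1⟩) fun a ha => Subtype.ext (k a ha)))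
    · have := congrArg Subtype.val (B.fl.eq_one (c := ⟨_, mk' m c1⟩) fun a ha => Subtype.ext ((k a ha).mul_left (cd a)))
      exact .inr ((eq_inv_of_mul_eq_one_left this).trans (inv_eq_of_sq d2))) (mdd t mt) fun c h => by
    rw [← (cd t).eq] at h ⊢
    exact un c (by rwa [← mul_assoc, d2, one_mul] at h)
  have md : d ∈ closure D := subset_closure mem_conjugatesOf_self
  have mY : ∀ y : ↥(G₀ ⊓ centralizer {d}), y.1 ∈ closure D := fun y => by
    have := mem_map_of_mem (G₀ ⊓ centralizer {d}).subtype (B.fl.top y)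
    rw [MonoidHom.map_closure] at this
    refine (closure_le _).2 ?_ this
    rintro _ ⟨a, ha, rfl⟩
    exact (mul_mem_cancel_right md).1 (subset_closure (mD a ha))
  have top : closure D = ⊤ := eq_top_iff.2 fun g _ => by
    have m : g * d * g⁻¹ ∈ D := isConj_iff.2 ⟨g, rfl⟩
    obtain ⟨k, -, e⟩ := b.fl.tr1 ⟨_, subset_closure m⟩ ((hS _).2 m) ⟨d, md⟩ ((hS _).2 mem_conjugatesOf_self)
    have c : Commute (k * g) d := mul_inv_eq_iff_eq_mul.1 (by simpa [mul_assoc] using congrArg Subtype.val e)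
    refine (mul_mem_cancel_left k.2).1 ?_
    by_cases m : k * g ∈ G₀
    exacts [mY ⟨_, mk m c⟩, (mul_mem_cancel_right md).1 (mY ⟨_, mk' m c⟩)]
  obtain ⟨e, -⟩ := b.iso
  exact ⟨e.trans ((MulEquiv.subgroupCongr top).trans topEquiv)⟩

end Cfsg.Agent.F24U
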