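import Cfsg.Agent.F24U.Lv3

/-! A homomorphism of `Fi24` into the wreath product `G ≀ 2` (helper8): `N3.hom`. -/

set_option autoImplicit false
set_option maxRecDepth 100000

namespace Cfsg.Agent.F24U
open Cfsg.Agent.Fischer Subgroup Cfsg.Agent.Spor F23 Fi23M

/-- The wreath product with a group of order two. -/
@[ext] structure W (G : Type*) where
  a : G
  b : G
  e : Bool

variable {G : Type*} [Group G]

namespace W
instance f24uMul : Mul (W G) := ⟨fun x y => ⟨x.a * (bif x.e then y.b else y.a), x.b * (bif x.e then y.a else y.b), xor x.e y.e⟩⟩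
instance f24uOne : One (W G) := ⟨⟨1, 1, false⟩⟩
instance f24uInv : Inv (W G) := ⟨fun x => ⟨(bif x.e then x.b else x.a)⁻¹, (bif x.e then x.a else x.b)⁻¹, x.e⟩⟩
theorem mul_def (x y : W G) :
    x * y = ⟨x.a * (bif x.e then y.b else y.a), x.b * (bif x.e then y.a else y.b), xor x.e y.e⟩ := rfl
theorem one_def : (1 : W G) = ⟨1, 1, false⟩ := rfl
theorem inv_def (x : W G) : x⁻¹ = ⟨(bif x.e then x.b else x.a)⁻¹, (bif x.e then x.a else x.b)⁻¹, x.e⟩ := rfl

instance f24uGroup : Group (W G) := Group.ofLeftAxioms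
  (by rintro ⟨a, b, _ | _⟩ ⟨c, d, _ | _⟩ ⟨e, f, _ | _⟩ <;> simp [mul_def, mul_assoc])
  (by rintro ⟨a, b, _ | _⟩ <;> simp [mul_def, one_def]) (by rintro ⟨a, b, _ | _⟩ <;> simp [mul_def, one_def, inv_def])

def o (a : G) : W G := ⟨a, a⁻¹, true⟩
def δ : G →* W G := MonoidHom.mk' (fun a => ⟨a, a, false⟩) fun _ _ => rfl

theorem oo (a : G) : o a * o a = 1 := by simp [o, mul_def, one_def]
theorem ooo (a b : G) : o a * o b * o a = o (a * b⁻¹ * a) := by simp [o, mul_def, mul_assoc]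
theorem o_eq {y : G} (h : y * y = 1) : o y = δ y * o 1 := by simp [o, δ, mul_def, inv_eq_of_sq h]
theorem δo (y : G) : Commute (δ y) (o 1) := by simp [Commute, SemiconjBy, o, δ, mul_def]
theorem co {a b : G} (h : a * b⁻¹ * a = b) : Commute (o a) (o b) := commute_of_tri (oo a) (by rw [ooo, h])

theorem eq_one {c : W G} {a : G} {S : Set G} (a2 : a * a ≠ 1) (z : ∀ x, (∀ y ∈ S, Commute x y) → x = 1)
    (h0 : Commute c (o 1)) (h1 : Commute c (o a)) (h : ∀ y ∈ S, Commute c (δ y)) : c = 1 := by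
  obtain ⟨u, v, e⟩ := c
  have e1 : u = v := by cases e <;> simpa [o, mul_def] using congrArg W.a h0.eq
  subst e1
  have e2 : u = 1 := z u fun y hy => show u * y = y * u by cases e <;> simpa [δ, mul_def] using congrArg W.a (h y hy).eq
  subst e2
  cases e
  · rfl
  · exact absurd (by simpa [o, mul_def, inv_eq_iff_mul_eq_one] using congrArg W.a h1.eq) a2
end W
open W

theorem cox_rel' {l : ℕ → G} {adj : ℕ → ℕ → Bool} {n : ℕ} (h1 : ∀ x < n, l x * l x = 1)
    (h2 : ∀ x < n, ∀ y < n, adj x y = false → Commute (l x) (l y)) (h3 : ∀ x < n, ∀ y < n, adj x y = true → Br (l x) (l y))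
    {r : List ℕ} (hr : coxB adj n r = true) : Spor.ev l r = 1 := by
  unfold coxB at hr
  split at hr
  · rfl
  · simp only [Bool.and_eq_true, beq_iff_eq, decide_eq_true_eq] at hr
    obtain ⟨rfl, hx⟩ := hr
    simpa using h1 _ hx
  · simp only [Bool.and_eq_true, beq_iff_eq, decide_eq_true_eq, Bool.not_eq_true'] at hr
    obtain ⟨⟨⟨⟨rfl, rfl⟩, hx⟩, hy⟩, ha⟩ := hr
    have := (commute_iff_sq (h1 _ hy) (h1 _ hx)).1 (h2 _ hx _ hy ha).symm
    simpa [pow_succ, mul_assoc] using this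
  · simp only [Bool.and_eq_true, beq_iff_eq, decide_eq_true_eq] at hr
    obtain ⟨⟨⟨⟨⟨⟨rfl, rfl⟩, rfl⟩, rfl⟩, hx⟩, hy⟩, ha⟩ := hr
    have := (br_iff_cube (h1 _ hy) (h1 _ hx)).1 (h3 _ hx _ hy ha).symm
    simpa [pow_succ, mul_assoc] using this
  · exact absurd hr (by simp)

theorem est_rels' {nets : List Net} {N nl : ℕ} {l : ℕ → G} {x0 : G} {b0 K : ℕ} (hok : netsOk N nets = true)
    (hf : chkFin nets N b0 (List.range nl) 0 N K = true)
    (hK : ESt (fun x => ConjAct.toConjAct (l x)) nets N x0 b0 K) {rels : List (List ℕ)}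
    (hg : ∀ r ∈ rels, Spor.ev l r = 1) (hi : chkInv rels (List.range nl) = true) {r : List ℕ}
    (hl : chkLet (List.range nl) [r] = true) (hr : Spor.ev (PP nets) r = 1) {u : G} (hu : u ∈ genL l (List.range nl)) :
    Commute (Spor.ev l r) (u * x0 * u⁻¹) := by
  obtain ⟨w, hw, rfl⟩ := exists_word_of_mem_genL hg hi hu
  obtain ⟨hb, f, h0, k⟩ := fin_sound hok hf hK
  have hl' := lt_of_chkLet hl
  obtain ⟨a1, a2⟩ := k w hw b0 hb
  obtain ⟨-, a3⟩ := k r (fun x hx => List.mem_range.2 (hl' r (by simp) x hx)) _ a1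
  rw [hr, Equiv.Perm.one_apply, ← a2, h0] at a3
  simp only [← Spor.map_ev, ConjAct.toConjAct_smul] at a3
  exact mul_inv_eq_iff_eq_mul.1 a3

variable {τ : Cfsg.Spor.Fi23 →* G} {a : G}

/-- The images of the generators. -/
noncomputable def lw (τ : Cfsg.Spor.Fi23 →* G) (a : G) : ℕ → W G
  | 0 => o 1
  | 1 => o a
  | x + 2 => if x < 10 then o (τ (gz x)) else 1

theorem lw2 {x : ℕ} (hx : x < 10) : lw τ a (x + 2) = o (τ (gz x)) := if_pos hx

theorem tsq {x : ℕ} (hx : x < 10) : τ (gz x) * τ (gz x) = 1 := by rw [← map_mul, F23.sq (by omega), map_one]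

theorem lw_ev {w : List ℕ} (hw : ∀ x ∈ w, x < 10) :
    Spor.ev (lw τ a) (w.map (· + 2)) = δ (τ (Spor.ev gz w)) * o 1 ^ w.length := by
  induction w with
  | nil => simp
  | cons x w ih =>
    have := hw x (.head _)
    rw [List.map_cons, Spor.ev_cons, ih fun y hy => hw y (.tail _ hy), lw2 this, o_eq (tsq this), Spor.ev_cons, map_mul, map_mul,
      List.length_cons, pow_succ, mul_assoc, mul_assoc, ← mul_assoc (o 1 ^ _), ← ((δo _).pow_right _).eq, mul_assoc]

theorem lw_cw {w : List ℕ} (hw : ∀ x ∈ w, x < 10) {y : Cfsg.Spor.Fi23} (hy : y ∈ D23) :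
    cw (fun x => lw τ a (x + 2)) w (o (τ y)) = o (τ (cw gz w y)) := by
  induction w generalizing y with
  | nil => rfl
  | cons x w ih =>
    have := hw x (.head _)
    rw [cw, cw, lw2 this, ooo, ← map_inv, wt.inv hy, ← map_mul, ← map_mul,
      ih (fun y hy => hw y (.tail _ hy)) (wt.conj _ (g_mem (by omega)) _ hy)]

namespace N3
variable (h : N3 τ a)
include h

omit h in
theorem sq : ∀ x < 12, lw τ a x * lw τ a x = 1 := fun x hx => by
  rcases S24.cases x hx with rfl | rfl | ⟨y, hy, rfl⟩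
  exacts [oo _, oo _, lw2 (τ := τ) hy ▸ oo _]

theorem comm : ∀ x < 12, ∀ y < 12, F24.adj x y = false → Commute (lw τ a x) (lw τ a y) := by
  have k0 : ∀ y < 10, Commute (lw τ a (y + 2)) (lw τ a 0) := fun y hy => by
    rw [lw2 hy]; exact co (by simpa using tsq hy)
  have k1 : ∀ y < 10, y ≠ 0 → Commute (lw τ a (y + 2)) (lw τ a 1) := fun y hy h0 => by
    rw [lw2 hy]; exact co (by rw [← h.inv y hy h0, mul_assoc, mul_assoc, mul_assoc, tsq hy, mul_one, ← mul_assoc, tsq hy, one_mul])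
  intro x hx y hy e
  rcases S24.cases x hx with rfl | rfl | ⟨x, hx', rfl⟩ <;> rcases S24.cases y hy with rfl | rfl | ⟨y, hy', rfl⟩
  · exact .refl _
  · exact absurd e (by decide)
  · exact (k0 y hy').symm
  · exact absurd e (by decide)
  · exact .refl _
  · exact (k1 y hy' (by rintro rfl; exact absurd e (by decide))).symm
  · exact k0 x hx'
  · exact k1 x hx' (by rintro rfl; exact absurd e (by decide))
  · have := ((F23.comm x (by omega) y (by omega)).2
      (((by decide : ∀ x < 10, ∀ y < 10, adj x y = false ↔ F24.adj (x + 2) (y + 2) = false) x hx' y hy').2 e)).map τ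
    rw [lw2 hx', lw2 hy']
    exact co (by rw [inv_eq_of_sq (tsq hy'), this.eq, mul_assoc, tsq hx', mul_one])

theorem br' : ∀ x < 12, ∀ y < 12, F24.adj x y = true → Br (lw τ a x) (lw τ a y) := by
  have k0 : Br (lw τ a 0) (lw τ a 1) := by
    change o 1 * o a * o 1 = o a * o 1 * o a
    rw [ooo, ooo, inv_eq_of_mul_eq_one_left h.a3]; simp
  have k1 : Br (lw τ a 1) (lw τ a 2) := by
    change o a * o (τ (gz 0)) * o a = o (τ (gz 0)) * o a * o (τ (gz 0))
    rw [ooo, ooo, inv_eq_of_sq (tsq (by decide)), h.br]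
  intro x hx y hy e
  rcases S24.cases x hx with rfl | rfl | ⟨x, hx', rfl⟩ <;> rcases S24.cases y hy with rfl | rfl | ⟨y, hy', rfl⟩
  · exact .refl _
  · exact k0
  · exact absurd e (by revert y; decide)
  · exact k0.symm
  · exact .refl _
  · obtain rfl : y = 0 := by revert y; decide
    exact k1
  · exact absurd e (by revert x; decide)
  · obtain rfl : x = 0 := by revert x; decide
    exact k1.symm
  · have := (wt.br _ (g_mem (x := x) (by omega)) _ (g_mem (x := y) (by omega))).resolve_left (by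
      rw [F23.comm x (by omega) y (by omega),
        (by decide : ∀ x < 10, ∀ y < 10, adj x y = false ↔ F24.adj (x + 2) (y + 2) = false) x hx' y hy', e]; simp)
    rw [lw2 hx', lw2 hy', Br, ooo, ooo, inv_eq_of_sq (tsq hx'), inv_eq_of_sq (tsq hy'), ← map_mul, ← map_mul, this]
    simp

theorem rel {r : List ℕ} (hr : coxB F24.adj 12 r = true ∨
    r = 0 :: powW [10, 7, 6, 5, 4, 3, 2] 9 ∨ r = (powW [3, 2, 1, 3, 4, 5, 3, 8, 9] 10).map (· + 2)) :
    Spor.ev (lw τ a) r = 1 := by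
  have p : ∀ n, o (1 : G) ^ (2 * n) = 1 := fun n => by rw [pow_mul, pow_two, oo, one_pow]
  rcases hr with k | rfl | rfl
  · exact cox_rel' sq h.comm h.br' k
  · rw [Spor.ev_cons, show powW [10, 7, 6, 5, 4, 3, 2] 9 = (powW [0, 1, 2, 3, 4, 5, 8] 9).reverse.map (· + 2) by decide,
      lw_ev (by decide), Spor.ev_reverse fun x hx => F23.sq (by revert x; decide), ev_gz (by decide), hg _ (by decide +kernel),
      inv_one, map_one, map_one, one_mul]
    exact (pow_succ _ _).symm.trans (p 32)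
  · rw [lw_ev (by decide), ev_gz (by decide), hg _ (by decide +kernel), map_one, map_one, one_mul]
    exact p 45

theorem uw_eq : Spor.ev (lw τ a) F24.uw * lw τ a 0 * (Spor.ev (lw τ a) F24.uw)⁻¹ = o (τ (cw gz xw (gz 0))) := by
  have e : ∀ x y, lw τ a x * lw τ a x = 1 → Br (lw τ a x) (lw τ a y) →
      lw τ a x * (lw τ a y * lw τ a x * lw τ a y) * lw τ a x = lw τ a y := fun x y a b => by
    rw [← b, ← mul_assoc, ← mul_assoc, a, one_mul, mul_assoc, a, mul_one]
  rw [← cw_eq fun x hx => sq x (by revert x; decide), show F24.uw = 1 :: 0 :: 2 :: 1 :: xw.map (· + 2) from rfl,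
    cw, cw, cw, cw, e 0 1 (sq 0 (by decide)) (h.br' 0 (by decide) 1 (by decide) rfl),
    e 1 2 (sq 1 (by decide)) (h.br' 1 (by decide) 2 (by decide) rfl), cw_map, lw2 (x := 0) (by decide),
    lw_cw (by decide) (g_mem (by decide))]

theorem hom (z : ∀ c, (∀ g, Commute c (τ g)) → c = 1) :
    ∃ ρ : Cfsg.Spor.Fi24 →* W G, ∀ x < 12, ρ (Fi24M.g x) = lw τ a x := by
  have h1 : ∀ r ∈ J24.rels, Spor.ev (lw τ a) r = 1 := fun r hr => h.rel (by revert r; decide +kernel)
  have h2 : ∀ r ∈ JFi24a.rels.take 80, Spor.ev (lw τ a) r = 1 := fun r hr => h.rel (by revert r; decide +kernel)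
  have hs : ∀ s ∈ JFi24a.seeds, SeedOk (fun x => ConjAct.toConjAct (lw τ a x)) (lw τ a 0) s :=
    F24.seeds_ok (map_one _) (rels_conj h1) fun x hx h1 => by
      rw [ConjAct.toConjAct_smul]
      exact conj_eq_of_commute (h.comm x hx 0 (by decide) (by revert x; decide))
  have sx : τ (cw gz xw (gz 0)) * τ (cw gz xw (gz 0)) = 1 := by rw [← map_mul, wt.sq _ xw_mem, map_one]
  have hK : ESt (fun x => ConjAct.toConjAct (lw τ a x)) JFi24a.nets 306936 (lw τ a 0) 306912 (ivl 0 3683232) :=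
    F24.est (rels_conj h2) hs (seedOk_conj (by
      rw [h.uw_eq]
      exact (co (by rw [← h.cx, mul_assoc, mul_assoc, mul_assoc, sx, mul_one, ← mul_assoc, sx, one_mul])).symm))
  have st : ∀ x y, (x < 12 && y < 12 && F24.adj x y) = true →
      (∃ u ∈ genL (lw τ a) (List.range 12), u * lw τ a 0 * u⁻¹ = lw τ a x) →
      ∃ u ∈ genL (lw τ a) (List.range 12), u * lw τ a 0 * u⁻¹ = lw τ a y := fun x y k ⟨u, m, e⟩ => by
    simp only [Bool.and_eq_true, decide_eq_true_eq] at k
    refine ⟨lw τ a x * lw τ a y * u, mul_mem (mul_mem (mem_genL _ (List.mem_range.2 k.1.1))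
      (mem_genL _ (List.mem_range.2 k.1.2))) m, ?_⟩
    rw [show ∀ g, g * u * lw τ a 0 * (g * u)⁻¹ = g * (u * lw τ a 0 * u⁻¹) * g⁻¹ from fun g => by group, e,
      h.br' x k.1.1 y k.1.2 k.2]; group
  have o0 : ∃ u ∈ genL (lw τ a) (List.range 12), u * lw τ a 0 * u⁻¹ = lw τ a 0 := ⟨1, one_mem _, by simp⟩
  have o1 := st 0 1 rfl o0
  have o2 := st 1 2 rfl o1
  have o3 := st 2 3 rfl o2
  have o4 := st 3 4 rfl o3
  have o5 := st 4 5 rfl o4
  have o6 := st 5 6 rfl o5
  have o7 := st 6 7 rfl o6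
  have o8 := st 7 8 rfl o7
  have o10 := st 5 10 rfl o5
  have all : ∀ x < 12, ∃ u ∈ genL (lw τ a) (List.range 12), u * lw τ a 0 * u⁻¹ = lw τ a x := fun x hx => by
    interval_cases x
    exacts [o0, o1, o2, o3, o4, o5, o6, o7, o8, st 8 9 rfl o8, o10, st 10 11 rfl o10]
  have hP : ∀ r ∈ JFi24a.rels, Spor.ev (lw τ a) r = 1 := fun r hr' => by
    have c : ∀ x < 12, Commute (Spor.ev (lw τ a) r) (lw τ a x) := fun x hx => by
      obtain ⟨u, m, e⟩ := all x hx
      exact e ▸ est_rels' JFi24a.ok JFi24a.fin hK h2 (by decide +kernel) (by clear e m; revert r; decide +kernel)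
        (JFi24a.hP r hr') m
    refine eq_one (S := {y | ∃ x < 10, τ (gz x) = y}) (fun e => h.a1 (by simpa [e] using h.a3)) (fun c hc => z c fun g => ?_)
      (c 0 (by decide)) (c 1 (by decide)) ?_
    · exact (mem_centralizer_singleton_iff.1 (genL_le (H := (centralizer {c}).comap τ) (fun x hx =>
        mem_centralizer_singleton_iff.2 (hc _ ⟨x, List.mem_range.1 hx, rfl⟩).symm.eq) (top10.ge (mem_top g)))).symm
    · rintro _ ⟨x, hx, rfl⟩
      have := (c (x + 2) (by omega)).mul_right (c 0 (by decide))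
      rwa [lw2 hx, o_eq (tsq hx), mul_assoc, show lw τ a 0 = o 1 from rfl, oo, mul_one] at this
  exact ⟨Fi24M.lt.toHom Fi24M.rp hP, fun x hx => Fi24M.lt.toHom_letG Fi24M.rp hP hx⟩

end N3
end Cfsg.Agent.F24U
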