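import Cfsg.Agent.F24U.LW
import Cfsg.Agent.Fischer.Cent

/-! Facts on `Fi23` (helper8): a product of two transpositions outside `O₈⁺(3):2` that lies in `O₈⁺(3)` (`xid`). -/

set_option autoImplicit false
set_option maxRecDepth 100000
set_option exponentiation.threshold 100000

namespace Cfsg.Agent.F24U
open Cfsg.Agent.Fischer Subgroup Cfsg.Agent.Spor F23 Fi23M

def uw : List ℕ := [1, 2, 3, 4, 5, 6, 7, 8, 3, 2, 1, 4, 3, 5, 4, 6, 9, 8, 3, 2, 1, 0, 4, 3, 2, 5, 4, 6, 5, 7, 8, 3, 4, 9, 8, 3, 2, 1, 0]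

def ww : List ℕ := [3, 8, 3, 2, 4, 9, 8, 3, 2, 1] ++ powW [8, 2, 7, 3, 5, 2, 6, 5, 4, 6, 3, 9] 6 ++ [1, 2, 3, 8, 9, 4, 2, 3, 8, 3]

theorem ev_cw {w : List ℕ} (h : ∀ x ∈ w, x < 11) : Spor.ev gz (w.reverse ++ [0] ++ w) = cw gz w (gz 0) := by
  rw [cw_eq fun x hx => sq (h x hx), Spor.ev_append, Spor.ev_append, Spor.ev_reverse fun x hx => sq (h x hx), ev_one,
    mul_assoc]

theorem xid : ∃ b ∈ Dd D23 (cw gz xw (gz 0)), cw gz xw (gz 0) * b = Spor.ev gz ww := by
  have e : T 14725 = cw gz uw (gz 0) := by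
    rw [cw_eq fun x hx => sq (by revert x; decide), ← t0]
    exact cm.tp_word (by decide) (by decide +kernel)
  refine ⟨T 14725, ⟨cm.tp_mem (by decide), ?_, ?_⟩, ?_⟩
  · rw [← t_xw, ne_eq, cm.tp_inj (by decide) (by decide)]; decide
  · have := cm.tp_word (w := uw.reverse ++ [0] ++ uw) (p := 12823) (q := 12823) (by decide) (by decide +kernel)
    rw [ev_cw (by decide), ← e] at this
    exact t_xw ▸ (mul_inv_eq_iff_eq_mul.1 this.symm).symm
  · rw [e, ← ev_cw (by decide), ← ev_cw (by decide), ← Spor.ev_append]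
    exact ev_eq_of_chk repz inj (L := 15) (by decide) (ws := [(_, _)]) (by decide +kernel) _ (.head _)

variable {G H : Type*} [Group G] [Group H]

theorem perf_triv [Group.IsPerfect G] (f : G →* H) (h : ∀ a b, Commute (f a) (f b)) (g : G) : f g = 1 :=
  (show commutator G ≤ f.ker from commutator_le.2 fun a _ b _ => by
    rw [MonoidHom.mem_ker, map_commutatorElement]; exact (h a b).commutator_eq) Group.IsPerfect.mem_commutator

theorem perf_perm [Group.IsPerfect G] {n : ℕ} (hn : n ≤ 3) (f : G →* Equiv.Perm (Fin n)) : ∀ g, f g = 1 := by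
  have k : ∀ a b : Equiv.Perm (Fin n), Equiv.Perm.sign a = 1 → Equiv.Perm.sign b = 1 → a * b = b * a := by
    interval_cases n <;> decide +kernel
  have := perf_triv (Equiv.Perm.sign.comp f) fun a b => mul_comm _ _
  exact perf_triv f fun a b => k _ _ (this a) (this b)

theorem mem_four {x y c : G} (hx : x * x = 1) (hy : y * y = 1) (h : Commute x y) (m : c ∈ closure {a | a ∈ [x, y]}) :
    c = 1 ∨ c = x ∨ c = y ∨ c = x * y := by
  refine closure_invol_induction (P := fun c => c = 1 ∨ c = x ∨ c = y ∨ c = x * y) (by simp [hx, hy]) (.inl rfl) ?_ m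
  intro s hs g _ k
  have e : ∀ g, x * (x * g) = g := fun g => by rw [← mul_assoc, hx, one_mul]
  obtain rfl | rfl : s = x ∨ s = y := by simpa using hs
  · rcases k with rfl | rfl | rfl | rfl <;> simp [hx, e]
  · rcases k with rfl | rfl | rfl | rfl <;> simp [hy, h.eq, ← mul_assoc]

/-- `Fi23` has no pure four-group centralised by a copy of `2²·U₆(2)`. -/
theorem no4 [Finite G] {T : Set G} (h : B23 T) {t1 t2 : G} (k : CL T [t1, t2]) (φ : centralizer {y | y ∈ [t1, t2]} →* G)
    (inj : Function.Injective φ) {a b : centralizer {y | y ∈ [t1, t2]}} (ha : a.1 = t1) (hb : b.1 = t2)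
    (c1 : IsConj (φ a) (φ b)) (c2 : IsConj (φ a) (φ a * φ b)) : False := by
  have w := h.fl.wt
  have cj : ∀ {x y}, IsConj x y → x ∈ T → y ∈ T := fun c m => by
    obtain ⟨g, rfl⟩ := isConj_iff.1 c; exact w.conj_mem (h.fl.top g) m
  have ca : ∀ g, Commute (φ g) (φ a) := fun g => (show Commute g a from Subtype.ext (mem_cent_list.1 g.2 a (by simp [ha])).eq).map φ
  have cb : ∀ g, Commute (φ g) (φ b) := fun g => (show Commute g b from Subtype.ext (mem_cent_list.1 g.2 b (by simp [hb])).eq).map φ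
  have n : φ a ≠ φ b := fun e => by simpa [← ha, ← hb, inj e] using k.1
  have n1 : φ a ≠ 1 := fun e => h.k.noCL.noC.one_not_mem (by
    have := k.2.1 t1 (by simp)
    rwa [← ha, (map_eq_one_iff φ inj).1 e] at this)
  have nT : φ a ∉ T := fun m => by
    simpa using (cl_two m (cj c1 m) n (cb a)).length_eq w (k := 1) (h.k.noCL.mono (by simp)) (l' := [φ a * φ b])
      ⟨by simp, by simpa using cj c2 m, by simp⟩ (by simp) (by simp) (.inl le_rfl) (by simp)
  obtain ⟨l, l1, l2, l3⟩ := h.inv (φ a) (by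
    rw [← map_mul, show a * a = 1 from Subtype.ext (ha ▸ w.sq t1 (k.2.1 t1 (by simp)) :), map_one])
  rcases l with _ | ⟨x, _ | ⟨y, r⟩⟩
  · exact n1 l3.symm
  · exact nT (l3 ▸ by simpa using l1.2.1 x (by simp))
  have k' : CL T [x, y] := l1.sublist (by simp)
  have : Group.IsPerfect (centralizer {y | y ∈ [t1, t2]}) := by
    obtain ⟨_, u⟩ := (h.cz2 k).2.2
    rw [(h.cz k).cen]; exact h.rl7.perfect w k (h.k.trA 2 (by decide)) (by simp) u.tr1
  obtain ⟨θ, hθ⟩ := exists_permHom (List.nodup_iff_injective_get.1 l1.1) φ.range (by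
    rintro _ ⟨g, rfl⟩ i
    exact (List.get_of_mem ((l1.conj_of_comm w (h.k.noCL.mono l2) l2 h.fl.top (l3 ▸ ca g)).1 _ (List.get_mem _ i))).imp
      fun _ => Eq.symm)
  have le : φ.range ≤ centralizer {a | a ∈ [x, y]} := by
    rintro _ ⟨g, rfl⟩
    refine mem_cent_list.2 fun a ha => ?_
    obtain ⟨i, rfl⟩ := List.get_of_mem (show a ∈ x :: y :: r from (by simp : [x, y].Sublist _).subset ha)
    have := hθ (φ.rangeRestrict g) i
    rw [show θ (φ.rangeRestrict g) = 1 from perf_perm l2 (θ.comp φ.rangeRestrict) g] at this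
    exact mul_inv_eq_iff_eq_mul.1 this.symm
  obtain ⟨g, -, e⟩ := h.k.trA 2 (by decide) _ _ k' k rfl rfl
  have eq := eq_of_le_of_card_ge le (by
    rw [← Nat.card_congr (MonoidHom.ofInjective inj).toEquiv]
    exact Nat.card_le_card_of_injective (fun c => ⟨g * c * g⁻¹, mem_cent_list.2 fun a ha => by
      obtain ⟨a, ha', rfl⟩ := List.mem_map.1 (e ▸ ha)
      exact (commute_conj_iff g).2 (mem_cent_list.1 c.2 a ha')⟩) fun c d e => Subtype.ext ((conj_inj g).1 (congrArg Subtype.val e)))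
  have key : ∀ c, (∀ g, Commute (φ g) c) → c ≠ 1 → c ∉ T → c = x * y := fun c hc n1 nT => by
    have mx := k'.2.1 x (by simp)
    have my := k'.2.1 y (by simp)
    rcases mem_four (w.sq x mx) (w.sq y my) (k'.2.2 x (by simp) y (by simp)) ((h.cz k').zen.2 fun v hv => by
      obtain ⟨g, rfl⟩ := eq.ge (mem_cent_list.2 fun a ha => (hv.2.2 a ha).symm)
      exact (hc g).symm) with e | e | e | e
    exacts [absurd e n1, absurd (e ▸ mx) nT, absurd (e ▸ my) nT, e]
  exact n ((key _ ca n1 nT).trans (key _ cb (fun e => n1 (isConj_one_left.1 (e ▸ c1))) (mt (cj c1.symm) nT)).symm)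

end Cfsg.Agent.F24U
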